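import Cfsg.Agent.Mrg.Omega.NO3S.MidB.Base
import Cfsg.Agent.Mrg.Omega.NO3S.PB.Geom
import Cfsg.Agent.Mrg.Omega.NO3S.ThmB.Main


/-!
# NO-3S, natural lines, critical distance 2, the `(R, B)`-frame: `Mid` from the hypotheses of the socket `MidB`

* `mid_of_crit` : `PB`, (F1), (T6) and a critical pair at distance 2 of `NOThree.Pts` give `Mid` and `Cr`;
* `front` : from `Hyp S P`, `FrB F S P B R`, (F1) and `Crit R (N_G(R)) {P} 2 1 y`.
-/

set_option autoImplicit false
set_option linter.unusedSectionVars false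

namespace Cfsg.Agent.Omega.NO3S.MidB

open Subgroup Cfsg Cfsg.Agent.Omega.NO3S.PT Cfsg.Agent.Omega.NoFF.Basic Cfsg.Agent.ZN
open Cfsg.Agent.Omega.NO3S.MidQ (Adj Com Cr)
open Cfsg.Agent.Omega.NOThree.Pts (Walk)
open Cfsg.Agent.Omega.NO3S.PtGeom (Pt inc)
open scoped Pointwise

section

variable {G : Type*} [Group G] [Finite G] {S : Sylow 2 G} {B P V Z : Subgroup G}

theorem mid_of_crit (h : PB S B P V Z) (hf : ¬ kx V Z ≤ centralizer (V : Set G)) (hO : OmB B V) {x y : Pt Z}
    (hc : NOThree.Pts.Crit (inc (Z := Z) (V := V)) (fun x : Pt Z => ws V x.sg) 2 x y) :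
    Mid S P V Z ∧ ∃ A R C, Cr V Z A R C := by
  obtain rfl := h.B_eq
  have hcom : ∀ X Y, Adj V Z X Y → Com V X Y := by
    rintro X Y ⟨hX, hY, hne, M, hM, hXM, hYM⟩ a ha
    rw [mem_centralizer_iff]
    intro b hb
    have h1 : Walk (inc (Z := Z) (V := V)) 1 (Pt.mk hX) (Pt.mk hY) :=
      (Walk.zero _).step (l := Pt.mk hM) hXM hYM
    exact (hc.min 1 (by norm_num) _ _ h1 a ha b hb).symm
  refine ⟨⟨h, hf, hO, hcom⟩, ?_⟩
  have h0 := hc.walk
  cases h0 with
  | @step k x r y l2 h1 hr hy =>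
    cases h1 with
    | @step k' x' x0 r' l1 h2 hx hr' =>
      cases h2 with
      | zero =>
        have hxr : x.sg ≠ r.sg := by
          intro e
          have e' : x = r := Pt.ext e
          subst e'
          exact hc.ne (hc.min 1 (by norm_num) _ _ ((Walk.zero _).step hr hy))
        have hry : r.sg ≠ y.sg := by
          intro e
          have e' : r = y := Pt.ext e
          subst e'
          exact hc.ne (hc.min 1 (by norm_num) _ _ ((Walk.zero _).step hx hr'))
        refine ⟨x.sg, r.sg, y.sg, ⟨x.isCj, r.isCj, hxr, l1.sg, l1.isCj, hx, hr'⟩,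
          ⟨r.isCj, y.isCj, hry, l2.sg, l2.isCj, hr, hy⟩, fun e => hc.ne fun a ha b hb => ?_⟩
        exact (mem_centralizer_iff.1 (e ha) b hb).symm

end

open Cfsg.Agent.Omega.MinPar Cfsg.Agent.Omega.Frame Cfsg.Agent.Omega.FrameNOFF
open Cfsg.Agent.Omega.NoFF.Lines (Crit)

universe u

/-- **the frame from the socket** -/
theorem front {G : Type u} [Group G] [Finite G] {S : Sylow 2 G} {P B R : Subgroup G} {F : Type} [Field F]
    (h : FrB F S P B R)
    (hf : ¬ kx (zl (S : Subgroup G) P) R ≤ centralizer (zl (S : Subgroup G) P : Set G))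
    {y : G} (hc : Crit R (normalizer (R : Set G)) {P} 2 1 y) :
    Mid S P (zl (S : Subgroup G) P) R ∧ ∃ A T C, Cr (zl (S : Subgroup G) P) R A T C :=
  mid_of_crit h.pb hf h.om (PB.Geom.crit h.pb h.pb.V_eq hc)

end Cfsg.Agent.Omega.NO3S.MidB
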