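import Cfsg.Agent.Mrg.Omega.NO3S.MidB.TF
import Cfsg.Agent.Omega.NO3S.MidQ.McL
import Cfsg.Agent.Mrg.Omega.NO3S.MidQ.Base

section


/-!
# TYPE N, K-free: `W_R / R` is an instance of `McL`

* `exists_md` : the module `M = W_R / R`;
* `lamR π A = π (A)`, `PhiR V Z R π A` : the endomorphisms `π w ↦ π [g, w]`, `g ∈ U_A`;
* `TF.jval` : (0) **`JVal V Z`**;
* `TF.mcl` : **the instance of `McL`**.
-/

set_option autoImplicit false
set_option linter.unusedSectionVars false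

namespace Cfsg.Agent.Omega.NO3S.MidB

open Subgroup Cfsg.Agent.Omega.NO3S.PT Cfsg.Agent.Omega.NoFF.Basic Cfsg.Agent.ZN
open Cfsg.Agent.Omega.NO3S.MidQ (Adj Com Cr UU ws_of kx_of isCj_iff adj_iff com_iff cr_iff UU_of isCj_symm isCj_trans
  com_cj UU_cj le_UU normalizer_le_UU isPGroup_sSup FlagCan PtCan ff mem_ff ff_cj TypN cw mem_cw cw_le cw_cj Jo jo_cj zu
  McL JJ Kl Dist surj_of_inj comm_inj)
open scoped Pointwise

universe u

variable {G : Type u} [Group G] {V Z X Y R L A A' B B' C : Subgroup G}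

/-! ### The module -/

theorem exists_md [Finite G] {S : Sylow 2 G} {P : Subgroup G} (h : Mid S P V Z) (hR : IsCj Z R) :
    ∃ (M : Type u) (_ : AddCommGroup M) (π : G → M), Md V R π := by
  classical
  let _ : CommGroup (ws V R) :=
    { (inferInstance : Group (ws V R)) with mul_comm := fun a b => Subtype.ext (h.ws_comm hR a.2 b.2) }
  let R' : Subgroup (ws V R) := R.subgroupOf (ws V R)
  let π : G → Additive (ws V R ⧸ R') := fun w => if hw : w ∈ ws V R then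
    Additive.ofMul (QuotientGroup.mk ⟨w, hw⟩) else 0
  have hπ : ∀ w (hw : w ∈ ws V R), π w = Additive.ofMul (QuotientGroup.mk ⟨w, hw⟩) := fun w hw => dif_pos hw
  refine ⟨Additive (ws V R ⧸ R'), inferInstance, π, ?_, ?_, ?_, ?_⟩
  · exact (inferInstance : Finite (ws V R ⧸ R'))
  · intro a ha b hb
    rw [hπ a ha, hπ b hb, hπ _ (mul_mem ha hb)]
    rfl
  · intro a ha
    rw [hπ a ha]
    constructor
    · intro e
      have e1 : (QuotientGroup.mk ⟨a, ha⟩ : ws V R ⧸ R') = 1 := e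
      rw [QuotientGroup.eq_one_iff] at e1
      exact mem_subgroupOf.1 e1
    · intro e
      have e1 : (QuotientGroup.mk ⟨a, ha⟩ : ws V R ⧸ R') = 1 := by
        rw [QuotientGroup.eq_one_iff]
        exact mem_subgroupOf.2 e
      exact e1
  · intro m
    obtain ⟨⟨w, hw⟩, e⟩ := QuotientGroup.mk_surjective (Additive.toMul m)
    exact ⟨w, hw, by rw [hπ w hw, e]; rfl⟩

section

variable {M : Type*} [AddCommGroup M] {π : G → M}

namespace Md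

variable (hM : Md V R π)
include hM

theorem map_one : π 1 = 0 := (hM.ker 1 (one_mem _)).2 (one_mem _)

theorem map_inv {a : G} (ha : a ∈ ws V R) : π a⁻¹ = - π a := by
  have h1 := hM.mul a ha a⁻¹ (inv_mem ha)
  rw [mul_inv_cancel, hM.map_one] at h1
  exact (neg_eq_of_add_eq_zero_right h1.symm).symm

theorem mem_of {a b : G} (ha : a ∈ ws V R) (hb : b ∈ ws V R) (e : π a = π b) : a * b⁻¹ ∈ R := by
  rw [← hM.ker _ (mul_mem ha (inv_mem hb)), hM.mul a ha _ (inv_mem hb), hM.map_inv hb, e, add_neg_cancel]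

theorem eq_of {a b : G} (ha : a ∈ ws V R) (hb : b ∈ ws V R) (e : a * b⁻¹ ∈ R) : π a = π b := by
  rw [← hM.ker _ (mul_mem ha (inv_mem hb)), hM.mul a ha _ (inv_mem hb), hM.map_inv hb, add_neg_eq_zero] at e
  exact e

theorem exists_lift (f : G → G) (hf : ∀ w ∈ ws V R, f w ∈ ws V R)
    (hmul : ∀ a ∈ ws V R, ∀ b ∈ ws V R, f (a * b) = f a * f b) (hfR : ∀ a ∈ ws V R, a ∈ R → f a ∈ R) :
    ∃ φ : AddMonoid.End M, ∀ w ∈ ws V R, φ (π w) = π (f w) := by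
  choose s hs hsm using hM.surj
  have key : ∀ w ∈ ws V R, π (f (s (π w))) = π (f w) := by
    intro w hw
    have h1 := hM.mem_of (hs (π w)) hw (hsm (π w))
    have hr : s (π w) * w⁻¹ ∈ ws V R := mul_mem (hs _) (inv_mem hw)
    have e : s (π w) = s (π w) * w⁻¹ * w := by group
    rw [e, hmul _ hr _ hw, hM.mul _ (hf _ hr) _ (hf _ hw), (hM.ker _ (hf _ hr)).2 (hfR _ hr h1), zero_add]
  refine ⟨{ toFun := fun m => π (f (s m)), map_zero' := ?_, map_add' := ?_ }, fun w hw => key w hw⟩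
  · have h1 := key 1 (one_mem _)
    rw [hM.map_one] at h1
    rw [h1, hM.ker _ (hf _ (one_mem _))]
    exact hfR 1 (one_mem _) (one_mem _)
  · intro m n
    have h1 := key (s m * s n) (mul_mem (hs m) (hs n))
    rw [hM.mul _ (hs m) _ (hs n), hsm, hsm, hmul _ (hs m) _ (hs n), hM.mul _ (hf _ (hs m)) _ (hf _ (hs n))] at h1
    exact h1

theorem end_ext {φ ψ : AddMonoid.End M} (e : ∀ w ∈ ws V R, φ (π w) = ψ (π w)) : φ = ψ := by
  ext m
  obtain ⟨w, hw, rfl⟩ := hM.surj m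
  exact e w hw

end Md

/-- `π (A)` -/
def lamR (π : G → M) (A : Subgroup G) : AddSubgroup M := AddSubgroup.closure (π '' (A : Set G))

/-- the endomorphisms induced by `g - 1`, `g ∈ U_A` -/
def PhiR (V Z R : Subgroup G) (π : G → M) (A : Subgroup G) : AddSubgroup (AddMonoid.End M) :=
  AddSubgroup.closure {φ | ∃ g ∈ UU V Z A, ∀ w ∈ ws V R, φ (π w) = π (g * w * g⁻¹ * w⁻¹)}

theorem mem_lamR (hM : Md V R π) (hA : A ≤ ws V R) {m : M} : m ∈ lamR π A ↔ ∃ a ∈ A, π a = m := by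
  constructor
  · intro hm
    let K : AddSubgroup M :=
      { carrier := {m | ∃ a ∈ A, π a = m}
        zero_mem' := ⟨1, one_mem _, hM.map_one⟩
        add_mem' := by
          rintro _ _ ⟨a, ha, rfl⟩ ⟨b, hb, rfl⟩
          exact ⟨a * b, mul_mem ha hb, hM.mul a (hA ha) b (hA hb)⟩
        neg_mem' := by
          rintro _ ⟨a, ha, rfl⟩
          exact ⟨a⁻¹, inv_mem ha, hM.map_inv (hA ha)⟩ }
    have h1 : lamR π A ≤ K := by
      rw [lamR, AddSubgroup.closure_le]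
      rintro _ ⟨a, ha, rfl⟩
      exact ⟨a, ha, rfl⟩
    exact h1 hm
  · rintro ⟨a, ha, rfl⟩
    exact AddSubgroup.subset_closure ⟨a, ha, rfl⟩

end

/-! ### (0) -/

namespace TF

variable [Finite G] {S : Sylow 2 G} {P : Subgroup G} (h : TF S P V Z)
include h

/-- **(0')** `[W_C, β] = A` elementwise, if `C ~ A ~ R`, `β ∈ B ~ R`, and `W_C` moves `B` -/
theorem exists_val' (hA : Adj V Z A R) (hB : Adj V Z B R) (hC : Adj V Z C A)
    (hmv : ¬ B ≤ centralizer ((ws V C : Subgroup G) : Set G)) {β α : G} (hβ : β ∈ B) (hβ1 : β ≠ 1) (hα : α ∈ A) :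
    ∃ g ∈ ws V C, g * β * g⁻¹ * β⁻¹ = α := by
  have hβR : β ∈ ws V R := h.adj_le_ws hB.symm hβ
  -- `β` centralises `C`
  have hβC : ∀ c ∈ C, β * c = c * β := fun c hc =>
    (mem_centralizer_iff.1 (h.ws_le_cent hA.symm hC.symm hβR) c hc).symm
  have hβ2 : TwoEl β := h.twoEl_ws hA.right hβR
  -- a point `F ~ C` is moved by `β`
  obtain ⟨F, hF, φ₀, hφ₀, hne⟩ : ∃ F, Adj V Z F C ∧ ∃ φ ∈ F, β * φ ≠ φ * β := by
    by_contra hcon
    push Not at hcon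
    have h1 : ws V C ≤ centralizer ({β} : Set G) := h.ws_le_of hC.left
      (fun c hc => mem_centralizer_singleton_iff.2 (hβC c hc).symm)
      (fun F hF φ hφ => mem_centralizer_singleton_iff.2 (hcon F hF φ hφ).symm)
    refine hmv fun b hb => mem_centralizer_iff.2 fun w hw => ?_
    refine h.t3 hB.symm (h.twoEl_ws hC.left hw) (fun y hy => ?_) hβ hβ1 (mem_centralizer_singleton_iff.1 (h1 hw)) b hb
    exact (mem_centralizer_iff.1 (h.ws_le_cent hC hA hw) y hy).symm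
  have hFC : F ≤ ws V C := h.adj_le_ws hF.symm
  have hinj : ∀ φ ∈ F, φ * β = β * φ → φ = 1 := by
    intro φ hφ e
    by_contra hφ1
    exact hne (h.t3 hF.symm hβ2 hβC hφ hφ1 e.symm φ₀ hφ₀)
  obtain ⟨g, hg, e⟩ := surj_of_inj (A := F) (B := A) (by rw [h.card_pt hF.left, h.card_pt hA.left])
    (fun φ => φ * β * φ⁻¹ * β⁻¹) (fun φ hφ => h.mid_mem h.comm hC hA (hFC hφ) hβR) (fun φ hφ φ' hφ' e =>
      inv_mul_eq_one.1 (hinj _ (mul_mem (inv_mem hφ) hφ') (comm_inj e))) α hα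
  exact ⟨g, hFC hg, e⟩

/-- some `W_C`, `C ~ A`, moves `B` -/
theorem exists_of_jo (hj : Jo V Z R A B) : ∃ C, Adj V Z C A ∧ ¬ B ≤ centralizer ((ws V C : Subgroup G) : Set G) := by
  by_contra hcon
  push Not at hcon
  refine hj.mv (comm_symm (sSup_le ?_))
  rintro _ ⟨C, hC, rfl⟩
  exact comm_symm (hcon C hC)

/-- **(0)** -/
theorem jval : JVal V Z := by
  intro R A B hj β hβ hβ1 α hα
  obtain ⟨C, hC, hmv⟩ := h.exists_of_jo hj
  obtain ⟨g, hg, e⟩ := h.exists_val' hj.l hj.r hC hmv hβ hβ1 hα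
  exact ⟨g, le_UU hC hg, e⟩

end TF

end Cfsg.Agent.Omega.NO3S.MidB

end

section


/-!
# TYPE N, K-free: the instance of `McL` on `W_R / R`

* `TF.mcl` : **the instance**;
* `TF.jj_iff`, `TF.kl_iff` : translation.
-/

set_option autoImplicit false
set_option linter.unusedSectionVars false

namespace Cfsg.Agent.Omega.NO3S.MidB

open Subgroup Cfsg.Agent.Omega.NO3S.PT Cfsg.Agent.Omega.NoFF.Basic Cfsg.Agent.ZN
open Cfsg.Agent.Omega.NO3S.MidQ (Adj Com Cr UU ws_of kx_of isCj_iff adj_iff com_iff cr_iff UU_of isCj_symm isCj_trans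
  com_cj UU_cj le_UU normalizer_le_UU isPGroup_sSup FlagCan PtCan ff mem_ff ff_cj TypN cw mem_cw cw_le cw_cj Jo jo_cj zu
  McL JJ Kl Dist surj_of_inj comm_inj)
open scoped Pointwise

universe u

variable {G : Type u} [Group G] {V Z X Y R L A A' B B' C : Subgroup G}
variable {M : Type*} [AddCommGroup M] {π : G → M}

namespace TF

variable [Finite G] {S : Sylow 2 G} {P : Subgroup G} (h : TF S P V Z)
include h

/-! ### `U_A` on `W_R` -/

theorem u_R (hA : Adj V Z A R) {g : G} (hg : g ∈ UU V Z A) {r : G} (hr : r ∈ R) : g * r = r * g :=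
  (mem_centralizer_iff.1 (h.UU_le_cent_adj hA.symm hg) r hr).symm

theorem u_A (hA : Adj V Z A R) {g : G} (hg : g ∈ UU V Z A) {a : G} (ha : a ∈ A) : g * a = a * g :=
  (mem_centralizer_iff.1 (h.UU_le_cent_pt hA.left hg) a ha).symm

theorem u_ws (hA : Adj V Z A R) {g : G} (hg : g ∈ UU V Z A) {w : G} (hw : w ∈ ws V R) : g * w * g⁻¹ ∈ ws V R :=
  (mem_normalizer_iff.1 (h.UU_norm hA.symm hg) w).1 hw

theorem adj_ws (hA : Adj V Z A R) : A ≤ ws V R := h.adj_le_ws hA.symm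

theorem c_ws (hA : Adj V Z A R) {g : G} (hg : g ∈ UU V Z A) {w : G} (hw : w ∈ ws V R) :
    g * w * g⁻¹ * w⁻¹ ∈ ws V R := h.adj_ws hA (h.comm_adj hA hg hw)

theorem c_mul (hA : Adj V Z A R) {g : G} (hg : g ∈ UU V Z A) {w w' : G} (hw : w ∈ ws V R) (hw' : w' ∈ ws V R) :
    g * (w * w') * g⁻¹ * (w * w')⁻¹ = g * w * g⁻¹ * w⁻¹ * (g * w' * g⁻¹ * w'⁻¹) := by
  have h1 := h.ws_comm hA.right hw (h.c_ws hA hg hw')
  calc g * (w * w') * g⁻¹ * (w * w')⁻¹ = g * w * g⁻¹ * w⁻¹ * (w * (g * w' * g⁻¹ * w'⁻¹)) * w⁻¹ := by group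
    _ = g * w * g⁻¹ * w⁻¹ * (g * w' * g⁻¹ * w'⁻¹) := by rw [h1]; group

theorem c_mul' (hA : Adj V Z A R) {g g' : G} (hg : g ∈ UU V Z A) (hg' : g' ∈ UU V Z A) {w : G} (hw : w ∈ ws V R) :
    g * g' * w * (g * g')⁻¹ * w⁻¹ = g * w * g⁻¹ * w⁻¹ * (g' * w * g'⁻¹ * w⁻¹) := by
  have h1 := h.u_A hA hg (h.comm_adj hA hg' hw)
  have h2 := h.ws_comm hA.right (h.c_ws hA hg hw) (h.c_ws hA hg' hw)
  calc g * g' * w * (g * g')⁻¹ * w⁻¹ = g * (g' * w * g'⁻¹ * w⁻¹) * (w * g⁻¹ * w⁻¹) := by group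
    _ = g' * w * g'⁻¹ * w⁻¹ * (g * w * g⁻¹ * w⁻¹) := by rw [h1]; group
    _ = _ := h2.symm

theorem c_inv (hA : Adj V Z A R) {g : G} (hg : g ∈ UU V Z A) {w : G} (hw : w ∈ ws V R) :
    g⁻¹ * w * g⁻¹⁻¹ * w⁻¹ = (g * w * g⁻¹ * w⁻¹)⁻¹ := by
  have h1 := h.u_A hA (inv_mem hg) (inv_mem (h.comm_adj hA hg hw))
  calc g⁻¹ * w * g⁻¹⁻¹ * w⁻¹ = g⁻¹ * (g * w * g⁻¹ * w⁻¹)⁻¹ * g := by group
    _ = _ := by rw [h1]; group

theorem inf_R (hA : Adj V Z A R) {a : G} (ha : a ∈ A) (hR : a ∈ R) : a = 1 := h.pt_inf hA.left hA.right hA.ne ha hR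

theorem not_comm_iff (hA : Adj V Z A R) {g w : G} (hg : g ∈ UU V Z A) (hw : w ∈ ws V R) :
    g * w * g⁻¹ * w⁻¹ ∈ R ↔ g * w = w * g := by
  constructor
  · intro e
    exact Mid.comm_eq (h.inf_R hA (h.comm_adj hA hg hw) e)
  · intro e
    rw [Mid.comm_one e]
    exact one_mem _

/-! ### Translation -/

variable (hM : Md V R π)
include hM

theorem exists_phi (hA : Adj V Z A R) {g : G} (hg : g ∈ UU V Z A) :
    ∃ φ ∈ PhiR V Z R π A, ∀ w ∈ ws V R, φ (π w) = π (g * w * g⁻¹ * w⁻¹) := by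
  obtain ⟨φ, hφ⟩ := hM.exists_lift (fun w => g * w * g⁻¹ * w⁻¹) (fun w hw => h.c_ws hA hg hw)
    (fun a ha b hb => h.c_mul hA hg ha hb) (fun r _ hr => by
      show g * r * g⁻¹ * r⁻¹ ∈ R
      rw [h.u_R hA hg hr, mul_inv_cancel_right, mul_inv_cancel]
      exact one_mem _)
  exact ⟨φ, AddSubgroup.subset_closure ⟨g, hg, hφ⟩, hφ⟩

theorem mem_phi (hA : Adj V Z A R) {φ : AddMonoid.End M} :
    φ ∈ PhiR V Z R π A ↔ ∃ g ∈ UU V Z A, ∀ w ∈ ws V R, φ (π w) = π (g * w * g⁻¹ * w⁻¹) := by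
  constructor
  · intro hφ
    let K : AddSubgroup (AddMonoid.End M) :=
      { carrier := {φ | ∃ g ∈ UU V Z A, ∀ w ∈ ws V R, φ (π w) = π (g * w * g⁻¹ * w⁻¹)}
        zero_mem' := ⟨1, one_mem _, fun w _ => by
          have e : (1 : G) * w * 1⁻¹ * w⁻¹ = 1 := by group
          rw [e, hM.map_one]
          rfl⟩
        add_mem' := by
          rintro φ ψ ⟨g, hg, e⟩ ⟨g', hg', e'⟩
          refine ⟨g * g', mul_mem hg hg', fun w hw => ?_⟩
          rw [h.c_mul' hA hg hg' hw, hM.mul _ (h.c_ws hA hg hw) _ (h.c_ws hA hg' hw), ← e w hw, ← e' w hw]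
          rfl
        neg_mem' := by
          rintro φ ⟨g, hg, e⟩
          refine ⟨g⁻¹, inv_mem hg, fun w hw => ?_⟩
          rw [h.c_inv hA hg hw, hM.map_inv (h.c_ws hA hg hw), ← e w hw]
          rfl }
    have h1 : PhiR V Z R π A ≤ K := by
      rw [PhiR, AddSubgroup.closure_le]
      intro φ hφ
      exact hφ
    exact h1 hφ
  · intro hφ
    exact AddSubgroup.subset_closure hφ

theorem mem_lam (hA : Adj V Z A R) {m : M} : m ∈ lamR π A ↔ ∃ a ∈ A, π a = m := mem_lamR hM (h.adj_ws hA)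

theorem pi_mem (hA : Adj V Z A R) {a : G} (ha : a ∈ A) : π a ∈ lamR π A := (h.mem_lam hM hA).2 ⟨a, ha, rfl⟩

theorem pi_ne (hA : Adj V Z A R) {a : G} (ha : a ∈ A) (ha1 : a ≠ 1) : π a ≠ 0 := fun e =>
  ha1 (h.inf_R hA ha ((hM.ker a (h.adj_ws hA ha)).1 e))

theorem pi_inj (hA : Adj V Z A R) {a a' : G} (ha : a ∈ A) (ha' : a' ∈ A) (e : π a = π a') : a = a' := by
  have h1 := hM.mem_of (h.adj_ws hA ha) (h.adj_ws hA ha') e
  exact mul_inv_eq_one.1 (h.inf_R hA (mul_mem ha (inv_mem ha')) h1)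

/-- `φ (π w) = 0` iff `g` commutes with `w` -/
theorem phi_zero_iff (hA : Adj V Z A R) {g : G} (hg : g ∈ UU V Z A) {φ : AddMonoid.End M}
    (hφ : ∀ w ∈ ws V R, φ (π w) = π (g * w * g⁻¹ * w⁻¹)) {w : G} (hw : w ∈ ws V R) :
    φ (π w) = 0 ↔ g * w = w * g := by
  rw [hφ w hw, hM.ker _ (h.c_ws hA hg hw), h.not_comm_iff hA hg hw]

theorem kl_iff (hA : Adj V Z A R) (hB : Adj V Z B R) {g : G} (hg : g ∈ UU V Z A) {φ : AddMonoid.End M}
    (hφ : ∀ w ∈ ws V R, φ (π w) = π (g * w * g⁻¹ * w⁻¹)) :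
    (∀ b ∈ lamR π B, φ b = 0) ↔ ∀ b ∈ B, g * b = b * g := by
  constructor
  · intro e b hb
    exact (h.phi_zero_iff hM hA hg hφ (h.adj_ws hB hb)).1 (e _ (h.pi_mem hM hB hb))
  · intro e m hm
    obtain ⟨b, hb, rfl⟩ := (h.mem_lam hM hB).1 hm
    exact (h.phi_zero_iff hM hA hg hφ (h.adj_ws hB hb)).2 (e b hb)

theorem card_lam (hA : Adj V Z A R) : Nat.card (lamR π A) = Nat.card Z := by
  rw [← h.card_pt hA.left]
  let f : A → lamR π A := fun a => ⟨π a, h.pi_mem hM hA a.2⟩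
  refine (Nat.card_congr (Equiv.ofBijective f ⟨fun a b e => ?_, ?_⟩)).symm
  · exact Subtype.ext (h.pi_inj hM hA a.2 b.2 (congrArg Subtype.val e))
  · rintro ⟨m, hm⟩
    obtain ⟨a, ha, rfl⟩ := (h.mem_lam hM hA).1 hm
    exact ⟨⟨a, ha⟩, rfl⟩

/-! ### Conjugation -/

theorem card_phi_le (hA : Adj V Z A R) (hB : Adj V Z B R) :
    Nat.card (PhiR V Z R π A) ≤ Nat.card (PhiR V Z R π B) := by
  have hfin := hM.fin
  have : Finite (AddMonoid.End M) := DFunLike.finite _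
  obtain ⟨n, hnR, hnA⟩ := h.exists_adj hA hB
  have hnR' : PT.cj n⁻¹ R = R := by
    nth_rewrite 1 [← hnR]
    rw [cj_cj, inv_mul_cancel, cj_one]
  have hW : ∀ n : G, PT.cj n R = R → ∀ w ∈ ws V R, n * w * n⁻¹ ∈ ws V R := by
    intro n hn w hw
    have h1 : n * w * n⁻¹ ∈ PT.cj n (ws V R) := conj_mem_cj hw
    rwa [← ws_cj, hn] at h1
  have hRR : ∀ n : G, PT.cj n R = R → ∀ w ∈ R, n * w * n⁻¹ ∈ R := by
    intro n hn w hw
    have h1 : n * w * n⁻¹ ∈ PT.cj n R := conj_mem_cj hw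
    rwa [hn] at h1
  have hl : ∀ n : G, PT.cj n R = R → ∃ ν : AddMonoid.End M, ∀ w ∈ ws V R, ν (π w) = π (n * w * n⁻¹) := fun n hn =>
    hM.exists_lift (fun w => n * w * n⁻¹) (hW n hn) (fun a _ b _ => by group) (fun a _ ha => hRR n hn a ha)
  obtain ⟨ν, hν⟩ := hl n hnR
  obtain ⟨ν', hν'⟩ := hl n⁻¹ hnR'
  have e1 : ν' * ν = 1 := by
    refine hM.end_ext fun w hw => ?_
    show ν' (ν (π w)) = π w
    rw [hν w hw, hν' _ (hW n hnR w hw)]
    congr 1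
    group
  have key : ∀ φ ∈ PhiR V Z R π A, ν * φ * ν' ∈ PhiR V Z R π B := by
    intro φ hφ
    obtain ⟨g, hg, e⟩ := (h.mem_phi hM hA).1 hφ
    refine (h.mem_phi hM hB).2 ⟨n * g * n⁻¹, ?_, fun w hw => ?_⟩
    · rw [← hnA, UU_cj]
      exact conj_mem_cj hg
    · show ν (φ (ν' (π w))) = _
      have hw' := hW _ hnR' w hw
      rw [hν' w hw, e _ hw', hν _ (h.c_ws hA hg hw')]
      congr 1
      group
  let f : PhiR V Z R π A → PhiR V Z R π B := fun φ => ⟨ν * φ.1 * ν', key φ.1 φ.2⟩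
  have e2 : ν * ν' = 1 := by
    refine hM.end_ext fun w hw => ?_
    show ν (ν' (π w)) = π w
    rw [hν' w hw, hν _ (hW _ hnR' w hw)]
    congr 1
    group
  refine Nat.card_le_card_of_injective f fun φ ψ e => ?_
  have h1 : ν * φ.1 * ν' = ν * ψ.1 * ν' := congrArg Subtype.val e
  have h2 : ν' * (ν * φ.1 * ν') * ν = ν' * (ν * ψ.1 * ν') * ν := by rw [h1]
  have e3 : ∀ φ : AddMonoid.End M, ν' * (ν * φ * ν') * ν = φ := by
    intro φ
    calc ν' * (ν * φ * ν') * ν = ν' * ν * φ * (ν' * ν) := by simp only [mul_assoc]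
      _ = φ := by rw [e1, one_mul, mul_one]
  rw [e3, e3] at h2
  exact Subtype.ext h2

/-- points on one line through `R` -/
theorem same_line (hA : Adj V Z A R) (hB : Adj V Z B R) (hL : IsCj V L) (hRL : R ≤ L) (hAL : A ≤ L) (hBL : B ≤ L) :
    lamR π A ≤ lamR π B ∧ PhiR V Z R π A ≤ PhiR V Z R π B := by
  obtain ⟨k, hk, rfl⟩ := h.K_trans hA.right hL hRL hA.left hAL hB.left hBL hA.ne hB.ne
  have hkW : ∀ w ∈ ws V R, k * w * k⁻¹ * w⁻¹ ∈ R := (mem_kx.1 hk).2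
  have hk' := inv_mem hk
  have hkW' : ∀ w ∈ ws V R, k⁻¹ * w * k⁻¹⁻¹ * w⁻¹ ∈ R := (mem_kx.1 hk').2
  have hRW := h.pt_le_ws hA.right
  have hkw : ∀ w ∈ ws V R, k * w * k⁻¹ ∈ ws V R := fun w hw => by
    have e : k * w * k⁻¹ = k * w * k⁻¹ * w⁻¹ * w := by group
    rw [e]
    exact mul_mem (hRW (hkW w hw)) hw
  have hkw' : ∀ w ∈ ws V R, k⁻¹ * w * k⁻¹⁻¹ ∈ ws V R := fun w hw => by
    have e : k⁻¹ * w * k⁻¹⁻¹ = k⁻¹ * w * k⁻¹⁻¹ * w⁻¹ * w := by group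
    rw [e]
    exact mul_mem (hRW (hkW' w hw)) hw
  constructor
  · intro m hm
    obtain ⟨a, ha, rfl⟩ := (h.mem_lam hM hA).1 hm
    refine (h.mem_lam hM hB).2 ⟨k * a * k⁻¹, conj_mem_cj ha, ?_⟩
    exact hM.eq_of (hkw a (h.adj_ws hA ha)) (h.adj_ws hA ha) (hkW a (h.adj_ws hA ha))
  · intro φ hφ
    obtain ⟨g, hg, e⟩ := (h.mem_phi hM hA).1 hφ
    refine (h.mem_phi hM hB).2 ⟨k * g * k⁻¹, ?_, fun w hw => ?_⟩
    · rw [UU_cj]
      exact conj_mem_cj hg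
    · have h1 := hkw' w hw
      have h2 : π w = π (k⁻¹ * w * k⁻¹⁻¹) := (hM.eq_of h1 hw (hkW' w hw)).symm
      rw [h2, e _ h1]
      have h3 := h.c_ws hA hg h1
      have h4 : k * (g * (k⁻¹ * w * k⁻¹⁻¹) * g⁻¹ * (k⁻¹ * w * k⁻¹⁻¹)⁻¹) * k⁻¹ =
          k * g * k⁻¹ * w * (k * g * k⁻¹)⁻¹ * w⁻¹ := by group
      rw [← h4]
      exact (hM.eq_of (hkw _ h3) h3 (hkW _ h3)).symm

/-- **the instance of `McL`** -/
theorem mcl (hR : IsCj Z R) : McL (fun i : {A // Adj V Z A R} => lamR π i.1) (fun i => PhiR V Z R π i.1) where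
  fin := hM.fin
  two m := by
    obtain ⟨w, hw, rfl⟩ := hM.surj m
    rw [← hM.mul w hw w hw, h.ws_sq hR hw, hM.map_one]
  val i φ hφ m := by
    obtain ⟨g, hg, e⟩ := (h.mem_phi hM i.2).1 hφ
    obtain ⟨w, hw, rfl⟩ := hM.surj m
    rw [e w hw]
    exact h.pi_mem hM i.2 (h.comm_adj i.2 hg hw)
  ker i φ hφ a ha := by
    obtain ⟨g, hg, e⟩ := (h.mem_phi hM i.2).1 hφ
    exact (h.kl_iff hM i.2 i.2 hg e).2 (fun a ha => h.u_A i.2 hg ha) a ha
  ti i j φ hφ b hb hb0 hφb := by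
    obtain ⟨g, hg, e⟩ := (h.mem_phi hM i.2).1 hφ
    refine (h.kl_iff hM i.2 j.2 hg e).2 ?_
    obtain ⟨β, hβ, rfl⟩ := (h.mem_lam hM j.2).1 hb
    have hβ1 : β ≠ 1 := fun e => hb0 (by rw [e, hM.map_one])
    have h1 := (h.phi_zero_iff hM i.2 hg e (h.adj_ws j.2 hβ)).1 hφb
    exact h.t3 j.2.symm (h.twoEl_UU hg) (fun r hr => h.u_R i.2 hg hr) hβ hβ1 h1
  card i j := by rw [h.card_lam hM i.2, h.card_lam hM j.2]
  surj i j b hb := by
    rintro ⟨φ, hφ, hφb⟩ a ha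
    obtain ⟨g, hg, e⟩ := (h.mem_phi hM i.2).1 hφ
    obtain ⟨β, hβ, rfl⟩ := (h.mem_lam hM j.2).1 hb
    obtain ⟨α, hα, rfl⟩ := (h.mem_lam hM i.2).1 ha
    have h1 : g * β ≠ β * g := fun e1 => hφb ((h.phi_zero_iff hM i.2 hg e (h.adj_ws j.2 hβ)).2 e1)
    have hβ1 : β ≠ 1 := fun e1 => h1 (by rw [e1, mul_one, one_mul])
    have hj : Jo V Z R i.1 j.1 := ⟨i.2, j.2, fun e1 => h1 (mem_centralizer_iff.1 (e1 hβ) g hg)⟩
    obtain ⟨g', hg', e'⟩ := h.jval R i.1 j.1 hj β hβ hβ1 α hα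
    obtain ⟨ψ, hψ, e2⟩ := h.exists_phi hM i.2 hg'
    exact ⟨ψ, hψ, by rw [e2 β (h.adj_ws j.2 hβ), e']⟩
  cardΦ i j := le_antisymm (h.card_phi_le hM i.2 j.2) (h.card_phi_le hM j.2 i.2)
  mv i j φ hφ := by
    obtain ⟨g, hg, e⟩ := (h.mem_phi hM i.2).1 hφ
    have hk : Adj V Z (PT.cj g j.1) R := h.adj_cj_UU i.2 j.2 hg
    have hg' := inv_mem hg
    -- the action of `1 + φ`
    have e1 : ∀ w ∈ ws V R, (1 + φ) (π w) = π (g * w * g⁻¹) := by
      intro w hw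
      show π w + φ (π w) = _
      rw [e w hw, ← hM.mul w hw _ (h.c_ws i.2 hg hw), h.ws_comm hR hw (h.c_ws i.2 hg hw)]
      congr 1
      group
    have e2 : ∀ w ∈ ws V R, (1 + φ) (π w) = π (g⁻¹ * w * g) := by
      intro w hw
      show π w + φ (π w) = _
      have h1 := h.c_ws i.2 hg hw
      have h2 : φ (π w) = π (g⁻¹ * w * g⁻¹⁻¹ * w⁻¹) := by
        rw [h.c_inv i.2 hg hw, e w hw, h.ws_inv hR h1]
      rw [h2, ← hM.mul w hw _ (h.c_ws i.2 hg' hw), h.ws_comm hR hw (h.c_ws i.2 hg' hw)]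
      congr 1
      group
    refine ⟨⟨PT.cj g j.1, hk⟩, fun m hm => ?_, fun ψ hψ => ?_⟩
    · obtain ⟨b, hb, rfl⟩ := (h.mem_lam hM j.2).1 hm
      have h1 := e1 b (h.adj_ws j.2 hb)
      have h2 : π b + φ (π b) = π (g * b * g⁻¹) := h1
      rw [h2]
      exact h.pi_mem hM hk (conj_mem_cj hb)
    · obtain ⟨k, hk', e3⟩ := (h.mem_phi hM j.2).1 hψ
      refine (h.mem_phi hM hk).2 ⟨g * k * g⁻¹, ?_, fun w hw => ?_⟩
      · rw [UU_cj]
        exact conj_mem_cj hk'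
      · show (1 + φ) (ψ ((1 + φ) (π w))) = _
        have hw1 : g⁻¹ * w * g ∈ ws V R := by
          have := h.u_ws i.2 hg' hw
          rwa [inv_inv] at this
        rw [e2 w hw, e3 _ hw1, e1 _ (h.c_ws j.2 hk' hw1)]
        congr 1
        group
  lne i := by
    obtain ⟨a, ha, ha1⟩ := h.pt_ne_bot i.2.left
    exact ⟨π a, h.pi_mem hM i.2 ha, h.pi_ne hM i.2 ha ha1⟩
  ne i := by
    obtain ⟨B, hc⟩ := h.exists_crit i.2.symm
    obtain ⟨g, hg, w, hw, hgw⟩ : ∃ g ∈ ws V B, ∃ w ∈ ws V R, g * w ≠ w * g := by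
      by_contra hcon
      push Not at hcon
      exact hc.ne fun w hw => mem_centralizer_iff.2 fun g hg => hcon g hg w hw
    have hgU : g ∈ UU V Z i.1 := le_UU hc.r.symm hg
    obtain ⟨φ, hφ, e⟩ := h.exists_phi hM i.2 hgU
    refine ⟨φ, hφ, fun e1 => hgw ?_⟩
    refine (h.phi_zero_iff hM i.2 hgU e hw).1 ?_
    rw [e1]
    rfl
  gen φ hφ := by
    refine hM.end_ext fun w hw => ?_
    show φ (π w) = 0
    let K : Subgroup G :=
      { carrier := {w | w ∈ ws V R ∧ φ (π w) = 0}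
        one_mem' := ⟨one_mem _, by rw [hM.map_one, map_zero]⟩
        mul_mem' := by
          rintro a b ⟨ha, ha'⟩ ⟨hb, hb'⟩
          exact ⟨mul_mem ha hb, by rw [hM.mul a ha b hb, map_add, ha', hb', add_zero]⟩
        inv_mem' := by
          rintro a ⟨ha, ha'⟩
          exact ⟨inv_mem ha, by rw [hM.map_inv ha, map_neg, ha', neg_zero]⟩ }
    have hK : ws V R ≤ K := by
      refine h.ws_le_of hR (fun r hr => ⟨h.pt_le_ws hR hr, ?_⟩) (fun B hB b hb => ⟨h.adj_ws hB hb, ?_⟩)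
      · rw [(hM.ker r (h.pt_le_ws hR hr)).2 hr, map_zero]
      · exact hφ ⟨B, hB⟩ _ (h.pi_mem hM hB hb)
    exact (hK hw).2
  same i j a ha ha' ha0 := by
    obtain ⟨α, hα, rfl⟩ := (h.mem_lam hM i.2).1 ha
    obtain ⟨β, hβ, e⟩ := (h.mem_lam hM j.2).1 ha'
    have h1 : α * β⁻¹ ∈ R := hM.mem_of (h.adj_ws i.2 hα) (h.adj_ws j.2 hβ) e.symm
    obtain ⟨L, hL, hjL, hRL⟩ := j.2.line
    have hα1 : α ≠ 1 := fun e => ha0 (by rw [e, hM.map_one])
    have hαL : α ∈ L := by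
      have e1 : α = α * β⁻¹ * β := by group
      rw [e1]
      exact mul_mem (hRL h1) (hjL hβ)
    obtain ⟨T, hT, hTL, hαT⟩ := h.exists_point hL hαL hα1
    have hiL : i.1 ≤ L := (h.pts_eq i.2.left hT hα hαT hα1) ▸ hTL
    have h2 := h.same_line hM i.2 j.2 hL hRL hiL hjL
    have h3 := h.same_line hM j.2 i.2 hL hRL hjL hiL
    exact ⟨le_antisymm h2.1 h3.1, le_antisymm h2.2 h3.2⟩

/-- `JJ` is `Jo` -/
theorem jj_iff (hA : Adj V Z A R) (hB : Adj V Z B R) :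
    JJ (fun i : {A // Adj V Z A R} => lamR π i.1) (fun i => PhiR V Z R π i.1) ⟨A, hA⟩ ⟨B, hB⟩ ↔ Jo V Z R A B := by
  constructor
  · rintro ⟨φ, hφ, b, hb, hne⟩
    obtain ⟨g, hg, e⟩ := (h.mem_phi hM hA).1 hφ
    refine ⟨hA, hB, fun e1 => hne ?_⟩
    exact (h.kl_iff hM hA hB hg e).2 (fun b hb => mem_centralizer_iff.1 (e1 hb) g hg) b hb
  · rintro hj
    obtain ⟨g, hg, b, hb, hgb⟩ : ∃ g ∈ UU V Z A, ∃ b ∈ B, g * b ≠ b * g := by
      by_contra hcon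
      push Not at hcon
      exact hj.mv fun b hb => mem_centralizer_iff.2 fun g hg => hcon g hg b hb
    obtain ⟨φ, hφ, e⟩ := h.exists_phi hM hA hg
    exact ⟨φ, hφ, π b, h.pi_mem hM hB hb, fun e1 => hgb ((h.phi_zero_iff hM hA hg e (h.adj_ws hB hb)).1 e1)⟩

end TF

end Cfsg.Agent.Omega.NO3S.MidB

end

section


/-!
# TYPE N, K-free: the consequences of McLaughlin's theorem for `Jo`

* `TF.jsym` : **`JSym V Z`**;
* `TF.sml_or_bg` : **`Sml V Z ∨ Bg V Z`**;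
* `TF.jtrans` : **`Bg V Z → JDist V Z → JTrans V Z`**;
* `TF.jdich` : **`Bg V Z → JDich V Z`**.
-/

set_option autoImplicit false
set_option linter.unusedSectionVars false

namespace Cfsg.Agent.Omega.NO3S.MidQ.McL

variable {M ι : Type*} [AddCommGroup M] {lam : ι → AddSubgroup M} {Φ : ι → AddSubgroup (AddMonoid.End M)}

theorem big_of (h : McL lam Φ) {i j : ι} (hj : JJ lam Φ i j) {φ : AddMonoid.End M} (hφ : φ ∈ Φ i)
    (hk : Kl lam φ j) (h0 : φ ≠ 0) : Big lam Φ := by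
  intro i' j' hj'
  by_contra hcon
  push Not at hcon
  have hfin := h.fin
  have hΦ := h.finΦ i
  have hΦ' := h.finΦ i'
  obtain ⟨β, hβ, hβ0⟩ := h.lne j
  obtain ⟨β', hβ', hβ0'⟩ := h.lne j'
  have h1 : Nat.card (Φ i') ≤ Nat.card (lam i') := by
    let f' : Φ i' → lam i' := fun ψ => ⟨ψ.1 β', h.val i' ψ.1 ψ.2 β'⟩
    refine Nat.card_le_card_of_injective f' fun ψ χ e => ?_
    have h2 : ψ.1 β' = χ.1 β' := congrArg Subtype.val e
    have h3 : (ψ.1 - χ.1) β' = 0 := by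
      show ψ.1 β' - χ.1 β' = 0
      rw [h2, sub_self]
    have h4 : ψ.1 - χ.1 ∈ Φ i' := sub_mem ψ.2 χ.2
    exact Subtype.ext (sub_eq_zero.1 (hcon _ h4 (h.kl_of h4 hβ' hβ0' h3)))
  let f : Φ i → lam i := fun ψ => ⟨ψ.1 β, h.val i ψ.1 ψ.2 β⟩
  have hs : Function.Surjective f := by
    rintro ⟨a, ha⟩
    obtain ⟨ψ, hψ, e⟩ := h.surj i j β hβ (h.moves hj hβ hβ0) a ha
    exact ⟨⟨ψ, hψ⟩, Subtype.ext e⟩
  have hb : Function.Bijective f := hs.bijective_of_nat_card_le (by rw [h.cardΦ i i', h.card i i']; exact h1)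
  have h2 : f ⟨φ, hφ⟩ = f ⟨0, zero_mem _⟩ := Subtype.ext (by
    show φ β = (0 : AddMonoid.End M) β
    rw [hk β hβ]
    rfl)
  exact h0 (congrArg Subtype.val (hb.1 h2))

end Cfsg.Agent.Omega.NO3S.MidQ.McL

namespace Cfsg.Agent.Omega.NO3S.MidB

open Subgroup Cfsg.Agent.Omega.NO3S.PT Cfsg.Agent.Omega.NoFF.Basic Cfsg.Agent.ZN
open Cfsg.Agent.Omega.NO3S.MidQ (Adj Com Cr UU ws_of kx_of isCj_iff adj_iff com_iff cr_iff UU_of isCj_symm isCj_trans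
  com_cj UU_cj le_UU normalizer_le_UU isPGroup_sSup FlagCan PtCan ff mem_ff ff_cj TypN cw mem_cw cw_le cw_cj Jo jo_cj zu
  McL JJ Kl Dist surj_of_inj comm_inj)
open scoped Pointwise

universe u

variable {G : Type u} [Group G] {V Z X Y R L A A' B B' C : Subgroup G}

namespace TF

variable [Finite G] {S : Sylow 2 G} {P : Subgroup G} (h : TF S P V Z)
include h

section

variable {M : Type*} [AddCommGroup M] {π : G → M} (hM : Md V R π)
include hM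

theorem line_of (hA : Adj V Z A R) (hC : Adj V Z C R) {m : M} (hm : m ∈ lamR π A) (hm' : m ∈ lamR π C)
    (h0 : m ≠ 0) : ∃ L, IsCj V L ∧ R ≤ L ∧ A ≤ L ∧ C ≤ L := by
  obtain ⟨α, hα, rfl⟩ := (h.mem_lam hM hA).1 hm
  obtain ⟨β, hβ, e⟩ := (h.mem_lam hM hC).1 hm'
  have h1 : α * β⁻¹ ∈ R := hM.mem_of (h.adj_ws hA hα) (h.adj_ws hC hβ) e.symm
  obtain ⟨L, hL, hjL, hRL⟩ := hC.line
  have hα1 : α ≠ 1 := fun e => h0 (by rw [e, hM.map_one])
  have hαL : α ∈ L := by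
    have e1 : α = α * β⁻¹ * β := by group
    rw [e1]
    exact mul_mem (hRL h1) (hjL hβ)
  obtain ⟨T, hT, hTL, hαT⟩ := h.exists_point hL hαL hα1
  exact ⟨L, hL, hRL, (h.pts_eq hA.left hT hα hαT hα1) ▸ hTL, hjL⟩

theorem big_of_bg (hB : Bg V Z) :
    McL.Big (fun i : {A // Adj V Z A R} => lamR π i.1) (fun i => PhiR V Z R π i.1) := by
  rintro ⟨A, hA⟩ ⟨B, hB'⟩ hj
  obtain ⟨g, hg, hgB, w, hw, hgw⟩ := hB R A B ((h.jj_iff hM hA hB').1 hj)
  obtain ⟨φ, hφ, e⟩ := h.exists_phi hM hA hg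
  refine ⟨φ, hφ, (h.kl_iff hM hA hB' hg e).2 hgB, fun e1 => hgw ?_⟩
  refine (h.phi_zero_iff hM hA hg e hw).1 ?_
  rw [e1]
  rfl

theorem dist_of (hd : JDist V Z) : Dist (fun i : {A // Adj V Z A R} => lamR π i.1) (fun i => PhiR V Z R π i.1) := by
  rintro ⟨A, hA⟩ ⟨B, hB⟩ a ha b hb hk
  obtain ⟨α, hα, rfl⟩ := (h.mem_lam hM hA).1 ha
  obtain ⟨β, hβ, rfl⟩ := (h.mem_lam hM hB).1 hb
  have h1 := h.adj_ws hA hα
  have h2 := h.adj_ws hB hβ
  rw [← hM.mul _ h1 _ h2, hM.ker _ (mul_mem h1 h2)]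
  refine hd R A B hA hB α hα β hβ fun X hX u hu => ?_
  obtain ⟨φ, hφ, e⟩ := h.exists_phi hM hX hu
  have h3 := hk ⟨X, hX⟩ φ hφ
  rw [← hM.mul _ h1 _ h2] at h3
  exact (h.phi_zero_iff hM hX hu e (mul_mem h1 h2)).1 h3

end

/-- **(1)** -/
theorem jsym : JSym V Z := by
  intro R A B hj
  obtain ⟨M, _, π, hM⟩ := exists_md h.toMid hj.l.right
  exact (h.jj_iff hM hj.r hj.l).1 ((h.mcl hM hj.l.right).symm ((h.jj_iff hM hj.l hj.r).2 hj))

/-- **(3) / (4)** -/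
theorem sml_or_bg : Sml V Z ∨ Bg V Z := by
  by_cases hS : Sml V Z
  · exact Or.inl hS
  right
  unfold Sml at hS
  push Not at hS
  obtain ⟨R, A, B, hj, g, hg, hgB, w, hw, hgw⟩ := hS
  obtain ⟨M, _, π, hM⟩ := exists_md h.toMid hj.l.right
  have hR := hj.l.right
  obtain ⟨φ, hφ, e⟩ := h.exists_phi hM hj.l hg
  have hbig : McL.Big (fun i : {A // Adj V Z A R} => lamR π i.1) (fun i => PhiR V Z R π i.1) := by
    refine (h.mcl hM hR).big_of ((h.jj_iff hM hj.l hj.r).2 hj) hφ ((h.kl_iff hM hj.l hj.r hg e).2 hgB) fun e1 => hgw ?_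
    refine (h.phi_zero_iff hM hj.l hg e hw).1 ?_
    rw [e1]
    rfl
  intro R' A' B' hj'
  obtain ⟨x, hx⟩ : ∃ x : G, PT.cj x R' = R := by
    obtain ⟨a, ha⟩ := hR
    obtain ⟨b, hb⟩ := hj'.l.right
    exact ⟨a * b⁻¹, by rw [ha, hb, cj_cj, inv_mul_cancel_right]⟩
  have hj2 := hj'.cj x
  rw [hx] at hj2
  obtain ⟨ψ, hψ, hk, h0⟩ := hbig ⟨_, hj2.l⟩ ⟨_, hj2.r⟩ ((h.jj_iff hM hj2.l hj2.r).2 hj2)
  obtain ⟨g', hg', e'⟩ := (h.mem_phi hM hj2.l).1 hψ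
  have h1 := (h.kl_iff hM hj2.l hj2.r hg' e').1 hk
  obtain ⟨w', hw', hgw'⟩ : ∃ w' ∈ ws V R, g' * w' ≠ w' * g' := by
    by_contra hcon
    push Not at hcon
    exact h0 (hM.end_ext fun w hw => (h.phi_zero_iff hM hj2.l hg' e' hw).2 (hcon w hw))
  refine ⟨x⁻¹ * g' * x, ?_, fun b hb => ?_, x⁻¹ * w' * x, ?_, fun e2 => hgw' ?_⟩
  · rw [UU_cj, mem_cj] at hg'
    exact hg'
  · have h2 := h1 (x * b * x⁻¹) (conj_mem_cj hb)
    have h3 := congrArg (fun t => x⁻¹ * t * x) h2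
    simpa [mul_assoc] using h3
  · rw [← hx, ws_cj, mem_cj] at hw'
    exact hw'
  · have h3 := congrArg (fun t => x * t * x⁻¹) e2
    simpa [mul_assoc] using h3

/-- **(5)** -/
theorem jtrans (hB : Bg V Z) (hd : JDist V Z) : JTrans V Z := by
  intro R A B C hab hbc hne
  obtain ⟨M, _, π, hM⟩ := exists_md h.toMid hab.l.right
  refine (h.jj_iff hM hab.l hbc.r).1 ((h.mcl hM hab.l.right).trans (h.big_of_bg hM hB) (h.dist_of hM hd)
    ((h.jj_iff hM hab.l hab.r).2 hab) ((h.jj_iff hM hab.r hbc.r).2 hbc) fun e => ?_)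
  obtain ⟨α, hα, hα1⟩ := h.pt_ne_bot hab.l.left
  have h1 : π α ∈ lamR π C := by
    have h2 := h.pi_mem hM hab.l hα
    have e' : lamR π A = lamR π C := e
    rwa [e'] at h2
  obtain ⟨L, hL, hRL, hAL, hCL⟩ := h.line_of hM hab.l hbc.r (h.pi_mem hM hab.l hα) h1 (h.pi_ne hM hab.l hα hα1)
  exact hne L hL hRL hAL hCL

/-- **(5')** -/
theorem jdich (hB : Bg V Z) : JDich V Z := by
  intro R Y I J hj hI
  obtain ⟨M, _, π, hM⟩ := exists_md h.toMid hj.l.right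
  rcases (h.mcl hM hj.l.right).dich (h.big_of_bg hM hB) (y := ⟨Y, hj.l⟩) (i := ⟨I, hI⟩) (j := ⟨J, hj.r⟩)
    ((h.jj_iff hM hj.l hj.r).2 hj) with h1 | h1
  · left
    intro g hg
    obtain ⟨φ, hφ, e⟩ := h.exists_phi hM hj.l hg
    obtain ⟨φ', hφ', h2, h3⟩ := h1 φ hφ
    obtain ⟨g', hg', e'⟩ := (h.mem_phi hM hj.l).1 hφ'
    refine ⟨g', hg', fun b hb => ?_, (h.kl_iff hM hj.l hI hg' e').1 h3⟩
    have hbW := h.adj_ws hj.r hb
    have h4 : φ' (π b) = φ (π b) := h2 (π b) (h.pi_mem hM hj.r hb)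
    rw [e' b hbW, e b hbW] at h4
    exact mul_right_cancel (h.pi_inj hM hj.l (h.comm_adj hj.l hg' hbW) (h.comm_adj hj.l hg hbW) h4)
  · right
    intro α hα
    obtain ⟨m, hm, h2⟩ := h1 (π α) (h.pi_mem hM hI hα)
    obtain ⟨γ, hγ, rfl⟩ := (h.mem_lam hM hj.r).1 hm
    refine ⟨γ, hγ, fun g hg => ?_⟩
    obtain ⟨φ, hφ, e⟩ := h.exists_phi hM hj.l hg
    have h3 := h2 φ hφ
    have h4 := h.adj_ws hI hα
    have h5 := h.adj_ws hj.r hγ
    rw [← hM.mul _ h4 _ h5] at h3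
    exact (h.phi_zero_iff hM hj.l hg e (mul_mem h4 h5)).1 h3

end TF

end Cfsg.Agent.Omega.NO3S.MidB

end

section


/-!
# NO-3S, the `(R, B)`-frame, `n = 2`: the groups `W_C` which act on `W_R` by transvections with centre `A`

* `Flat V C A R` : `[W_C, W_R] ≤ A`; `UT V Z R A` : the group generated by the `W_C`, `C ~ A`, `Flat V C A R`;
* `TT S P V Z` : `Mid` and there is a critical triple `(C, A, R)` with `Flat V C A R`;
* `Mid.ut_comm` : `[UT, W_R] ≤ A`;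
* `Mid.ut_val` : if `UT V Z R A` moves `β ∈ B ~ R`, then `[UT, β] = A` elementwise;
* `Mid.flat_val` : `w ∈ W_R`, `w ∉ C(W_C)`: `[W_C, w] = A` elementwise;
* `TT.exists_flat` : for `R ~ A` there is a critical `(C, A, R)` with `Flat V C A R`.
-/

set_option autoImplicit false
set_option linter.unusedSectionVars false

namespace Cfsg.Agent.Omega.NO3S.MidB.No

open Subgroup Cfsg.Agent.Omega.NO3S.PT Cfsg.Agent.Omega.NoFF.Basic Cfsg.Agent.ZN
open Cfsg.Agent.Omega.NO3S.MidQ (Adj Com Cr UU ws_of kx_of isCj_iff adj_iff com_iff cr_iff UU_of isCj_symm isCj_trans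
  com_cj UU_cj le_UU normalizer_le_UU isPGroup_sSup surj_of_inj comm_inj)
open scoped Pointwise

variable {G : Type*} [Group G] {V Z X Y R L A B C A' B' C' R' : Subgroup G}

/-- `[W_C, W_R] ≤ A` -/
def Flat (V C A R : Subgroup G) : Prop := ∀ a ∈ ws V C, ∀ b ∈ ws V R, a * b * a⁻¹ * b⁻¹ ∈ A

/-- generated by the `W_C`, `C ~ A`, with `[W_C, W_R] ≤ A` -/
def UT (V Z R A : Subgroup G) : Subgroup G := sSup {W | ∃ C, Adj V Z C A ∧ Flat V C A R ∧ W = ws V C}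

theorem le_UT (hC : Adj V Z C A) (hf : Flat V C A R) : ws V C ≤ UT V Z R A := le_sSup ⟨C, hC, hf, rfl⟩

theorem UT_le_UU : UT V Z R A ≤ UU V Z A := by
  refine sSup_le ?_
  rintro _ ⟨C, hC, -, rfl⟩
  exact le_UU hC

theorem Flat.cj (hf : Flat V C A R) (g : G) : Flat V (PT.cj g C) (PT.cj g A) (PT.cj g R) := by
  intro a ha b hb
  rw [ws_cj, mem_cj] at ha hb
  have h1 := hf _ ha _ hb
  rw [mem_cj]
  have e : g⁻¹ * (a * b * a⁻¹ * b⁻¹) * g = g⁻¹ * a * g * (g⁻¹ * b * g) * (g⁻¹ * a * g)⁻¹ * (g⁻¹ * b * g)⁻¹ := by group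
  rwa [e]

theorem cj_UT_le (V Z R A : Subgroup G) (g : G) : PT.cj g (UT V Z R A) ≤ UT V Z (PT.cj g R) (PT.cj g A) := by
  rw [cj_le_iff]
  refine sSup_le ?_
  rintro _ ⟨C, hC, hf, rfl⟩
  rw [← cj_le_iff, ← ws_cj]
  exact le_UT (hC.cj g) (hf.cj g)

theorem UT_cj (V Z R A : Subgroup G) (g : G) : UT V Z (PT.cj g R) (PT.cj g A) = PT.cj g (UT V Z R A) := by
  refine le_antisymm ?_ (cj_UT_le V Z R A g)
  have h1 := cj_UT_le V Z (PT.cj g R) (PT.cj g A) g⁻¹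
  rwa [cj_cj, cj_cj, inv_mul_cancel, cj_one, cj_one, cj_le_iff, inv_inv] at h1

end Cfsg.Agent.Omega.NO3S.MidB.No

namespace Cfsg.Agent.Omega.NO3S.MidB.Mid

open Subgroup Cfsg.Agent.Omega.NO3S.PT Cfsg.Agent.Omega.NoFF.Basic Cfsg.Agent.ZN
open Cfsg.Agent.Omega.NO3S.MidB.No
open Cfsg.Agent.Omega.NO3S.MidQ (Adj Com Cr UU ws_of kx_of isCj_iff adj_iff com_iff cr_iff UU_of isCj_symm isCj_trans
  com_cj UU_cj le_UU normalizer_le_UU isPGroup_sSup surj_of_inj comm_inj)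
open scoped Pointwise

variable {G : Type*} [Group G] {V Z X Y R L A B C A' B' C' R' : Subgroup G}
variable [Finite G] {S : Sylow 2 G} {P : Subgroup G} (h : Mid S P V Z)
include h

/-- `[UT, W_R] ≤ A` -/
theorem ut_comm (hA : Adj V Z A R) {g w : G} (hg : g ∈ UT V Z R A) (hw : w ∈ ws V R) : g * w * g⁻¹ * w⁻¹ ∈ A := by
  have hcen : ∀ x ∈ A, ∀ u ∈ UU V Z A, u * x = x * u := fun x hx u hu =>
    (mem_centralizer_iff.1 (h.UU_le_cent_pt hA.left hu) x hx).symm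
  let E : Subgroup G :=
    { carrier := {g | g ∈ centralizer (A : Set G) ∧ g * w * g⁻¹ * w⁻¹ ∈ A}
      one_mem' := ⟨one_mem _, by simp⟩
      mul_mem' := by
        rintro a b ⟨ha, ha'⟩ ⟨hb, hb'⟩
        refine ⟨mul_mem ha hb, ?_⟩
        have e : a * b * w * (a * b)⁻¹ * w⁻¹ = a * (b * w * b⁻¹ * w⁻¹) * a⁻¹ * (a * w * a⁻¹ * w⁻¹) := by group
        rw [e, ← mem_centralizer_iff.1 ha _ hb', mul_inv_cancel_right]
        exact A.mul_mem hb' ha'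
      inv_mem' := by
        rintro a ⟨ha, ha'⟩
        refine ⟨inv_mem ha, ?_⟩
        have e : a⁻¹ * w * a⁻¹⁻¹ * w⁻¹ = a⁻¹ * (a * w * a⁻¹ * w⁻¹)⁻¹ * a := by group
        rw [e, mul_assoc, mem_centralizer_iff.1 ha _ (A.inv_mem ha'), inv_mul_cancel_left]
        exact A.inv_mem ha' }
  have hE : UT V Z R A ≤ E := by
    refine sSup_le ?_
    rintro _ ⟨C, hC, hf, rfl⟩ c hc
    exact ⟨h.UU_le_cent_pt hA.left (le_UU hC hc), hf c hc w hw⟩
  exact (hE hg).2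

/-- `w ∈ W_R`, `w ∉ C(W_C)`: `[W_C, w] = A` elementwise -/
theorem flat_val (hA : Adj V Z A R) (hC : Adj V Z C A) (hf : Flat V C A R) {w : G} (hw : w ∈ ws V R)
    (hmv : ∃ c ∈ ws V C, c * w ≠ w * c) {α : G} (hα : α ∈ A) : ∃ g ∈ ws V C, g * w * g⁻¹ * w⁻¹ = α := by
  -- `w` centralises `C`
  have hwC : ∀ c ∈ C, w * c = c * w := fun c hc =>
    (mem_centralizer_iff.1 (h.ws_le_cent hA.symm hC.symm hw) c hc).symm
  have hw2 : TwoEl w := h.twoEl_ws hA.right hw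
  -- a point `F ~ C` is moved by `w`
  obtain ⟨F, hF, φ₀, hφ₀, hne⟩ : ∃ F, Adj V Z F C ∧ ∃ φ ∈ F, w * φ ≠ φ * w := by
    by_contra hcon
    push Not at hcon
    have h1 : ws V C ≤ centralizer ({w} : Set G) := h.ws_le_of hC.left
      (fun c hc => mem_centralizer_singleton_iff.2 (hwC c hc).symm)
      (fun F hF φ hφ => mem_centralizer_singleton_iff.2 (hcon F hF φ hφ).symm)
    obtain ⟨c, hc, hne⟩ := hmv
    exact hne (mem_centralizer_singleton_iff.1 (h1 hc))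
  have hFC : F ≤ ws V C := h.adj_le_ws hF.symm
  have hinj : ∀ φ ∈ F, φ * w = w * φ → φ = 1 := by
    intro φ hφ e
    by_contra hφ1
    exact hne (h.t3 hF.symm hw2 hwC hφ hφ1 e.symm φ₀ hφ₀)
  obtain ⟨g, hg, e⟩ := surj_of_inj (A := F) (B := A) (by rw [h.card_pt hF.left, h.card_pt hA.left])
    (fun φ => φ * w * φ⁻¹ * w⁻¹) (fun φ hφ => hf φ (hFC hφ) w hw) (fun φ hφ φ' hφ' e =>
      inv_mul_eq_one.1 (hinj _ (mul_mem (inv_mem hφ) hφ') (comm_inj e))) α hα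
  exact ⟨g, hFC hg, e⟩

/-- if `UT V Z R A` moves `β ∈ W_R`, then `[UT, β] = A` elementwise -/
theorem ut_val (hA : Adj V Z A R) {β : G} (hβ : β ∈ ws V R) (hmv : ∃ g ∈ UT V Z R A, g * β ≠ β * g) {α : G}
    (hα : α ∈ A) : ∃ g ∈ UT V Z R A, g * β * g⁻¹ * β⁻¹ = α := by
  obtain ⟨C, hC, hf, hne⟩ : ∃ C, Adj V Z C A ∧ Flat V C A R ∧ ∃ c ∈ ws V C, c * β ≠ β * c := by
    by_contra hcon
    push Not at hcon
    obtain ⟨g, hg, hne⟩ := hmv
    have h1 : UT V Z R A ≤ centralizer ({β} : Set G) := by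
      refine sSup_le ?_
      rintro _ ⟨C, hC, hf, rfl⟩ c hc
      exact mem_centralizer_singleton_iff.2 (hcon C hC hf c hc)
    exact hne (mem_centralizer_singleton_iff.1 (h1 hg))
  obtain ⟨g, hg, e⟩ := h.flat_val hA hC hf hβ hne hα
  exact ⟨g, le_UT hC hf hg, e⟩

/-- a 2-element of `C(R)` fixing a line on `R` is trivial on it modulo `R` -/
theorem act_line (hR : IsCj Z R) (hL : IsCj V L) (hRL : R ≤ L) {x : G} (hx : TwoEl x)
    (hxR : x ∈ centralizer (R : Set G)) (hxL : PT.cj x L = L) : ∀ v ∈ L, x * v * x⁻¹ * v⁻¹ ∈ R := by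
  obtain ⟨T, Q, h'⟩ := h.flag hR hL hRL
  obtain ⟨m, hm, hmT⟩ := h'.pl.exists_le_conjB (H := normalizer (R : Set G) ⊓ normalizer (L : Set G))
    (le_inf h'.pl.S_le_N (h'.pl.SP.trans h'.pl.PN)) inf_le_left hx.isPGroup
    (zpowers_le.2 ⟨centralizer_le_normalizer _ hxR, cj_eq_iff.1 hxL⟩) (zpowers_le.2 hxR)
  intro v hv
  have h1 : x ∈ PT.cj m ((T : Subgroup G) ⊓ centralizer (R : Set G)) := hmT (mem_zpowers x)
  rw [mem_cj] at h1
  have h2 : m⁻¹ * v * m ∈ L := by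
    have h3 := (mem_normalizer_iff.1 (inv_mem hm.2) v).1 hv
    rwa [inv_inv] at h3
  have h3 := h'.pl.act _ h1 _ h2
  have h4 := (mem_normalizer_iff.1 hm.1 _).1 h3
  have e : m * (m⁻¹ * x * m * (m⁻¹ * v * m) * (m⁻¹ * x * m)⁻¹ * (m⁻¹ * v * m)⁻¹) * m⁻¹ = x * v * x⁻¹ * v⁻¹ := by
    group
  rwa [e] at h4

end Cfsg.Agent.Omega.NO3S.MidB.Mid

namespace Cfsg.Agent.Omega.NO3S.MidB.No

open Subgroup Cfsg.Agent.Omega.NO3S.PT Cfsg.Agent.Omega.NoFF.Basic Cfsg.Agent.ZN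
open Cfsg.Agent.Omega.NO3S.MidQ (Adj Com Cr UU)

variable {G : Type*} [Group G] {V Z X Y R L A B C A' B' C' R' : Subgroup G} [Finite G] {S : Sylow 2 G}
  {P : Subgroup G}

/-- `Mid` and a flat critical triple -/
structure TT (S : Sylow 2 G) (P V Z : Subgroup G) : Prop extends Mid S P V Z where
  ex : ∃ C A R, Cr V Z C A R ∧ Flat V C A R

namespace TT

variable (h : TT S P V Z)
include h

/-- for `R ~ A` there is a flat critical triple `(C, A, R)` -/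
theorem exists_flat (hA : Adj V Z A R) : ∃ C, Cr V Z C A R ∧ Flat V C A R := by
  obtain ⟨C, A₀, R₀, hc, hf⟩ := h.ex
  obtain ⟨g, hg1, hg2⟩ := h.exists_adj hc.r hA
  refine ⟨PT.cj g C, ?_, ?_⟩
  · have h1 := hc.cj g
    rwa [hg1, hg2] at h1
  · have h1 := hf.cj g
    rwa [hg1, hg2] at h1

end TT

end Cfsg.Agent.Omega.NO3S.MidB.No

end

section


/-!
# NO-3S, the `(R, B)`-frame, `n = 2`: the instance of `McL` on `W_R / R` for the flat groups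

`h : TT S P V Z`.  `PhiT V Z R π A` : the endomorphisms of `W_R / R` induced by the elements of `UT V Z R A` (minus 1).

* `TT.mcl` : **the instance**;
* `TT.big` : `Big`, from `w ∈ W_C`, `m ∈ W_R` commuting, `w ∉ C(W_R)`, `m ∉ C(W_C)`;
* `TT.dist` : `Dist`, from `NF V Z`.
-/

set_option autoImplicit false
set_option linter.unusedSectionVars false

namespace Cfsg.Agent.Omega.NO3S.MidB.No

open Subgroup Cfsg.Agent.Omega.NO3S.PT Cfsg.Agent.Omega.NoFF.Basic Cfsg.Agent.ZN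
open Cfsg.Agent.Omega.NO3S.MidQ (Adj Com Cr UU ws_of kx_of isCj_iff adj_iff com_iff cr_iff UU_of isCj_symm isCj_trans
  com_cj UU_cj le_UU normalizer_le_UU isPGroup_sSup McL JJ Kl Dist surj_of_inj comm_inj)
open scoped Pointwise

universe u

variable {G : Type u} [Group G] {V Z X Y R L A A' B B' C : Subgroup G}
variable {M : Type*} [AddCommGroup M] {π : G → M}

/-- the endomorphisms induced by `g - 1`, `g ∈ UT V Z R A` -/
def PhiT (V Z R : Subgroup G) (π : G → M) (A : Subgroup G) : AddSubgroup (AddMonoid.End M) :=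
  AddSubgroup.closure {φ | ∃ g ∈ UT V Z R A, ∀ w ∈ ws V R, φ (π w) = π (g * w * g⁻¹ * w⁻¹)}

/-- a `C_G(R)`-invariant subgroup of `W_R` over `R` which meets a line on `R` in `R`, is `R` -/
def NF (V Z : Subgroup G) : Prop :=
  ∀ X L N : Subgroup G, IsCj Z X → IsCj V L → X ≤ L → X ≤ N → N ≤ ws V X → centralizer (X : Set G) ≤ normalizer (N : Set G) →
    N ⊓ L = X → N = X

namespace TT

variable [Finite G] {S : Sylow 2 G} {P : Subgroup G} (h : TT S P V Z)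
include h

/-! ### `UT` on `W_R` -/

theorem u_R (hA : Adj V Z A R) {g : G} (hg : g ∈ UT V Z R A) {r : G} (hr : r ∈ R) : g * r = r * g :=
  (mem_centralizer_iff.1 (h.UU_le_cent_adj hA.symm (UT_le_UU hg)) r hr).symm

theorem u_A (hA : Adj V Z A R) {g : G} (hg : g ∈ UT V Z R A) {a : G} (ha : a ∈ A) : g * a = a * g :=
  (mem_centralizer_iff.1 (h.UU_le_cent_pt hA.left (UT_le_UU hg)) a ha).symm

theorem u_ws (hA : Adj V Z A R) {g : G} (hg : g ∈ UT V Z R A) {w : G} (hw : w ∈ ws V R) : g * w * g⁻¹ ∈ ws V R :=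
  (mem_normalizer_iff.1 (h.UU_norm hA.symm (UT_le_UU hg)) w).1 hw

theorem adj_ws (hA : Adj V Z A R) : A ≤ ws V R := h.adj_le_ws hA.symm

theorem c_ws (hA : Adj V Z A R) {g : G} (hg : g ∈ UT V Z R A) {w : G} (hw : w ∈ ws V R) :
    g * w * g⁻¹ * w⁻¹ ∈ ws V R := h.adj_ws hA (h.ut_comm hA hg hw)

theorem c_mul (hA : Adj V Z A R) {g : G} (hg : g ∈ UT V Z R A) {w w' : G} (hw : w ∈ ws V R) (hw' : w' ∈ ws V R) :
    g * (w * w') * g⁻¹ * (w * w')⁻¹ = g * w * g⁻¹ * w⁻¹ * (g * w' * g⁻¹ * w'⁻¹) := by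
  have h1 := h.ws_comm hA.right hw (h.c_ws hA hg hw')
  calc g * (w * w') * g⁻¹ * (w * w')⁻¹ = g * w * g⁻¹ * w⁻¹ * (w * (g * w' * g⁻¹ * w'⁻¹)) * w⁻¹ := by group
    _ = g * w * g⁻¹ * w⁻¹ * (g * w' * g⁻¹ * w'⁻¹) := by rw [h1]; group

theorem c_mul' (hA : Adj V Z A R) {g g' : G} (hg : g ∈ UT V Z R A) (hg' : g' ∈ UT V Z R A) {w : G}
    (hw : w ∈ ws V R) : g * g' * w * (g * g')⁻¹ * w⁻¹ = g * w * g⁻¹ * w⁻¹ * (g' * w * g'⁻¹ * w⁻¹) := by
  have h1 := h.u_A hA hg (h.ut_comm hA hg' hw)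
  have h2 := h.ws_comm hA.right (h.c_ws hA hg hw) (h.c_ws hA hg' hw)
  calc g * g' * w * (g * g')⁻¹ * w⁻¹ = g * (g' * w * g'⁻¹ * w⁻¹) * (w * g⁻¹ * w⁻¹) := by group
    _ = g' * w * g'⁻¹ * w⁻¹ * (g * w * g⁻¹ * w⁻¹) := by rw [h1]; group
    _ = _ := h2.symm

theorem c_inv (hA : Adj V Z A R) {g : G} (hg : g ∈ UT V Z R A) {w : G} (hw : w ∈ ws V R) :
    g⁻¹ * w * g⁻¹⁻¹ * w⁻¹ = (g * w * g⁻¹ * w⁻¹)⁻¹ := by
  have h1 := h.u_A hA (inv_mem hg) (inv_mem (h.ut_comm hA hg hw))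
  calc g⁻¹ * w * g⁻¹⁻¹ * w⁻¹ = g⁻¹ * (g * w * g⁻¹ * w⁻¹)⁻¹ * g := by group
    _ = _ := by rw [h1]; group

theorem inf_R (hA : Adj V Z A R) {a : G} (ha : a ∈ A) (hR : a ∈ R) : a = 1 := h.pt_inf hA.left hA.right hA.ne ha hR

theorem not_comm_iff (hA : Adj V Z A R) {g w : G} (hg : g ∈ UT V Z R A) (hw : w ∈ ws V R) :
    g * w * g⁻¹ * w⁻¹ ∈ R ↔ g * w = w * g := by
  constructor
  · intro e
    exact Mid.comm_eq (h.inf_R hA (h.ut_comm hA hg hw) e)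
  · intro e
    rw [Mid.comm_one e]
    exact one_mem _

/-- elements of `UT` fix `R` -/
theorem cj_ut (hA : Adj V Z A R) {g : G} (hg : g ∈ UT V Z R A) : PT.cj g R = R :=
  cj_eq_iff.2 (centralizer_le_normalizer _ (h.UU_le_cent_adj hA.symm (UT_le_UU hg)))

theorem twoEl_ut {g : G} (hg : g ∈ UT V Z R A) : TwoEl g := h.twoEl_UU (UT_le_UU hg)

/-! ### Translation -/

section

variable (hM : Md V R π)
include hM

theorem exists_phi (hA : Adj V Z A R) {g : G} (hg : g ∈ UT V Z R A) :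
    ∃ φ ∈ PhiT V Z R π A, ∀ w ∈ ws V R, φ (π w) = π (g * w * g⁻¹ * w⁻¹) := by
  obtain ⟨φ, hφ⟩ := hM.exists_lift (fun w => g * w * g⁻¹ * w⁻¹) (fun w hw => h.c_ws hA hg hw)
    (fun a ha b hb => h.c_mul hA hg ha hb) (fun r _ hr => by
      show g * r * g⁻¹ * r⁻¹ ∈ R
      rw [h.u_R hA hg hr, mul_inv_cancel_right, mul_inv_cancel]
      exact one_mem _)
  exact ⟨φ, AddSubgroup.subset_closure ⟨g, hg, hφ⟩, hφ⟩

theorem mem_phi (hA : Adj V Z A R) {φ : AddMonoid.End M} :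
    φ ∈ PhiT V Z R π A ↔ ∃ g ∈ UT V Z R A, ∀ w ∈ ws V R, φ (π w) = π (g * w * g⁻¹ * w⁻¹) := by
  constructor
  · intro hφ
    let K : AddSubgroup (AddMonoid.End M) :=
      { carrier := {φ | ∃ g ∈ UT V Z R A, ∀ w ∈ ws V R, φ (π w) = π (g * w * g⁻¹ * w⁻¹)}
        zero_mem' := ⟨1, one_mem _, fun w _ => by
          have e : (1 : G) * w * 1⁻¹ * w⁻¹ = 1 := by group
          rw [e, hM.map_one]
          rfl⟩
        add_mem' := by
          rintro φ ψ ⟨g, hg, e⟩ ⟨g', hg', e'⟩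
          refine ⟨g * g', mul_mem hg hg', fun w hw => ?_⟩
          rw [h.c_mul' hA hg hg' hw, hM.mul _ (h.c_ws hA hg hw) _ (h.c_ws hA hg' hw), ← e w hw, ← e' w hw]
          rfl
        neg_mem' := by
          rintro φ ⟨g, hg, e⟩
          refine ⟨g⁻¹, inv_mem hg, fun w hw => ?_⟩
          rw [h.c_inv hA hg hw, hM.map_inv (h.c_ws hA hg hw), ← e w hw]
          rfl }
    have h1 : PhiT V Z R π A ≤ K := by
      rw [PhiT, AddSubgroup.closure_le]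
      intro φ hφ
      exact hφ
    exact h1 hφ
  · intro hφ
    exact AddSubgroup.subset_closure hφ

theorem mem_lam (hA : Adj V Z A R) {m : M} : m ∈ lamR π A ↔ ∃ a ∈ A, π a = m := mem_lamR hM (h.adj_ws hA)

theorem pi_mem (hA : Adj V Z A R) {a : G} (ha : a ∈ A) : π a ∈ lamR π A := (h.mem_lam hM hA).2 ⟨a, ha, rfl⟩

theorem pi_ne (hA : Adj V Z A R) {a : G} (ha : a ∈ A) (ha1 : a ≠ 1) : π a ≠ 0 := fun e =>
  ha1 (h.inf_R hA ha ((hM.ker a (h.adj_ws hA ha)).1 e))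

theorem pi_inj (hA : Adj V Z A R) {a a' : G} (ha : a ∈ A) (ha' : a' ∈ A) (e : π a = π a') : a = a' := by
  have h1 := hM.mem_of (h.adj_ws hA ha) (h.adj_ws hA ha') e
  exact mul_inv_eq_one.1 (h.inf_R hA (mul_mem ha (inv_mem ha')) h1)

/-- `φ (π w) = 0` iff `g` commutes with `w` -/
theorem phi_zero_iff (hA : Adj V Z A R) {g : G} (hg : g ∈ UT V Z R A) {φ : AddMonoid.End M}
    (hφ : ∀ w ∈ ws V R, φ (π w) = π (g * w * g⁻¹ * w⁻¹)) {w : G} (hw : w ∈ ws V R) :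
    φ (π w) = 0 ↔ g * w = w * g := by
  rw [hφ w hw, hM.ker _ (h.c_ws hA hg hw), h.not_comm_iff hA hg hw]

theorem kl_iff (hA : Adj V Z A R) (hB : Adj V Z B R) {g : G} (hg : g ∈ UT V Z R A) {φ : AddMonoid.End M}
    (hφ : ∀ w ∈ ws V R, φ (π w) = π (g * w * g⁻¹ * w⁻¹)) :
    (∀ b ∈ lamR π B, φ b = 0) ↔ ∀ b ∈ B, g * b = b * g := by
  constructor
  · intro e b hb
    exact (h.phi_zero_iff hM hA hg hφ (h.adj_ws hB hb)).1 (e _ (h.pi_mem hM hB hb))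
  · intro e m hm
    obtain ⟨b, hb, rfl⟩ := (h.mem_lam hM hB).1 hm
    exact (h.phi_zero_iff hM hA hg hφ (h.adj_ws hB hb)).2 (e b hb)

theorem card_lam (hA : Adj V Z A R) : Nat.card (lamR π A) = Nat.card Z := by
  rw [← h.card_pt hA.left]
  let f : A → lamR π A := fun a => ⟨π a, h.pi_mem hM hA a.2⟩
  refine (Nat.card_congr (Equiv.ofBijective f ⟨fun a b e => ?_, ?_⟩)).symm
  · exact Subtype.ext (h.pi_inj hM hA a.2 b.2 (congrArg Subtype.val e))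
  · rintro ⟨m, hm⟩
    obtain ⟨a, ha, rfl⟩ := (h.mem_lam hM hA).1 hm
    exact ⟨⟨a, ha⟩, rfl⟩

/-! ### Conjugation -/

omit h hM in
theorem conj_ws {n : G} (hn : PT.cj n R = R) {w : G} (hw : w ∈ ws V R) : n * w * n⁻¹ ∈ ws V R := by
  have h1 : n * w * n⁻¹ ∈ PT.cj n (ws V R) := conj_mem_cj hw
  rwa [← ws_cj, hn] at h1

omit h hM in
theorem conj_R {n : G} (hn : PT.cj n R = R) {w : G} (hw : w ∈ R) : n * w * n⁻¹ ∈ R := by
  have h1 : n * w * n⁻¹ ∈ PT.cj n R := conj_mem_cj hw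
  rwa [hn] at h1

omit h in
/-- conjugation by `n ∈ N(R)` -/
theorem exists_conj_end {n : G} (hn : PT.cj n R = R) : ∃ ν : AddMonoid.End M, ∀ w ∈ ws V R, ν (π w) = π (n * w * n⁻¹) :=
  hM.exists_lift (fun w => n * w * n⁻¹) (fun _ hw => conj_ws hn hw) (fun a _ b _ => by group)
    (fun _ _ ha => conj_R hn ha)

theorem card_phi_le (hA : Adj V Z A R) (hB : Adj V Z B R) :
    Nat.card (PhiT V Z R π A) ≤ Nat.card (PhiT V Z R π B) := by
  have hfin := hM.fin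
  have : Finite (AddMonoid.End M) := DFunLike.finite _
  obtain ⟨n, hnR, hnA⟩ := h.exists_adj hA hB
  have hnR' : PT.cj n⁻¹ R = R := by
    nth_rewrite 1 [← hnR]
    rw [cj_cj, inv_mul_cancel, cj_one]
  obtain ⟨ν, hν⟩ := exists_conj_end hM hnR
  obtain ⟨ν', hν'⟩ := exists_conj_end hM hnR'
  have e1 : ν' * ν = 1 := by
    refine hM.end_ext fun w hw => ?_
    show ν' (ν (π w)) = π w
    rw [hν w hw, hν' _ (conj_ws hnR hw)]
    congr 1
    group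
  have key : ∀ φ ∈ PhiT V Z R π A, ν * φ * ν' ∈ PhiT V Z R π B := by
    intro φ hφ
    obtain ⟨g, hg, e⟩ := (h.mem_phi hM hA).1 hφ
    refine (h.mem_phi hM hB).2 ⟨n * g * n⁻¹, ?_, fun w hw => ?_⟩
    · have h1 := UT_cj V Z R A n
      rw [hnR, hnA] at h1
      rw [h1]
      exact conj_mem_cj hg
    · show ν (φ (ν' (π w))) = _
      have hw' := conj_ws hnR' hw
      rw [hν' w hw, e _ hw', hν _ (h.c_ws hA hg hw')]
      congr 1
      group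
  let f : PhiT V Z R π A → PhiT V Z R π B := fun φ => ⟨ν * φ.1 * ν', key φ.1 φ.2⟩
  have e2 : ν * ν' = 1 := by
    refine hM.end_ext fun w hw => ?_
    show ν (ν' (π w)) = π w
    rw [hν' w hw, hν _ (conj_ws hnR' hw)]
    congr 1
    group
  refine Nat.card_le_card_of_injective f fun φ ψ e => ?_
  have h1 : ν * φ.1 * ν' = ν * ψ.1 * ν' := congrArg Subtype.val e
  have h2 : ν' * (ν * φ.1 * ν') * ν = ν' * (ν * ψ.1 * ν') * ν := by rw [h1]
  have e3 : ∀ φ : AddMonoid.End M, ν' * (ν * φ * ν') * ν = φ := by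
    intro φ
    calc ν' * (ν * φ * ν') * ν = ν' * ν * φ * (ν' * ν) := by simp only [mul_assoc]
      _ = φ := by rw [e1, one_mul, mul_one]
  rw [e3, e3] at h2
  exact Subtype.ext h2

/-- points on one line through `R` -/
theorem same_line (hA : Adj V Z A R) (hB : Adj V Z B R) (hL : IsCj V L) (hRL : R ≤ L) (hAL : A ≤ L) (hBL : B ≤ L) :
    lamR π A ≤ lamR π B ∧ PhiT V Z R π A ≤ PhiT V Z R π B := by
  obtain ⟨k, hk, rfl⟩ := h.K_trans hA.right hL hRL hA.left hAL hB.left hBL hA.ne hB.ne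
  have hkW : ∀ w ∈ ws V R, k * w * k⁻¹ * w⁻¹ ∈ R := (mem_kx.1 hk).2
  have hk' := inv_mem hk
  have hkW' : ∀ w ∈ ws V R, k⁻¹ * w * k⁻¹⁻¹ * w⁻¹ ∈ R := (mem_kx.1 hk').2
  have hRW := h.pt_le_ws hA.right
  have hkw : ∀ w ∈ ws V R, k * w * k⁻¹ ∈ ws V R := fun w hw => by
    have e : k * w * k⁻¹ = k * w * k⁻¹ * w⁻¹ * w := by group
    rw [e]
    exact mul_mem (hRW (hkW w hw)) hw
  have hkw' : ∀ w ∈ ws V R, k⁻¹ * w * k⁻¹⁻¹ ∈ ws V R := fun w hw => by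
    have e : k⁻¹ * w * k⁻¹⁻¹ = k⁻¹ * w * k⁻¹⁻¹ * w⁻¹ * w := by group
    rw [e]
    exact mul_mem (hRW (hkW' w hw)) hw
  have hkR : PT.cj k R = R := cj_eq_iff.2 (kx_normalizes le_rfl hRW hk)
  constructor
  · intro m hm
    obtain ⟨a, ha, rfl⟩ := (h.mem_lam hM hA).1 hm
    refine (h.mem_lam hM hB).2 ⟨k * a * k⁻¹, conj_mem_cj ha, ?_⟩
    exact hM.eq_of (hkw a (h.adj_ws hA ha)) (h.adj_ws hA ha) (hkW a (h.adj_ws hA ha))
  · intro φ hφ
    obtain ⟨g, hg, e⟩ := (h.mem_phi hM hA).1 hφ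
    refine (h.mem_phi hM hB).2 ⟨k * g * k⁻¹, ?_, fun w hw => ?_⟩
    · have h1 := UT_cj V Z R A k
      rw [hkR] at h1
      rw [h1]
      exact conj_mem_cj hg
    · have h1 := hkw' w hw
      have h2 : π w = π (k⁻¹ * w * k⁻¹⁻¹) := (hM.eq_of h1 hw (hkW' w hw)).symm
      rw [h2, e _ h1]
      have h3 := h.c_ws hA hg h1
      have h4 : k * (g * (k⁻¹ * w * k⁻¹⁻¹) * g⁻¹ * (k⁻¹ * w * k⁻¹⁻¹)⁻¹) * k⁻¹ =
          k * g * k⁻¹ * w * (k * g * k⁻¹)⁻¹ * w⁻¹ := by group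
      rw [← h4]
      exact (hM.eq_of (hkw _ h3) h3 (hkW _ h3)).symm

/-- a common element of the points of `A`, `B`: they are on one line through `R` -/
theorem line_of (hA : Adj V Z A R) (hC : Adj V Z C R) {m : M} (hm : m ∈ lamR π A) (hm' : m ∈ lamR π C)
    (h0 : m ≠ 0) : ∃ L, IsCj V L ∧ R ≤ L ∧ A ≤ L ∧ C ≤ L := by
  obtain ⟨α, hα, rfl⟩ := (h.mem_lam hM hA).1 hm
  obtain ⟨β, hβ, e⟩ := (h.mem_lam hM hC).1 hm'
  have h1 : α * β⁻¹ ∈ R := hM.mem_of (h.adj_ws hA hα) (h.adj_ws hC hβ) e.symm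
  obtain ⟨L, hL, hjL, hRL⟩ := hC.line
  have hα1 : α ≠ 1 := fun e => h0 (by rw [e, hM.map_one])
  have hαL : α ∈ L := by
    have e1 : α = α * β⁻¹ * β := by group
    rw [e1]
    exact mul_mem (hRL h1) (hjL hβ)
  obtain ⟨T, hT, hTL, hαT⟩ := h.exists_point hL hαL hα1
  exact ⟨L, hL, hRL, (h.pts_eq hA.left hT hα hαT hα1) ▸ hTL, hjL⟩

theorem adj_cj_ut (hA : Adj V Z A R) (hB : Adj V Z B R) {g : G} (hg : g ∈ UT V Z R A) : Adj V Z (PT.cj g B) R := by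
  have h1 := hB.cj g
  rwa [h.cj_ut hA hg] at h1

/-- **the instance of `McL`** -/
theorem mcl (hR : IsCj Z R) : McL (fun i : {A // Adj V Z A R} => lamR π i.1) (fun i => PhiT V Z R π i.1) where
  fin := hM.fin
  two m := by
    obtain ⟨w, hw, rfl⟩ := hM.surj m
    rw [← hM.mul w hw w hw, h.ws_sq hR hw, hM.map_one]
  val i φ hφ m := by
    obtain ⟨g, hg, e⟩ := (h.mem_phi hM i.2).1 hφ
    obtain ⟨w, hw, rfl⟩ := hM.surj m
    rw [e w hw]
    exact h.pi_mem hM i.2 (h.ut_comm i.2 hg hw)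
  ker i φ hφ a ha := by
    obtain ⟨g, hg, e⟩ := (h.mem_phi hM i.2).1 hφ
    exact (h.kl_iff hM i.2 i.2 hg e).2 (fun a ha => h.u_A i.2 hg ha) a ha
  ti i j φ hφ b hb hb0 hφb := by
    obtain ⟨g, hg, e⟩ := (h.mem_phi hM i.2).1 hφ
    refine (h.kl_iff hM i.2 j.2 hg e).2 ?_
    obtain ⟨β, hβ, rfl⟩ := (h.mem_lam hM j.2).1 hb
    have hβ1 : β ≠ 1 := fun e => hb0 (by rw [e, hM.map_one])
    have h1 := (h.phi_zero_iff hM i.2 hg e (h.adj_ws j.2 hβ)).1 hφb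
    exact h.t3 j.2.symm (h.twoEl_ut hg) (fun r hr => h.u_R i.2 hg hr) hβ hβ1 h1
  card i j := by rw [h.card_lam hM i.2, h.card_lam hM j.2]
  surj i j b hb := by
    rintro ⟨φ, hφ, hφb⟩ a ha
    obtain ⟨g, hg, e⟩ := (h.mem_phi hM i.2).1 hφ
    obtain ⟨β, hβ, rfl⟩ := (h.mem_lam hM j.2).1 hb
    obtain ⟨α, hα, rfl⟩ := (h.mem_lam hM i.2).1 ha
    have h1 : g * β ≠ β * g := fun e1 => hφb ((h.phi_zero_iff hM i.2 hg e (h.adj_ws j.2 hβ)).2 e1)
    obtain ⟨g', hg', e'⟩ := h.ut_val i.2 (h.adj_ws j.2 hβ) ⟨g, hg, h1⟩ hα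
    obtain ⟨ψ, hψ, e2⟩ := h.exists_phi hM i.2 hg'
    exact ⟨ψ, hψ, by rw [e2 β (h.adj_ws j.2 hβ), e']⟩
  cardΦ i j := le_antisymm (h.card_phi_le hM i.2 j.2) (h.card_phi_le hM j.2 i.2)
  mv i j φ hφ := by
    obtain ⟨g, hg, e⟩ := (h.mem_phi hM i.2).1 hφ
    have hk : Adj V Z (PT.cj g j.1) R := h.adj_cj_ut hM i.2 j.2 hg
    have hg' := inv_mem hg
    -- the action of `1 + φ`
    have e1 : ∀ w ∈ ws V R, (1 + φ) (π w) = π (g * w * g⁻¹) := by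
      intro w hw
      show π w + φ (π w) = _
      rw [e w hw, ← hM.mul w hw _ (h.c_ws i.2 hg hw), h.ws_comm hR hw (h.c_ws i.2 hg hw)]
      congr 1
      group
    have e2 : ∀ w ∈ ws V R, (1 + φ) (π w) = π (g⁻¹ * w * g) := by
      intro w hw
      show π w + φ (π w) = _
      have h1 := h.c_ws i.2 hg hw
      have h2 : φ (π w) = π (g⁻¹ * w * g⁻¹⁻¹ * w⁻¹) := by
        rw [h.c_inv i.2 hg hw, e w hw, h.ws_inv hR h1]
      rw [h2, ← hM.mul w hw _ (h.c_ws i.2 hg' hw), h.ws_comm hR hw (h.c_ws i.2 hg' hw)]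
      congr 1
      group
    refine ⟨⟨PT.cj g j.1, hk⟩, fun m hm => ?_, fun ψ hψ => ?_⟩
    · obtain ⟨b, hb, rfl⟩ := (h.mem_lam hM j.2).1 hm
      have h1 := e1 b (h.adj_ws j.2 hb)
      have h2 : π b + φ (π b) = π (g * b * g⁻¹) := h1
      rw [h2]
      exact h.pi_mem hM hk (conj_mem_cj hb)
    · obtain ⟨k, hk', e3⟩ := (h.mem_phi hM j.2).1 hψ
      refine (h.mem_phi hM hk).2 ⟨g * k * g⁻¹, ?_, fun w hw => ?_⟩
      · have h1 := UT_cj V Z R j.1 g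
        rw [h.cj_ut i.2 hg] at h1
        rw [h1]
        exact conj_mem_cj hk'
      · show (1 + φ) (ψ ((1 + φ) (π w))) = _
        have hw1 : g⁻¹ * w * g ∈ ws V R := by
          have := h.u_ws i.2 hg' hw
          rwa [inv_inv] at this
        rw [e2 w hw, e3 _ hw1, e1 _ (h.c_ws j.2 hk' hw1)]
        congr 1
        group
  lne i := by
    obtain ⟨a, ha, ha1⟩ := h.pt_ne_bot i.2.left
    exact ⟨π a, h.pi_mem hM i.2 ha, h.pi_ne hM i.2 ha ha1⟩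
  ne i := by
    obtain ⟨C, hc, hf⟩ := h.exists_flat i.2
    obtain ⟨g, hg, w, hw, hgw⟩ : ∃ g ∈ ws V C, ∃ w ∈ ws V R, g * w ≠ w * g := by
      by_contra hcon
      push Not at hcon
      exact hc.ne fun g hg => mem_centralizer_iff.2 fun w hw => (hcon g hg w hw).symm
    have hgU : g ∈ UT V Z R i.1 := le_UT hc.l hf hg
    obtain ⟨φ, hφ, e⟩ := h.exists_phi hM i.2 hgU
    refine ⟨φ, hφ, fun e1 => hgw ?_⟩
    refine (h.phi_zero_iff hM i.2 hgU e hw).1 ?_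
    rw [e1]
    rfl
  gen φ hφ := by
    refine hM.end_ext fun w hw => ?_
    show φ (π w) = 0
    let K : Subgroup G :=
      { carrier := {w | w ∈ ws V R ∧ φ (π w) = 0}
        one_mem' := ⟨one_mem _, by rw [hM.map_one, map_zero]⟩
        mul_mem' := by
          rintro a b ⟨ha, ha'⟩ ⟨hb, hb'⟩
          exact ⟨mul_mem ha hb, by rw [hM.mul a ha b hb, map_add, ha', hb', add_zero]⟩
        inv_mem' := by
          rintro a ⟨ha, ha'⟩
          exact ⟨inv_mem ha, by rw [hM.map_inv ha, map_neg, ha', neg_zero]⟩ }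
    have hK : ws V R ≤ K := by
      refine h.ws_le_of hR (fun r hr => ⟨h.pt_le_ws hR hr, ?_⟩) (fun B hB b hb => ⟨h.adj_ws hB hb, ?_⟩)
      · rw [(hM.ker r (h.pt_le_ws hR hr)).2 hr, map_zero]
      · exact hφ ⟨B, hB⟩ _ (h.pi_mem hM hB hb)
    exact (hK hw).2
  same i j a ha ha' ha0 := by
    obtain ⟨L, hL, hRL, hiL, hjL⟩ := h.line_of hM i.2 j.2 ha ha' ha0
    have h2 := h.same_line hM i.2 j.2 hL hRL hiL hjL
    have h3 := h.same_line hM j.2 i.2 hL hRL hjL hiL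
    exact ⟨le_antisymm h2.1 h3.1, le_antisymm h2.2 h3.2⟩

/-- **`Big`** -/
theorem big (hc : Cr V Z C A R) (hf : Flat V C A R) {w m : G} (hw : w ∈ ws V C) (hm : m ∈ ws V R) (hwm : w * m = m * w)
    (hw' : ∃ b ∈ ws V R, w * b ≠ b * w) (hm' : ∃ a ∈ ws V C, a * m ≠ m * a) :
    McL.Big (fun i : {A // Adj V Z A R} => lamR π i.1) (fun i => PhiT V Z R π i.1) := by
  have hA : Adj V Z A R := hc.r
  have hR := hA.right
  have h0 := h.mcl hM hR
  have hfin := hM.fin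
  have hfinE : Finite (AddMonoid.End M) := DFunLike.finite _
  -- evaluation at `m` on `Φ_A` : onto, with a kernel
  obtain ⟨φ₀, hφ₀, e₀⟩ := h.exists_phi hM hA (le_UT hc.l hf hw)
  have hφ₀m : φ₀ (π m) = 0 := (h.phi_zero_iff hM hA (le_UT hc.l hf hw) e₀ hm).2 hwm
  have hφ₀0 : φ₀ ≠ 0 := by
    intro e
    obtain ⟨b, hb, hne⟩ := hw'
    refine hne ((h.phi_zero_iff hM hA (le_UT hc.l hf hw) e₀ hb).1 ?_)
    rw [e]
    rfl
  have hlt : Nat.card (lamR π A) < Nat.card (PhiT V Z R π A) := by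
    let f : PhiT V Z R π A → lamR π A := fun φ => ⟨φ.1 (π m), h0.val ⟨A, hA⟩ φ.1 φ.2 (π m)⟩
    have hs : Function.Surjective f := by
      rintro ⟨a, ha⟩
      obtain ⟨α, hα, rfl⟩ := (h.mem_lam hM hA).1 ha
      obtain ⟨g, hg, e⟩ := h.flat_val hA hc.l hf hm hm' hα
      obtain ⟨φ, hφ, e'⟩ := h.exists_phi hM hA (le_UT hc.l hf hg)
      exact ⟨⟨φ, hφ⟩, Subtype.ext (by show φ (π m) = π α; rw [e' m hm, e])⟩
    by_contra hle
    have hb : Function.Bijective f := hs.bijective_of_nat_card_le (not_lt.1 hle)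
    have h2 : f ⟨φ₀, hφ₀⟩ = f ⟨0, zero_mem _⟩ := Subtype.ext (by
      show φ₀ (π m) = (0 : AddMonoid.End M) (π m)
      rw [hφ₀m]
      rfl)
    exact hφ₀0 (congrArg Subtype.val (hb.1 h2))
  -- a joined point
  obtain ⟨j, hj⟩ := h0.exists_not_kl (i := ⟨A, hA⟩) hφ₀ hφ₀0
  have hJ : JJ (fun i : {A // Adj V Z A R} => lamR π i.1) (fun i => PhiT V Z R π i.1) ⟨A, hA⟩ j := h0.jj hφ₀ hj
  obtain ⟨β, hβ, hβ0⟩ := h0.lne j
  obtain ⟨φ, hφ, hφ0, hφβ⟩ : ∃ φ ∈ PhiT V Z R π A, φ ≠ 0 ∧ φ β = 0 := by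
    by_contra hcon
    push Not at hcon
    let f : PhiT V Z R π A → lamR π A := fun φ => ⟨φ.1 β, h0.val ⟨A, hA⟩ φ.1 φ.2 β⟩
    refine absurd (Nat.card_le_card_of_injective f fun φ ψ e => ?_) (not_le.2 hlt)
    have h2 : φ.1 β = ψ.1 β := congrArg Subtype.val e
    by_contra hne
    refine hcon (φ.1 - ψ.1) (sub_mem φ.2 ψ.2) (fun e => hne (Subtype.ext (sub_eq_zero.1 e))) ?_
    show φ.1 β - ψ.1 β = 0
    rw [h2, sub_self]
  exact h0.big_of hJ hφ (h0.kl_of (i := ⟨A, hA⟩) hφ hβ hβ0 hφβ) hφ0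

/-- **`Dist`** -/
theorem dist (hNF : NF V Z) (hR : IsCj Z R) :
    Dist (fun i : {A // Adj V Z A R} => lamR π i.1) (fun i => PhiT V Z R π i.1) := by
  have h0 := h.mcl hM hR
  -- the common centraliser
  let N : Subgroup G :=
    { carrier := {w | w ∈ ws V R ∧ ∀ B, Adj V Z B R → ∀ u ∈ UT V Z R B, u * w = w * u}
      one_mem' := ⟨one_mem _, fun _ _ u _ => by rw [mul_one, one_mul]⟩
      mul_mem' := by
        rintro a b ⟨ha, ha'⟩ ⟨hb, hb'⟩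
        exact ⟨mul_mem ha hb, fun Y hY u hu => by rw [← mul_assoc, ha' Y hY u hu, mul_assoc, hb' Y hY u hu, mul_assoc]⟩
      inv_mem' := by
        rintro a ⟨ha, ha'⟩
        exact ⟨inv_mem ha, fun Y hY u hu => by
          rw [mul_inv_eq_iff_eq_mul, mul_assoc, ha' Y hY u hu, inv_mul_cancel_left]⟩ }
  have hRN : R ≤ N := fun r hr => ⟨h.pt_le_ws hR hr, fun B hB u hu => h.u_R hB hu hr⟩
  have hcen : centralizer (R : Set G) ≤ normalizer (N : Set G) := by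
    have key : ∀ n ∈ centralizer (R : Set G), ∀ w ∈ N, n * w * n⁻¹ ∈ N := by
      intro n hn w hw
      have hnR : PT.cj n R = R := cj_eq_iff.2 (centralizer_le_normalizer _ hn)
      have hnR' : PT.cj n⁻¹ R = R := cj_eq_iff.2 (centralizer_le_normalizer _ (inv_mem hn))
      refine ⟨conj_ws hnR hw.1, fun B hB u hu => ?_⟩
      have h1 : Adj V Z (PT.cj n⁻¹ B) R := by
        have h2 := hB.cj n⁻¹
        rwa [hnR'] at h2
      have h3 : n⁻¹ * u * n ∈ UT V Z R (PT.cj n⁻¹ B) := by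
        have h4 := UT_cj V Z R B n⁻¹
        rw [hnR'] at h4
        rw [h4]
        have := conj_mem_cj (g := n⁻¹) hu
        rwa [inv_inv] at this
      have h4 := hw.2 _ h1 _ h3
      calc u * (n * w * n⁻¹) = n * ((n⁻¹ * u * n) * w) * n⁻¹ := by group
        _ = n * w * n⁻¹ * u := by rw [h4]; group
    intro n hn
    rw [mem_normalizer_iff]
    intro w
    refine ⟨key n hn w, fun hw => ?_⟩
    have h1 := key n⁻¹ (inv_mem hn) _ hw
    have e : n⁻¹ * (n * w * n⁻¹) * n⁻¹⁻¹ = w := by group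
    rwa [e] at h1
  have hNR : N = R := by
    obtain ⟨L, hL, hRL⟩ := h.exists_line hR
    refine hNF R L N hR hL hRL hRN (fun w hw => hw.1) hcen (le_antisymm ?_ (le_inf hRN hRL))
    rintro v ⟨hv, hvL⟩
    by_contra hvR
    have hv1 : v ≠ 1 := fun e => hvR (e ▸ one_mem _)
    obtain ⟨B, hB, hBL, hvB⟩ := h.exists_point hL hvL hv1
    have hBR : Adj V Z B R := ⟨hB, hR, fun e => hvR (e ▸ hvB), L, hL, hBL, hRL⟩
    -- `Φ_B` moves something, so something moves `B`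
    obtain ⟨φ, hφ, hφ0⟩ := h0.ne ⟨B, hBR⟩
    obtain ⟨j, hj⟩ := h0.exists_not_kl hφ hφ0
    have hJ := h0.symm (h0.jj hφ hj)
    obtain ⟨ψ, hψ, hne⟩ := h0.moves hJ (h.pi_mem hM hBR hvB) (h.pi_ne hM hBR hvB hv1)
    obtain ⟨g, hg, e⟩ := (h.mem_phi hM j.2).1 hψ
    exact hne ((h.phi_zero_iff hM j.2 hg e (h.adj_ws hBR hvB)).2 (hv.2 j.1 j.2 g hg))
  rintro ⟨A, hA⟩ ⟨B, hB⟩ a ha b hb hk
  obtain ⟨α, hα, rfl⟩ := (h.mem_lam hM hA).1 ha
  obtain ⟨β, hβ, rfl⟩ := (h.mem_lam hM hB).1 hb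
  have h1 := h.adj_ws hA hα
  have h2 := h.adj_ws hB hβ
  rw [← hM.mul _ h1 _ h2, hM.ker _ (mul_mem h1 h2), ← hNR]
  refine ⟨mul_mem h1 h2, fun X hX u hu => ?_⟩
  obtain ⟨φ, hφ, e⟩ := h.exists_phi hM hX hu
  have h3 := hk ⟨X, hX⟩ φ hφ
  rw [← hM.mul _ h1 _ h2] at h3
  exact (h.phi_zero_iff hM hX hu e (mul_mem h1 h2)).1 h3

end

end TT

end Cfsg.Agent.Omega.NO3S.MidB.No

end
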