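import Cfsg.Agent.Mrg.Omega.NO3S.MidB.Base
import Cfsg.Agent.Mrg.Omega.NO3S.MidQ.TNTwo
import Cfsg.Agent.Mrg.Omega.NO3S.MidQ.TNOne

section


/-!
# NO-3S, natural lines, critical distance 2, the `(R, B)`-frame, TYPE N: the hypotheses and the first facts

* `TF S P V Z` : `Mid`, **(N)** `[W_A, W_B] ≤ R` for every critical pair `(A, B)` with middle `R`, and there is a
  critical pair (nothing else);
* `Sml V Z` : an element of `U_A` which centralises a joined point `B`, centralises `W_R`; `Bg V Z` the opposite;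
* `Md V Z R π` : `π : W_R → M` has kernel `R`; `lamR`, `PhiR` the points `π (A)` and the endomorphisms of `M` induced by
  the elements of `U_A` (minus 1).
-/

set_option autoImplicit false
set_option linter.unusedSectionVars false

namespace Cfsg.Agent.Omega.NO3S.MidB

open Subgroup Cfsg.Agent.Omega.NO3S.PT Cfsg.Agent.Omega.NoFF.Basic Cfsg.Agent.ZN
open Cfsg.Agent.Omega.NO3S.MidQ (Adj Com Cr UU ws_of kx_of isCj_iff adj_iff com_iff cr_iff UU_of isCj_symm isCj_trans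
  com_cj UU_cj le_UU normalizer_le_UU isPGroup_sSup FlagCan PtCan ff mem_ff ff_cj TypN cw mem_cw cw_le cw_cj Jo jo_cj zu)
open scoped Pointwise

variable {G : Type*} [Group G] {V Z X Y R L A A' B B' C : Subgroup G}

/-- **TYPE N**, nothing else -/
structure TF [Finite G] (S : Sylow 2 G) (P V Z : Subgroup G) : Prop extends Mid S P V Z where
  comm : TypN V Z
  ex : ∃ A R B, Cr V Z A R B

/-- (A1): an element of `U_A` which centralises a joined point `B`, centralises `W_R` -/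
def Sml (V Z : Subgroup G) : Prop :=
  ∀ R A B, Jo V Z R A B → ∀ g ∈ UU V Z A, (∀ b ∈ B, g * b = b * g) → ∀ w ∈ ws V R, g * w = w * g

/-- (A2): for all joined `A`, `B` some element of `U_A` centralises `B` but not `W_R` -/
def Bg (V Z : Subgroup G) : Prop :=
  ∀ R A B, Jo V Z R A B → ∃ g ∈ UU V Z A, (∀ b ∈ B, g * b = b * g) ∧ ∃ w ∈ ws V R, g * w ≠ w * g

/-- `π : W_R → M` is surjective with kernel `R` -/
structure Md {M : Type*} [AddCommGroup M] (V R : Subgroup G) (π : G → M) : Prop where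
  fin : Finite M
  mul : ∀ a ∈ ws V R, ∀ b ∈ ws V R, π (a * b) = π a + π b
  ker : ∀ a ∈ ws V R, (π a = 0 ↔ a ∈ R)
  surj : ∀ m, ∃ a ∈ ws V R, π a = m

namespace Mid

variable [Finite G] {S : Sylow 2 G} {P : Subgroup G} (h : Mid S P V Z)
include h

theorem cj_UU {g : G} (hg : g ∈ UU V Z R) (hR : IsCj Z R) : PT.cj g R = R :=
  cj_eq_iff.2 (centralizer_le_normalizer _ (h.UU_le_cent_pt hR hg))

/-- `U_A` fixes `R` for `R ~ A` -/
theorem cj_UU_adj {g : G} (hg : g ∈ UU V Z A) (hA : Adj V Z A R) : PT.cj g R = R :=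
  cj_eq_iff.2 (centralizer_le_normalizer _ (h.UU_le_cent_adj hA.symm hg))

theorem ws_le_UU_adj (hA : Adj V Z A R) : ws V A ≤ UU V Z R := le_UU hA

theorem card_pt (hX : IsCj Z X) : Nat.card X = Nat.card Z := by
  obtain ⟨g, rfl⟩ := hX
  exact card_cj g Z

theorem one_lt_card_pt : 1 < Nat.card Z := by
  obtain ⟨z, hz, hz1⟩ := h.pt_ne_bot h.pl.isCj_self
  exact Finite.one_lt_card_iff_nontrivial.2 ⟨⟨⟨z, hz⟩, 1, fun e => hz1 (congrArg Subtype.val e)⟩⟩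

theorem adj_cj_UU (hA : Adj V Z A R) (hB : Adj V Z B R) {g : G} (hg : g ∈ UU V Z A) : Adj V Z (PT.cj g B) R := by
  have h1 := hB.cj g
  rwa [h.cj_UU_adj hg hA] at h1

/-- ordered adjacent pairs are conjugate -/
theorem exists_adj {R' : Subgroup G} (hA : Adj V Z A R) (hA' : Adj V Z A' R') : ∃ g : G, cj g R = R' ∧ cj g A = A' := by
  obtain ⟨L, hL, hAL, hRL⟩ := hA.line
  obtain ⟨L', hL', hAL', hRL'⟩ := hA'.line
  obtain ⟨g, hg, hgL⟩ := h.exists_conj₂ hA.right hL hRL hA'.right hL' hRL'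
  have h1 : PT.cj g A ≤ L' := by rw [hgL]; exact cj_le_cj.2 hAL
  have h2 : PT.cj g A ≠ R' := by
    rw [hg]
    exact fun e => hA.ne (cj_inj.1 e)
  obtain ⟨k, hk, hkA⟩ := h.K_trans hA'.right hL' hRL' (hA.left.cj g) h1 hA'.left hAL' h2 hA'.ne
  refine ⟨k * g, ?_, by rw [← cj_cj, hkA]⟩
  rw [← cj_cj, ← hg]
  exact cj_eq_iff.2 (kx_normalizes le_rfl (h.pt_le_ws hA'.right) hk)

/-- a 2-element normalising a point fixes a line on it -/
theorem exists_fix_line (hR : IsCj Z R) {t : G} (ht : TwoEl t) (htR : PT.cj t R = R) :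
    ∃ L, IsCj V L ∧ R ≤ L ∧ PT.cj t L = L := by
  obtain ⟨g, rfl⟩ := hR
  obtain ⟨m, hm, htm⟩ := exists_le_conj (h.pl.conj g).S_le_N ht.isPGroup ((zpowers_le).2 (cj_eq_iff.1 htR))
  refine ⟨PT.cj m (PT.cj g V), ⟨m * g, by rw [cj_cj]⟩, ?_, ?_⟩
  · rw [← cj_eq_iff.2 hm]
    rw [cj_eq_iff.2 hm]
    have h1 := cj_le_cj (g := m) |>.2 (cj_le_cj (g := g) |>.2 h.pl.ZV)
    rwa [cj_eq_iff.2 hm] at h1
  · have h1 : t ∈ PT.cj m ((g • S : Sylow 2 G) : Subgroup G) := htm (mem_zpowers t)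
    have h2 := ((h.pl.conj g).conj m)
    exact cj_eq_iff.2 (h2.PN (h2.SP h1))

/-- `L ≤ U` if `R`, `B ≤ U` -/
theorem line_le' {U : Subgroup G} (hR : IsCj Z R) (hB : IsCj Z B) (hne : B ≠ R) (hL : IsCj V L) (hRL : R ≤ L)
    (hBL : B ≤ L) (hRU : R ≤ U) (hBU : B ≤ U) : L ≤ U := by
  obtain ⟨T, Q, h'⟩ := h.flag hR hL hRL
  intro v hv
  obtain ⟨x, hx, y, hy, rfl⟩ := h'.pl.exists_mul h'.pl.isCj_self hRL ((isCj_iff hR).2 hB) hBL hne.symm hv
  exact mul_mem (hRU hx) (hBU hy)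

/-- a subgroup containing all `B ~ R` contains `W_R` -/
theorem ws_le_of {U : Subgroup G} (hR : IsCj Z R) (hRU : R ≤ U) (hU : ∀ B, Adj V Z B R → B ≤ U) : ws V R ≤ U := by
  refine ws_le fun L hL hRL => ?_
  obtain ⟨Y, hY, hYL, hYR⟩ := h.exists_second hR hL hRL
  exact h.line_le' hR hY hYR hL hRL hYL hRU (hU Y ⟨hY, hR, hYR, L, hL, hYL, hRL⟩)

end Mid

namespace TF

variable [Finite G] {S : Sylow 2 G} {P : Subgroup G} (h : TF S P V Z)
include h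

/-- **(0.a)** `U_R' ≤ R` -/
theorem uu_comm (hR : IsCj Z R) {g g' : G} (hg : g ∈ UU V Z R) (hg' : g' ∈ UU V Z R) :
    g * g' * g⁻¹ * g'⁻¹ ∈ R := h.UU_comm h.comm hR hg hg'

/-- **(0.a)** `g² ∈ R` for `g ∈ U_R` -/
theorem uu_sq (hR : IsCj Z R) {g : G} (hg : g ∈ UU V Z R) : g * g ∈ R := h.UU_sq h.comm hR hg

/-- **(0.b)** `[U_A, W_R] ≤ A` for `A ~ R` -/
theorem comm_adj (hA : Adj V Z A R) {u w : G} (hu : u ∈ UU V Z A) (hw : w ∈ ws V R) : u * w * u⁻¹ * w⁻¹ ∈ A :=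
  h.UU_ws h.comm hA hu hw

/-- **(0.c)** the middle of a critical pair is unique -/
theorem middle {R' : Subgroup G} (hc : Cr V Z A R B) (hc' : Cr V Z A R' B) : R = R' := by
  by_contra hne
  apply hc.ne
  intro a ha
  refine mem_centralizer_iff.2 fun b hb => ?_
  have h1 := h.comm A R B hc a ha b hb
  have h2 := h.comm A R' B hc' a ha b hb
  by_contra hab
  have h3 : a * b * a⁻¹ * b⁻¹ ≠ 1 := fun e => hab (by
    rw [mul_inv_eq_one, mul_inv_eq_iff_eq_mul] at e; exact e.symm)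
  exact hne (h.pts_eq hc.l.right hc'.l.right h1 h2 h3)

/-- for `R ~ A` some `(R, B)` is critical with middle `A` -/
theorem exists_crit (hA : Adj V Z R A) : ∃ B, Cr V Z R A B := by
  obtain ⟨X, Y, W, hc⟩ := h.ex
  obtain ⟨L, hL, hXL, hYL⟩ := hc.l.line
  obtain ⟨M, hM, hRM, hAM⟩ := hA.line
  obtain ⟨g, hg1, hg2⟩ := h.exists_conj₂ hc.l.right hL hYL hA.right hM hAM
  have h1 : PT.cj g X ≤ M := by rw [hg2]; exact cj_le_cj.2 hXL
  have h2 : PT.cj g X ≠ A := by rw [hg1]; exact fun e => hc.l.ne (cj_inj.1 e)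
  obtain ⟨k, hk, hk2⟩ := h.K_trans hA.right hM hAM (hc.l.left.cj g) h1 hA.left hRM h2 hA.ne
  have hkA : PT.cj k A = A := cj_eq_iff.2 (kx_normalizes le_rfl (h.pt_le_ws hA.right) hk)
  refine ⟨PT.cj (k * g) W, ?_⟩
  have h3 := hc.cj (k * g)
  rwa [← cj_cj k g X, hk2, ← cj_cj k g Y, ← hg1, hkA] at h3

theorem cj_le_sup (hA : Adj V Z A R) (hB : Adj V Z B R) {g : G} (hg : g ∈ UU V Z A) : PT.cj g B ≤ A ⊔ B := by
  intro x hx
  rw [mem_cj] at hx
  have h3 := h.comm_adj hA hg (h.adj_le_ws hB.symm hx)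
  have e : x = (g * (g⁻¹ * x * g) * g⁻¹ * (g⁻¹ * x * g)⁻¹) * (g⁻¹ * x * g) := by group
  rw [e]
  exact mul_mem (mem_sup_left h3) (mem_sup_right hx)

theorem comm_pts (hA : Adj V Z A R) (hB : Adj V Z B R) : ∀ a ∈ A, ∀ b ∈ B, a * b = b * a := fun _ ha _ hb =>
  h.ws_comm hA.right (h.adj_le_ws hA.symm ha) (h.adj_le_ws hB.symm hb)

end TF

end Cfsg.Agent.Omega.NO3S.MidB

end

section


/-!
# TYPE N is impossible, K-free: the interfaces (bb OMEGA #18317)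

`h : TF S P V Z`.  The pieces, as hypotheses of the others:

* `JVal V Z` : (0) if `A → B` at `R` (`U_A` moves `B`), `1 ≠ β ∈ B`, then `[U_A, β] = A` elementwise;
* `JSym V Z` : (1) `Jo` is symmetric;
* `JDist V Z` : (2) for `A, C ~ R`, `α ∈ A`, `γ ∈ C`: `α γ` centralised by all `U_X`, `X ~ R`, is in `R`;
* `JTrans V Z` : (5) (in case (A2)) `Jo` is transitive (different lines);
* `JDich V Z` : (5') (in case (A2)) the dichotomy.
-/

set_option autoImplicit false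

namespace Cfsg.Agent.Omega.NO3S.MidB

open Subgroup Cfsg.Agent.Omega.NO3S.PT
open Cfsg.Agent.Omega.NO3S.MidQ (Adj Com Cr UU Jo)

variable {G : Type*} [Group G]

/-- (1) -/
def JSym (V Z : Subgroup G) : Prop := ∀ R A B, Jo V Z R A B → Jo V Z R B A

/-- (0) -/
def JVal (V Z : Subgroup G) : Prop :=
  ∀ R A B, Jo V Z R A B → ∀ β ∈ B, β ≠ 1 → ∀ α ∈ A, ∃ g ∈ UU V Z A, g * β * g⁻¹ * β⁻¹ = α

/-- (2) -/
def JDist (V Z : Subgroup G) : Prop :=
  ∀ R A C, Adj V Z A R → Adj V Z C R → ∀ α ∈ A, ∀ γ ∈ C,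
    (∀ X, Adj V Z X R → ∀ u ∈ UU V Z X, u * (α * γ) = α * γ * u) → α * γ ∈ R

/-- (5) -/
def JTrans (V Z : Subgroup G) : Prop :=
  ∀ R A B C, Jo V Z R A B → Jo V Z R B C → (∀ L, IsCj V L → R ≤ L → A ≤ L → ¬ C ≤ L) → Jo V Z R A C

/-- (5') -/
def JDich (V Z : Subgroup G) : Prop :=
  ∀ R Y I J, Jo V Z R Y J → Adj V Z I R →
    (∀ g ∈ UU V Z Y, ∃ g' ∈ UU V Z Y, (∀ b ∈ J, g' * b * g'⁻¹ = g * b * g⁻¹) ∧ ∀ i ∈ I, g' * i = i * g') ∨
    ∀ α ∈ I, ∃ γ ∈ J, ∀ g ∈ UU V Z Y, g * (α * γ) = α * γ * g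

end Cfsg.Agent.Omega.NO3S.MidB

end

section


/-!
# NO-3S, the `(R, B)`-frame, TYPE N: the output of (a) - (g)

`TG S P V Z` : `MidQ.TNG` without (H3), over `MidB.Mid`.
-/

set_option autoImplicit false

namespace Cfsg.Agent.Omega.NO3S.MidB

open Subgroup Cfsg.Agent.Omega.NO3S.PT
open Cfsg.Agent.Omega.NO3S.MidQ (Adj Com Cr UU cw Jo zu H2)

variable {G : Type*} [Group G]

/-- the output of (a) - (g) -/
structure TG [Finite G] (S : Sylow 2 G) (P V Z : Subgroup G) : Prop extends TF S P V Z where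
  h2 : H2 V Z
  /-- (c) -/
  symm : ∀ R A B, Jo V Z R A B → Jo V Z R B A
  /-- (a) -/
  cent : ∀ R A, Adj V Z A R → ∀ g ∈ UU V Z A, ∀ w ∈ ws V R, g * w = w * g →
    w ∈ cw V Z R A ∨ g ∈ centralizer ((ws V R : Subgroup G) : Set G)
  /-- (d) -/
  infc : ∀ R A B Y, Jo V Z R A B → IsCj Z Y → Y ≤ A ⊔ B → Y ≠ A → ws V A ⊓ ws V Y = ws V A ⊓ ws V B
  /-- (g) -/
  wz : ∀ R A B, Jo V Z R A B → ws V A ⊔ zu V Z R = ws V B ⊔ zu V Z R

end Cfsg.Agent.Omega.NO3S.MidB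

end
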