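import Cfsg.Agent.Mrg.Omega.NO3S.MidB.TFOne
import Cfsg.Agent.Mrg.Omega.NO3S.MidB.TGTwo
import Cfsg.Agent.Mrg.Omega.NO3S.MidB.TF
import Cfsg.Agent.Mrg.Omega.NO3S.MidQ.Base

section


/-!
# NO-3S, the `(R, B)`-frame, TYPE N: (H2) and (DIST) are contradictory (bb OMEGA #18317 (3))
-/

set_option autoImplicit false

namespace Cfsg.Agent.Omega.NO3S.MidB

open Subgroup
open Cfsg.Agent.Omega.NO3S.MidQ (H2)

variable {G : Type*} [Group G] [Finite G] {S : Sylow 2 G} {P V Z : Subgroup G}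

/-- **(3)** -/
theorem TF.false_of_h2 (h : TF S P V Z) (h2 : H2 V Z) (hd : JDist V Z) : False := (h.tg h2).false hd

end Cfsg.Agent.Omega.NO3S.MidB

end

section


/-!
# TYPE N, case (A2): the blocks (bb OMEGA #18317, TCARD 5 D)

* `Eqv V Z R A B` : `A`, `B ~ R` are on a line with `R` or joined at `R`; an equivalence relation;
* `blk V Z R A` : the block of `A` at `R`, `TF.mem_blk`;
* `Good V Z R H`, `TF.good_sup`.
-/

set_option autoImplicit false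
set_option linter.unusedSectionVars false

namespace Cfsg.Agent.Omega.NO3S.MidB

open Subgroup Cfsg.Agent.Omega.NO3S.PT Cfsg.Agent.Omega.NoFF.Basic Cfsg.Agent.ZN
open Cfsg.Agent.Omega.NO3S.MidQ (Adj Com Cr UU ws_of kx_of isCj_iff adj_iff com_iff cr_iff UU_of isCj_symm isCj_trans
  com_cj UU_cj le_UU normalizer_le_UU isPGroup_sSup FlagCan PtCan ff mem_ff ff_cj TypN cw mem_cw cw_le cw_cj Jo jo_cj zu)
open scoped Pointwise

variable {G : Type*} [Group G] {V Z X Y R L A A' B B' C E F H : Subgroup G}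

/-- `A`, `B ~ R` are on one line with `R` or joined -/
def Eqv (V Z R A B : Subgroup G) : Prop :=
  Adj V Z A R ∧ Adj V Z B R ∧ ((∃ L, IsCj V L ∧ R ≤ L ∧ A ≤ L ∧ B ≤ L) ∨ Jo V Z R A B)

/-- the block of `A` at `R` -/
def blk (V Z R A : Subgroup G) : Subgroup G := R ⊔ sSup {E | Eqv V Z R A E}

/-- `R ≤ H` and `H` is a union of `R` and points `~ R` -/
def Good (V Z R H : Subgroup G) : Prop := R ≤ H ∧ ∀ x ∈ H, x ∉ R → ∃ E, Adj V Z E R ∧ E ≤ H ∧ x ∈ E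

theorem Eqv.cj (he : Eqv V Z R A B) (g : G) : Eqv V Z (cj g R) (cj g A) (cj g B) := by
  obtain ⟨h1, h2, h3⟩ := he
  refine ⟨h1.cj g, h2.cj g, ?_⟩
  rcases h3 with ⟨L, hL, hRL, hAL, hBL⟩ | h3
  · exact Or.inl ⟨PT.cj g L, hL.cj g, cj_le_cj.2 hRL, cj_le_cj.2 hAL, cj_le_cj.2 hBL⟩
  · exact Or.inr (jo_cj.2 h3)

theorem eqv_cj {g : G} : Eqv V Z (cj g R) (cj g A) (cj g B) ↔ Eqv V Z R A B := by
  refine ⟨fun h => ?_, fun h => h.cj g⟩
  have := h.cj g⁻¹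
  rwa [cj_cj, cj_cj, cj_cj, inv_mul_cancel, cj_one, cj_one, cj_one] at this

theorem eqv_le_blk (he : Eqv V Z R A E) : E ≤ blk V Z R A := le_sup_of_le_right (le_sSup he)

theorem R_le_blk : R ≤ blk V Z R A := le_sup_left

theorem blk_cj (g : G) : blk V Z (cj g R) (cj g A) = cj g (blk V Z R A) := by
  have key : ∀ (g : G) (R A : Subgroup G), blk V Z (cj g R) (cj g A) ≤ cj g (blk V Z R A) := by
    intro g R A
    refine sup_le (cj_le_cj.2 R_le_blk) (sSup_le fun E hE => ?_)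
    have h1 : Eqv V Z R A (cj g⁻¹ E) := by
      have h2 := hE.cj g⁻¹
      rwa [cj_cj, cj_cj, inv_mul_cancel, cj_one, cj_one] at h2
    have h3 := eqv_le_blk h1
    rwa [cj_le_iff, inv_inv] at h3
  refine le_antisymm (key g R A) ?_
  have h1 := key g⁻¹ (cj g R) (cj g A)
  rw [cj_cj, cj_cj, inv_mul_cancel, cj_one, cj_one] at h1
  rwa [cj_le_iff]

namespace TF

variable [Finite G] {S : Sylow 2 G} {P : Subgroup G} (h : TF S P V Z)
include h

theorem eqv_refl (hA : Adj V Z A R) : Eqv V Z R A A := by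
  obtain ⟨L, hL, hAL, hRL⟩ := hA.line
  exact ⟨hA, hA, Or.inl ⟨L, hL, hRL, hAL, hAL⟩⟩

theorem eqv_symm (hs : JSym V Z) (he : Eqv V Z R A B) : Eqv V Z R B A := by
  obtain ⟨h1, h2, h3⟩ := he
  refine ⟨h2, h1, ?_⟩
  rcases h3 with ⟨L, hL, hRL, hAL, hBL⟩ | h3
  · exact Or.inl ⟨L, hL, hRL, hBL, hAL⟩
  · exact Or.inr (hs _ _ _ h3)

theorem eqv_trans (ht : JTrans V Z) (he : Eqv V Z R A B) (he' : Eqv V Z R B C) : Eqv V Z R A C := by
  obtain ⟨h1, h2, h3⟩ := he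
  obtain ⟨-, h4, h5⟩ := he'
  refine ⟨h1, h4, ?_⟩
  rcases h3 with ⟨L, hL, hRL, hAL, hBL⟩ | h3
  · rcases h5 with ⟨M, hM, hRM, hBM, hCM⟩ | h5
    · left
      have e := h.line_unique h2.left h2.right h2.ne hL hM hBL hRL hBM hRM
      exact ⟨L, hL, hRL, hAL, e ▸ hCM⟩
    · exact Or.inr (h.jo_line_left h5 h1 hL hRL hBL hAL)
  · rcases h5 with ⟨M, hM, hRM, hBM, hCM⟩ | h5
    · exact Or.inr (h.jo_line_right h3 h4 hM hRM hBM hCM)
    · by_cases hl : ∃ L, IsCj V L ∧ R ≤ L ∧ A ≤ L ∧ C ≤ L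
      · exact Or.inl hl
      · exact Or.inr (ht R A B C h3 h5 fun L hL hRL hAL hCL => hl ⟨L, hL, hRL, hAL, hCL⟩)

/-- an element of a line on `R` is in `R` or in a point `~ R` of the line -/
theorem line_pt (hR : IsCj Z R) (hL : IsCj V L) (hRL : R ≤ L) {x : G} (hx : x ∈ L) (hxR : x ∉ R) :
    ∃ E, Adj V Z E R ∧ E ≤ L ∧ x ∈ E := by
  obtain ⟨E, hE, hEL, hxE⟩ := h.exists_point hL hx (fun e => hxR (e ▸ one_mem _))
  exact ⟨E, ⟨hE, hR, fun e => hxR (e ▸ hxE), L, hL, hEL, hRL⟩, hEL, hxE⟩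

/-- the points are disjoint from `R` -/
theorem not_mem_R (hE : Adj V Z E R) {x : G} (hx : x ∈ E) (hx1 : x ≠ 1) : x ∉ R := fun e =>
  hE.ne (h.pts_eq hE.left hE.right hx e hx1)

/-- the product of elements of two joined points is in a point of `⟨E, F⟩` -/
theorem jo_mul (hv : JVal V Z) (hj : Jo V Z R E F) {x y : G} (hx : x ∈ E) (hy : y ∈ F) (hy1 : y ≠ 1) :
    ∃ g ∈ UU V Z E, x * y ∈ PT.cj g F ∧ PT.cj g F ≤ E ⊔ F ∧ Adj V Z (PT.cj g F) R ∧ Jo V Z R E (PT.cj g F) := by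
  obtain ⟨g, hg, hgy⟩ := hv R E F hj y hy hy1 x hx
  refine ⟨g, hg, ?_, h.cj_le_sup hj.l hj.r hg, h.adj_cj_UU hj.l hj.r hg, ?_⟩
  · have h1 : g * y * g⁻¹ = x * y := by rw [← hgy]; group
    rw [← h1]
    exact conj_mem_cj hy
  · have h1 := jo_cj (g := g).2 hj
    rwa [h.cj_UU_adj hg hj.l, h.cj_UU hg hj.l.left] at h1

/-- the elements of a block -/
theorem mem_blk (hs : JSym V Z) (hv : JVal V Z) (ht : JTrans V Z) (hA : Adj V Z A R) {x : G} :
    x ∈ blk V Z R A ↔ x ∈ R ∨ ∃ E, Eqv V Z R A E ∧ x ∈ E := by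
  constructor
  swap
  · rintro (hx | ⟨E, hE, hx⟩)
    · exact R_le_blk hx
    · exact eqv_le_blk hE hx
  -- a line with one point in the block
  have hline : ∀ {F L : Subgroup G}, Eqv V Z R A F → IsCj V L → R ≤ L → F ≤ L → ∀ x ∈ L,
      x ∈ R ∨ ∃ E, Eqv V Z R A E ∧ x ∈ E := by
    intro F L hF hL hRL hFL x hx
    by_cases hxR : x ∈ R
    · exact Or.inl hxR
    obtain ⟨E, hE, hEL, hxE⟩ := h.line_pt hA.right hL hRL hx hxR
    exact Or.inr ⟨E, h.eqv_trans ht hF ⟨hF.2.1, hE, Or.inl ⟨L, hL, hRL, hFL, hEL⟩⟩, hxE⟩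
  let K : Subgroup G :=
    { carrier := {x | x ∈ R ∨ ∃ E, Eqv V Z R A E ∧ x ∈ E}
      one_mem' := Or.inl (one_mem _)
      inv_mem' := by
        rintro x (hx | ⟨E, hE, hx⟩)
        · exact Or.inl (inv_mem hx)
        · exact Or.inr ⟨E, hE, inv_mem hx⟩
      mul_mem' := by
        rintro x y (hx | ⟨E, hE, hx⟩) (hy | ⟨F, hF, hy⟩)
        · exact Or.inl (mul_mem hx hy)
        · obtain ⟨L, hL, hFL, hRL⟩ := hF.2.1.line
          exact hline hF hL hRL hFL _ (mul_mem (hRL hx) (hFL hy))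
        · obtain ⟨L, hL, hEL, hRL⟩ := hE.2.1.line
          exact hline hE hL hRL hEL _ (mul_mem (hEL hx) (hRL hy))
        · by_cases hy1 : y = 1
          · rw [hy1, mul_one]
            exact Or.inr ⟨E, hE, hx⟩
          rcases (h.eqv_trans ht (h.eqv_symm hs hE) hF).2.2 with ⟨L, hL, hRL, hEL, hFL⟩ | hj
          · exact hline hE hL hRL hEL _ (mul_mem (hEL hx) (hFL hy))
          · obtain ⟨g, hg, h1, -, h3, h4⟩ := h.jo_mul hv hj hx hy hy1
            exact Or.inr ⟨_, h.eqv_trans ht hE ⟨hE.2.1, h3, Or.inr h4⟩, h1⟩ }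
  have hK : blk V Z R A ≤ K := sup_le (fun x hx => Or.inl hx) (sSup_le fun E hE x hx => Or.inr ⟨E, hE, hx⟩)
  exact fun hx => hK hx

theorem blk_le_ws (hA : Adj V Z A R) : blk V Z R A ≤ ws V R :=
  sup_le (h.pt_le_ws hA.right) (sSup_le fun _ hE => h.adj_le_ws hE.2.1.symm)

/-- a point in a block is equivalent to its base point -/
theorem eqv_of_le (hs : JSym V Z) (hv : JVal V Z) (ht : JTrans V Z) (hA : Adj V Z A R) (hE : Adj V Z E R) {x : G}
    (hx : x ∈ E) (hx1 : x ≠ 1) (hxb : x ∈ blk V Z R A) : Eqv V Z R A E := by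
  rcases (h.mem_blk hs hv ht hA).1 hxb with h1 | ⟨F, hF, h1⟩
  · exact absurd h1 (h.not_mem_R hE hx hx1)
  · rwa [h.pts_eq hE.left hF.2.1.left hx h1 hx1]

theorem blk_eq (hs : JSym V Z) (ht : JTrans V Z) (he : Eqv V Z R A B) : blk V Z R A = blk V Z R B := by
  unfold blk
  congr 2
  ext E
  exact ⟨fun h1 => h.eqv_trans ht (h.eqv_symm hs he) h1, fun h1 => h.eqv_trans ht he h1⟩

theorem good_R : Good V Z R R := ⟨le_rfl, fun _ hx hxR => absurd hx hxR⟩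

theorem good_blk (hs : JSym V Z) (hv : JVal V Z) (ht : JTrans V Z) (hA : Adj V Z A R) :
    Good V Z R (blk V Z R A) := by
  refine ⟨R_le_blk, fun x hx hxR => ?_⟩
  rcases (h.mem_blk hs hv ht hA).1 hx with h1 | ⟨E, hE, h1⟩
  · exact absurd h1 hxR
  · exact ⟨E, hE.2.1, eqv_le_blk hE, h1⟩

/-- **one step** -/
theorem good_sup (hs : JSym V Z) (hv : JVal V Z) (ht : JTrans V Z) (hH : Good V Z R H) (hHD : H ≤ blk V Z R A)
    (hA : Adj V Z A R) (hE : Eqv V Z R A E) (hn : ¬ E ≤ H) :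
    Good V Z R (H ⊔ E) ∧ H ⊓ E = ⊥ ∧ Nat.card ↥(H ⊔ E) = Nat.card H * Nat.card Z := by
  have hHW : H ≤ ws V R := hHD.trans (h.blk_le_ws hA)
  have hEW : E ≤ ws V R := h.adj_le_ws hE.2.1.symm
  have hmem : ∀ x ∈ H ⊔ E, ∃ a ∈ H, ∃ b ∈ E, x = a * b := by
    let K : Subgroup G :=
      { carrier := {x | ∃ a ∈ H, ∃ b ∈ E, x = a * b}
        one_mem' := ⟨1, one_mem _, 1, one_mem _, (mul_one 1).symm⟩
        inv_mem' := by
          rintro _ ⟨a, ha, b, hb, rfl⟩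
          refine ⟨a⁻¹, inv_mem ha, b⁻¹, inv_mem hb, ?_⟩
          rw [mul_inv_rev, h.ws_comm hA.right ((ws V R).inv_mem (hEW hb)) ((ws V R).inv_mem (hHW ha))]
        mul_mem' := by
          rintro _ _ ⟨a, ha, b, hb, rfl⟩ ⟨c, hc, d, hd, rfl⟩
          refine ⟨a * c, mul_mem ha hc, b * d, mul_mem hb hd, ?_⟩
          rw [mul_assoc, ← mul_assoc b c d, h.ws_comm hA.right (hEW hb) (hHW hc)]
          simp only [mul_assoc] }
    have hK : H ⊔ E ≤ K := sup_le (fun x hx => ⟨x, hx, 1, one_mem _, (mul_one x).symm⟩)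
      (fun x hx => ⟨1, one_mem _, x, hx, (one_mul x).symm⟩)
    exact fun x hx => hK hx
  have hinf : H ⊓ E = ⊥ := by
    rw [eq_bot_iff]
    rintro x ⟨hx, hx'⟩
    rw [mem_bot]
    by_contra hx1
    obtain ⟨F, hF, hFH, hxF⟩ := hH.2 x hx (h.not_mem_R hE.2.1 hx' hx1)
    exact hn (h.pts_eq hE.2.1.left hF.left hx' hxF hx1 ▸ hFH)
  refine ⟨⟨hH.1.trans le_sup_left, ?_⟩, hinf, ?_⟩
  · intro x hx hxR
    obtain ⟨a, ha, b, hb, rfl⟩ := hmem x hx
    by_cases hb1 : b = 1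
    · rw [hb1, mul_one] at hxR ⊢
      obtain ⟨F, hF, hFH, haF⟩ := hH.2 a ha hxR
      exact ⟨F, hF, hFH.trans le_sup_left, haF⟩
    by_cases haR : a ∈ R
    · obtain ⟨L, hL, hEL, hRL⟩ := hE.2.1.line
      obtain ⟨F, hF, hFL, hxF⟩ := h.line_pt hA.right hL hRL (mul_mem (hRL haR) (hEL hb)) hxR
      exact ⟨F, hF, hFL.trans (h.line_le' hA.right hE.2.1.left hE.2.1.ne hL hRL hEL (hH.1.trans le_sup_left)
        le_sup_right), hxF⟩
    · obtain ⟨F, hF, hFH, haF⟩ := hH.2 a ha haR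
      have ha1 : a ≠ 1 := fun e => haR (e ▸ one_mem _)
      have h1 := h.eqv_of_le hs hv ht hA hF haF ha1 (hHD ha)
      rcases (h.eqv_trans ht (h.eqv_symm hs h1) hE).2.2 with ⟨L, hL, hRL, hFL, hEL⟩ | hj
      · exact absurd (hEL.trans (h.line_le' hA.right hF.left hF.ne hL hRL hFL hH.1 hFH)) hn
      · obtain ⟨g, hg, h2, h3, h4, -⟩ := h.jo_mul hv hj haF hb hb1
        exact ⟨_, h4, h3.trans (sup_le (hFH.trans le_sup_left) le_sup_right), h2⟩
  · have h1 : Nat.card E = Nat.card Z := h.card_pt hE.2.1.left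
    rw [← h1, ← Nat.card_prod]
    symm
    refine Nat.card_congr (Equiv.ofBijective
      (fun p : H × E => (⟨(p.1 : G) * p.2, mul_mem (mem_sup_left p.1.2) (mem_sup_right p.2.2)⟩ : ↥(H ⊔ E))) ⟨?_, ?_⟩)
    · rintro ⟨a, b⟩ ⟨c, d⟩ e
      have e1 : (a : G) * b = c * d := congrArg Subtype.val e
      have e2 : (c : G)⁻¹ * a = d * (b : G)⁻¹ := by
        rw [eq_mul_inv_iff_mul_eq, mul_assoc, e1, inv_mul_cancel_left]
      have e3 : (c : G)⁻¹ * a ∈ H ⊓ E := by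
        refine ⟨H.mul_mem (H.inv_mem c.2) a.2, ?_⟩
        change (c : G)⁻¹ * a ∈ E
        rw [e2]
        exact E.mul_mem d.2 (E.inv_mem b.2)
      rw [hinf, mem_bot] at e3
      have e4 : (a : G) = c := (inv_mul_eq_one.1 e3).symm
      rw [e3] at e2
      have e5 : (d : G) = b := mul_inv_eq_one.1 e2.symm
      exact Prod.ext (Subtype.ext e4) (Subtype.ext e5.symm)
    · rintro ⟨x, hx⟩
      obtain ⟨a, ha, b, hb, rfl⟩ := hmem x hx
      exact ⟨(⟨a, ha⟩, ⟨b, hb⟩), rfl⟩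

end TF

end Cfsg.Agent.Omega.NO3S.MidB

end

section


/-!
# TYPE N, case (A2): the fields of `SLB` except `two` (bb OMEGA #18317, TCARD 5 D)

* `Bk V Z X` : the blocks at `X`;
* `TF.exists_jo_blk`; `TF.card_blk` : the blocks have order `|Z| ^ (m + 1)`, `m ≥ 3`;
* `TF.slb_of` : `SLB` from the field `two`.
-/

set_option autoImplicit false
set_option linter.unusedSectionVars false

namespace Cfsg.Agent.Omega.NO3S.MidB

open Subgroup Cfsg.Agent.Omega.NO3S.PT Cfsg.Agent.Omega.NoFF.Basic Cfsg.Agent.ZN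
open Cfsg.Agent.Omega.NO3S.MidQ (Adj Com Cr UU ws_of kx_of isCj_iff adj_iff com_iff cr_iff UU_of isCj_symm isCj_trans
  com_cj UU_cj le_UU normalizer_le_UU isPGroup_sSup FlagCan PtCan ff mem_ff ff_cj TypN cw mem_cw cw_le cw_cj Jo jo_cj zu
  Sb SLB)
open scoped Pointwise

variable {G : Type*} [Group G] {V Z X Y R L A A' B B' C E F H : Subgroup G}

/-- the blocks at `X` -/
def Bk (V Z X : Subgroup G) : Set (Subgroup G) := {B | ∃ A, Adj V Z A X ∧ B = blk V Z X A}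

namespace TF

variable [Finite G] {S : Sylow 2 G} {P : Subgroup G} (h : TF S P V Z)
include h

/-- there are joined points -/
theorem exists_jo_blk : ∃ R A B, Jo V Z R A B := by
  obtain ⟨A, R, B, hc⟩ := h.ex
  by_contra hcon
  apply hc.ne
  have hB := hc.r.right
  have h1 : ws V B ≤ centralizer ((UU V Z R : Subgroup G) : Set G) := by
    refine h.ws_le_of hB ?_ fun F hF => ?_
    · exact le_centralizer_iff.1 (h.UU_le_cent_adj hc.r.symm)
    · by_contra hF'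
      exact hcon ⟨B, R, F, hc.r, hF, hF'⟩
  exact (le_UU hc.l).trans (le_centralizer_iff.1 h1)

/-- good subgroups of a block: the order of the block is a power of `|Z|` -/
theorem card_pow_of (hs : JSym V Z) (hv : JVal V Z) (ht : JTrans V Z) (hA : Adj V Z A R) :
    ∀ (n : ℕ) (H : Subgroup G), Nat.card (blk V Z R A) ≤ Nat.card H + n → Good V Z R H → H ≤ blk V Z R A →
      ∀ j, Nat.card H = Nat.card Z ^ j → ∃ k, j ≤ k ∧ Nat.card (blk V Z R A) = Nat.card Z ^ k := by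
  have hZ := h.one_lt_card_pt
  intro n
  induction n with
  | zero =>
    intro H hc _ hle j hj
    have h1 : H = blk V Z R A := Subgroup.eq_of_le_of_card_ge hle (by omega)
    exact ⟨j, le_rfl, by rw [← h1, hj]⟩
  | succ n ih =>
    intro H hc hH hle j hj
    by_cases h1 : H = blk V Z R A
    · exact ⟨j, le_rfl, by rw [← h1, hj]⟩
    obtain ⟨x, hx, hxH⟩ := SetLike.exists_of_lt (lt_of_le_of_ne hle h1)
    rcases (h.mem_blk hs hv ht hA).1 hx with h2 | ⟨E, hE, hxE⟩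
    · exact absurd (hH.1 h2) hxH
    obtain ⟨h3, -, h4⟩ := h.good_sup hs hv ht hH hle hA hE (fun e => hxH (e hxE))
    have h5 : 0 < Nat.card H := Nat.card_pos
    have h6 : Nat.card H + 1 ≤ Nat.card ↥(H ⊔ E) := by
      rw [h4]
      calc Nat.card H + 1 ≤ Nat.card H + Nat.card H := by omega
        _ = Nat.card H * 2 := by ring
        _ ≤ Nat.card H * Nat.card Z := Nat.mul_le_mul_left _ hZ
    obtain ⟨k, hk, hk2⟩ := ih (H ⊔ E) (by omega) h3 (sup_le hle (eqv_le_blk hE)) (j + 1) (by rw [h4, hj, pow_succ])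
    exact ⟨k, by omega, hk2⟩

/-- in case (A2) the order of a block with joined points is at least `|Z| ^ 4` -/
theorem card_blk_jo (hs : JSym V Z) (hv : JVal V Z) (ht : JTrans V Z) (hB : Bg V Z) (hj : Jo V Z R A B) :
    ∃ k, 4 ≤ k ∧ Nat.card (blk V Z R A) = Nat.card Z ^ k := by
  have hA := hj.l
  obtain ⟨g, hg, hgB, w, hw, hgw⟩ := hB R A B hj
  -- the fourth point
  obtain ⟨E, hE, hEg⟩ : ∃ E, Adj V Z E R ∧ ¬ E ≤ centralizer {g} := by
    by_contra hcon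
    push Not at hcon
    have h1 : ws V R ≤ centralizer {g} := by
      refine h.ws_le_of hA.right (fun x hx => ?_) hcon
      rw [mem_centralizer_singleton_iff]
      exact (mem_centralizer_iff.1 (h.UU_le_cent_adj hA.symm hg) x hx)
    exact hgw (mem_centralizer_singleton_iff.1 (h1 hw)).symm
  have hjE : Jo V Z R A E := ⟨hA, hE, fun e => hEg fun x hx =>
    mem_centralizer_singleton_iff.2 (mem_centralizer_iff.1 (e hx) g hg).symm⟩
  have hRg : R ≤ centralizer {g} := fun x hx =>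
    mem_centralizer_singleton_iff.2 (mem_centralizer_iff.1 (h.UU_le_cent_adj hA.symm hg) x hx)
  have hAg : A ≤ centralizer {g} := fun x hx =>
    mem_centralizer_singleton_iff.2 (mem_centralizer_iff.1 (h.UU_le_cent_pt hA.left hg) x hx)
  have hBg : B ≤ centralizer {g} := fun x hx => mem_centralizer_singleton_iff.2 (hgB x hx).symm
  obtain ⟨L, hL, hAL, hRL⟩ := hA.line
  -- the chain
  have h0 : R ≤ blk V Z R A := R_le_blk
  obtain ⟨g1, -, c1⟩ := h.good_sup hs hv ht h.good_R h0 hA (h.eqv_refl hA) (fun e => by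
    obtain ⟨a, ha, ha1⟩ := h.pt_ne_bot hA.left
    exact h.not_mem_R hA ha ha1 (e ha))
  have h1 : R ⊔ A ≤ blk V Z R A := sup_le h0 (eqv_le_blk (h.eqv_refl hA))
  obtain ⟨g2, -, c2⟩ := h.good_sup hs hv ht g1 h1 hA ⟨hA, hj.r, Or.inr hj⟩ (fun e =>
    (h.jo_iff hA hj.r).1 hj (e.trans ((sup_le hRL hAL).trans (h.line_le_cw hL hRL hAL))))
  have h2 : R ⊔ A ⊔ B ≤ blk V Z R A := sup_le h1 (eqv_le_blk ⟨hA, hj.r, Or.inr hj⟩)
  obtain ⟨g3, -, c3⟩ := h.good_sup hs hv ht g2 h2 hA ⟨hA, hE, Or.inr hjE⟩ (fun e =>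
    hEg (e.trans (sup_le (sup_le hRg hAg) hBg)))
  have h3 : R ⊔ A ⊔ B ⊔ E ≤ blk V Z R A := sup_le h2 (eqv_le_blk ⟨hA, hE, Or.inr hjE⟩)
  refine h.card_pow_of hs hv ht hA (Nat.card (blk V Z R A)) _ (by omega) g3 h3 4 ?_
  rw [c3, c2, c1, h.card_pt hA.right]
  ring

/-- **the order of the blocks** -/
theorem card_blk (hs : JSym V Z) (hv : JVal V Z) (ht : JTrans V Z) (hB : Bg V Z) :
    ∃ m, 3 ≤ m ∧ ∀ R A, Adj V Z A R → Nat.card (blk V Z R A) = Nat.card Z ^ (m + 1) := by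
  obtain ⟨R₀, A₀, B₀, hj⟩ := h.exists_jo_blk
  obtain ⟨k, hk, hk2⟩ := h.card_blk_jo hs hv ht hB hj
  refine ⟨k - 1, by omega, fun R A hA => ?_⟩
  obtain ⟨g, rfl, rfl⟩ := h.exists_adj hj.l hA
  rw [blk_cj, card_cj, hk2]
  congr 1
  omega

/-- **`SLB` from the field `two`** -/
theorem slb_of (hs : JSym V Z) (hv : JVal V Z) (ht : JTrans V Z) (hB : Bg V Z)
    (two : ∀ R A B A' B', Sb V Z (Bk V Z) R A B → Sb V Z (Bk V Z) R A' B' →
      ∃ g : G, cj g R = R ∧ cj g A = A' ∧ cj g B = B') : ∃ Blk m, SLB V Z Blk m := by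
  obtain ⟨m, hm, hcard⟩ := h.card_blk hs hv ht hB
  refine ⟨Bk V Z, m, ?_⟩
  exact
  { three := hm
    can := by
      rintro g X - _ ⟨A, hA, rfl⟩
      exact ⟨PT.cj g A, hA.cj g, (blk_cj g).symm⟩
    le := by
      rintro X - _ ⟨A, hA, rfl⟩
      exact ⟨R_le_blk, h.blk_le_ws hA⟩
    line := by
      intro X hX L hL hXL
      obtain ⟨Y, hY, hYL, hYX⟩ := h.exists_second hX hL hXL
      have hYX' : Adj V Z Y X := ⟨hY, hX, hYX, L, hL, hYL, hXL⟩
      exact ⟨_, ⟨Y, hYX', rfl⟩, h.line_le' hX hY hYX hL hXL hYL R_le_blk (eqv_le_blk (h.eqv_refl hYX'))⟩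
    inf := by
      rintro X - _ ⟨A, hA, rfl⟩ _ ⟨A', hA', rfl⟩ hne b hb hb'
      by_contra hbX
      rcases (h.mem_blk hs hv ht hA).1 hb with h1 | ⟨E, hE, hbE⟩
      · exact hbX h1
      have h2 := h.eqv_of_le hs hv ht hA' hE.2.1 hbE (fun e => hbX (e ▸ one_mem _)) hb'
      exact hne ((h.blk_eq hs ht h2).trans (h.blk_eq hs ht hE).symm)
    all := by
      rintro X hX _ ⟨A, hA, rfl⟩ b hb hbX
      rcases (h.mem_blk hs hv ht hA).1 hb with h1 | ⟨E, hE, hbE⟩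
      · exact absurd h1 hbX
      · obtain ⟨L, hL, hEL, hXL⟩ := hE.2.1.line
        exact ⟨L, hL, hXL, hEL hbE⟩
    card := by
      rintro X - _ ⟨A, hA, rfl⟩
      exact hcard X A hA
    other := by
      rintro R A hA _ ⟨C, hC, rfl⟩ hn b hb u hu
      rcases (h.mem_blk hs hv ht hC).1 hb with h1 | ⟨E, hE, hbE⟩
      · exact (mem_centralizer_iff.1 (h.UU_le_cent_adj hA.symm hu) b h1).symm
      by_contra hub
      have hj : Jo V Z R A E := ⟨hA, hE.2.1, fun e => hub (mem_centralizer_iff.1 (e hbE) u hu)⟩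
      exact hn (eqv_le_blk (h.eqv_trans ht hE (h.eqv_symm hs ⟨hA, hE.2.1, Or.inr hj⟩)))
    cent := by
      rintro R A hA _ ⟨C, hC, rfl⟩ hAB L hL hRL hAL b hb hub
      rcases (h.mem_blk hs hv ht hC).1 hb with h1 | ⟨E, hE, hbE⟩
      · exact hRL h1
      obtain ⟨a, ha, ha1⟩ := h.pt_ne_bot hA.left
      have h2 := h.eqv_of_le hs hv ht hC hA ha ha1 (hAB ha)
      rcases (h.eqv_trans ht (h.eqv_symm hs h2) hE).2.2 with ⟨M, hM, hRM, hAM, hEM⟩ | hj
      · have e := h.line_unique hA.left hA.right hA.ne hM hL hAM hRM hAL hRL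
        exact e ▸ hEM hbE
      · have h3 := h.inf_cw hj hbE (mem_cw.2 ⟨h.adj_le_ws hE.2.1.symm hbE, fun u hu => hub u hu⟩)
        rw [h3]
        exact one_mem _
    two := two }

end TF

end Cfsg.Agent.Omega.NO3S.MidB

end

section


/-!
# TYPE N is impossible, K-free: (2) (DIST) (bb OMEGA #18317, TCARD 5 #19054, part B)

`h : TF S P V Z`.

* `TF.exists_jo_dist` : something is joined to `A` at `R`;
* `TF.exists_moved` : `1 ≠ α ∈ A` is moved by some `U_X`, `X ~ R`;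
* `exists_conj_of_max` : a 2-subgroup of maximal order of `E` contains a conjugate of every 2-element of `E`;
* `TF.dist` : `JSym → JVal → JDist`.
-/

set_option autoImplicit false
set_option linter.unusedSectionVars false

namespace Cfsg.Agent.Omega.NO3S.MidB

open Subgroup Cfsg.Agent.Omega.NO3S.PT Cfsg.Agent.Omega.NoFF.Basic Cfsg.Agent.ZN
open Cfsg.Agent.Omega.NO3S.MidQ (Adj Com Cr UU Jo le_UU isCj_iff UU_cj)
open scoped Pointwise

variable {G : Type*} [Group G] {V Z X Y R L A C : Subgroup G}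

/-- a 2-subgroup `T` of maximal order of `E` contains a conjugate (in `E`) of every 2-element of `E` -/
theorem exists_conj_of_max [Finite G] {E T : Subgroup G} (hT : IsPGroup 2 T) (hTE : T ≤ E)
    (hmax : ∀ D : Subgroup G, IsPGroup 2 D → D ≤ E → Nat.card D ≤ Nat.card T) {t : G} (ht : TwoEl t) (htE : t ∈ E) :
    ∃ e ∈ E, e⁻¹ * t * e ∈ T := by
  have : Fact (Nat.Prime 2) := ⟨Nat.prime_two⟩
  obtain ⟨Q, hQ⟩ := (hT.comap_subtype (K := E)).exists_le_sylow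
  have hTQ : T = (Q : Subgroup E).map E.subtype := by
    refine Subgroup.eq_of_le_of_card_ge ?_ ?_
    · intro x hx
      exact ⟨⟨x, hTE hx⟩, hQ (show (⟨x, hTE hx⟩ : E) ∈ T.comap E.subtype from hx), rfl⟩
    · exact hmax _ (Q.isPGroup'.map _) (map_subtype_le _)
  obtain ⟨Q', hQ'⟩ := (ht.isPGroup.comap_subtype (K := E)).exists_le_sylow
  obtain ⟨e, he⟩ := MulAction.exists_smul_eq E Q Q'
  refine ⟨e, e.2, ?_⟩
  have h1 : (⟨t, htE⟩ : E) ∈ Q' := hQ' (show (⟨t, htE⟩ : E) ∈ (zpowers t).comap E.subtype from mem_zpowers t)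
  rw [← he] at h1
  have h2 : (⟨t, htE⟩ : E) ∈ ((e • Q : Sylow 2 E) : Subgroup E) := h1
  rw [Sylow.coe_subgroup_smul] at h2
  rw [Subgroup.mem_pointwise_smul_iff_inv_smul_mem] at h2
  have h3 : e⁻¹ * (⟨t, htE⟩ : E) * e ∈ (Q : Subgroup E) := by
    have h4 : (MulAut.conj e)⁻¹ • (⟨t, htE⟩ : E) = e⁻¹ * (⟨t, htE⟩ : E) * e := by
      rw [← map_inv, MulAut.smul_def, MulAut.conj_apply, inv_inv]
    rwa [← h4]
  rw [hTQ]
  exact ⟨_, h3, rfl⟩

namespace TF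

variable [Finite G] {S : Sylow 2 G} {P : Subgroup G} (h : TF S P V Z)
include h

/-- something is joined to `A` at `R` -/
theorem exists_jo_dist (hA : Adj V Z A R) : ∃ X, Jo V Z R A X := by
  by_contra hcon
  push Not at hcon
  obtain ⟨B, hB⟩ := h.exists_crit hA.symm
  have h0 : R ≤ centralizer ((UU V Z A : Subgroup G) : Set G) :=
    le_centralizer_iff.1 (h.UU_le_cent_adj hA.symm)
  have h1 : ws V R ≤ centralizer ((UU V Z A : Subgroup G) : Set G) := by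
    refine h.ws_le_of hA.right h0 fun X hX => ?_
    by_contra h2
    exact hcon X ⟨hA, hX, h2⟩
  exact hB.ne (h1.trans (centralizer_le (le_UU hB.r.symm)))

/-- `1 ≠ α ∈ A` is moved by some `U_X` -/
theorem exists_moved (hs : JSym V Z) (hA : Adj V Z A R) {α : G} (hα : α ∈ A) (hα1 : α ≠ 1) :
    ∃ X, Adj V Z X R ∧ ∃ u ∈ UU V Z X, u * α ≠ α * u := by
  by_contra hcon
  push Not at hcon
  obtain ⟨X, hX⟩ := h.exists_jo_dist hA
  have h1 := hs _ _ _ hX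
  refine h1.mv fun a ha => mem_centralizer_iff.2 fun u hu => ?_
  exact h.t3 hA.symm (h.twoEl_UU hu)
    (fun y hy => (mem_centralizer_iff.1 (h.UU_le_cent_adj h1.l.symm hu) y hy).symm) hα hα1 (hcon X h1.l u hu) a ha

/-- **(2) (DIST)** -/
theorem dist (hs : JSym V Z) (hv : JVal V Z) : JDist V Z := by
  intro R A C hA hC α hα γ hγ hu
  have hR := hA.right
  have hαW : α ∈ ws V R := h.adj_le_ws hA.symm hα
  have hγW : γ ∈ ws V R := h.adj_le_ws hC.symm hγ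
  by_cases hα1 : α = 1
  · subst hα1
    by_cases hγ1 : γ = 1
    · rw [hγ1, one_mul]; exact one_mem _
    · exfalso
      obtain ⟨X, hX, u, huX, hne⟩ := h.exists_moved hs hC hγ hγ1
      have := hu X hX u huX
      rw [one_mul] at this
      exact hne this
  by_cases hγ1 : γ = 1
  · subst hγ1
    exfalso
    obtain ⟨X, hX, u, huX, hne⟩ := h.exists_moved hs hA hα hα1
    have := hu X hX u huX
    rw [mul_one] at this
    exact hne this
  -- (i)
  have hi : ∀ X, Adj V Z X R → ∀ g ∈ UU V Z X, g * γ = γ * g → g * α = α * g := by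
    intro X hX g hg h1
    have h2 := hu X hX g hg
    have h3 : g * α * γ = α * g * γ := by
      rw [mul_assoc, h2, mul_assoc, mul_assoc, ← h1]
    exact mul_right_cancel h3
  -- (ii)
  obtain ⟨X, hX⟩ := h.exists_jo_dist hA
  have hXA := hs _ _ _ hX
  have hXC : Jo V Z R X C := by
    refine ⟨hX.r, hC, fun hle => ?_⟩
    refine hXA.mv fun a ha => mem_centralizer_iff.2 fun u huX => ?_
    have h1 : u * γ = γ * u := mem_centralizer_iff.1 (hle hγ) u huX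
    exact h.t3 hA.symm (h.twoEl_UU huX)
      (fun y hy => (mem_centralizer_iff.1 (h.UU_le_cent_adj hX.r.symm huX) y hy).symm) hα hα1
      (hi X hX.r u huX h1) a ha
  have hCX := hs _ _ _ hXC
  obtain ⟨ξ, hξ, hξ1⟩ := h.pt_ne_bot hX.r.left
  have hξW : ξ ∈ ws V R := h.adj_le_ws hX.r.symm hξ
  obtain ⟨τ, hτ, hτξ⟩ := hv R A X hX ξ hξ hξ1 α hα
  obtain ⟨τ', hτ', hτξ'⟩ := hv R C X hCX ξ hξ hξ1 γ hγ
  have hτ'γ : τ' * γ = γ * τ' := (mem_centralizer_iff.1 (h.UU_le_cent_pt hC.left hτ') γ hγ).symm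
  have hτ'α := hi C hC τ' hτ' hτ'γ
  -- `t = τ' τ`
  set u0 := α * γ with hu0
  have hαγ : α * γ = γ * α := h.ws_comm hR hαW hγW
  have hu0W : u0 ∈ ws V R := mul_mem hαW hγW
  have hu0sq : u0 * u0 = 1 := h.ws_sq hR hu0W
  have ht1 : (τ' * τ) * ξ * (τ' * τ)⁻¹ = u0 * ξ := by
    have h1 : τ * ξ * τ⁻¹ = α * ξ := by rw [← hτξ]; group
    have h2 : τ' * ξ * τ'⁻¹ = γ * ξ := by rw [← hτξ']; group
    calc (τ' * τ) * ξ * (τ' * τ)⁻¹ = τ' * (τ * ξ * τ⁻¹) * τ'⁻¹ := by group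
      _ = τ' * α * τ'⁻¹ * (τ' * ξ * τ'⁻¹) := by rw [h1]; group
      _ = α * (γ * ξ) := by rw [hτ'α, mul_inv_cancel_right, h2]
      _ = u0 * ξ := by rw [hu0, mul_assoc]
  have htR : τ' * τ ∈ centralizer (R : Set G) :=
    mul_mem (h.UU_le_cent_adj hC.symm hτ') (h.UU_le_cent_adj hA.symm hτ)
  -- `R0`
  let R0 : Subgroup G :=
    { carrier := {w | w ∈ ws V R ∧ ∀ Y, Adj V Z Y R → ∀ u ∈ UU V Z Y, u * w = w * u}
      one_mem' := ⟨one_mem _, fun _ _ u _ => by rw [mul_one, one_mul]⟩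
      mul_mem' := by
        rintro a b ⟨ha, ha'⟩ ⟨hb, hb'⟩
        exact ⟨mul_mem ha hb, fun Y hY u hu => by rw [← mul_assoc, ha' Y hY u hu, mul_assoc, hb' Y hY u hu, mul_assoc]⟩
      inv_mem' := by
        rintro a ⟨ha, ha'⟩
        exact ⟨inv_mem ha, fun Y hY u hu => by
          rw [mul_inv_eq_iff_eq_mul, mul_assoc, ha' Y hY u hu, inv_mul_cancel_left]⟩ }
  have hR0W : R0 ≤ ws V R := fun w hw => hw.1
  have hR0N : ∀ g ∈ centralizer (R : Set G), ∀ w ∈ R0, g * w * g⁻¹ ∈ R0 := by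
    intro g hg w hw
    have hgR : PT.cj g R = R := cj_eq_iff.2 (centralizer_le_normalizer _ hg)
    refine ⟨(mem_normalizer_iff.1 (normalizer_le_ws V R (centralizer_le_normalizer _ hg)) w).1 hw.1,
      fun Y hY u hu => ?_⟩
    have h1 : Adj V Z (PT.cj g⁻¹ Y) R := by
      have h2 := hY.cj g⁻¹
      rwa [show PT.cj g⁻¹ R = R by rw [← hgR, cj_cj, inv_mul_cancel, cj_one, hgR]] at h2
    have h3 : g⁻¹ * u * g ∈ UU V Z (PT.cj g⁻¹ Y) := by
      rw [UU_cj]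
      have := conj_mem_cj (g := g⁻¹) hu
      rwa [inv_inv] at this
    have h4 := hw.2 _ h1 _ h3
    calc u * (g * w * g⁻¹) = g * ((g⁻¹ * u * g) * w) * g⁻¹ := by group
      _ = g * w * g⁻¹ * u := by rw [h4]; group
  have hu0R0 : u0 ∈ R0 := ⟨hu0W, hu⟩
  -- `E`
  let E : Subgroup G :=
    { carrier := {g | g ∈ centralizer (R : Set G) ∧ g * ξ * g⁻¹ * ξ⁻¹ ∈ R0}
      one_mem' := ⟨one_mem _, by simp only [one_mul, inv_one, mul_one, mul_inv_cancel]; exact one_mem _⟩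
      mul_mem' := by
        rintro a b ⟨ha, ha'⟩ ⟨hb, hb'⟩
        refine ⟨mul_mem ha hb, ?_⟩
        have e : a * b * ξ * (a * b)⁻¹ * ξ⁻¹ = a * (b * ξ * b⁻¹ * ξ⁻¹) * a⁻¹ * (a * ξ * a⁻¹ * ξ⁻¹) := by group
        rw [e]
        exact mul_mem (hR0N a ha _ hb') ha'
      inv_mem' := by
        rintro a ⟨ha, ha'⟩
        refine ⟨inv_mem ha, ?_⟩
        have e : a⁻¹ * ξ * a⁻¹⁻¹ * ξ⁻¹ = a⁻¹ * (a * ξ * a⁻¹ * ξ⁻¹)⁻¹ * a⁻¹⁻¹ := by group
        rw [e]
        exact hR0N a⁻¹ (inv_mem ha) _ (inv_mem ha') }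
  -- an odd power
  obtain ⟨m, hm, ht2⟩ := exists_odd_pow (τ' * τ)
  set t := (τ' * τ) ^ m with ht
  have hcomm0 : ∀ w ∈ R0, (τ' * τ) * w = w * (τ' * τ) := fun w hw => by
    rw [mul_assoc, hw.2 A hA τ hτ, ← mul_assoc, hw.2 C hC τ' hτ', mul_assoc]
  have hcomm : ∀ w ∈ R0, t * w = w * t := fun w hw =>
    (Commute.pow_left (hcomm0 w hw : Commute (τ' * τ) w) m).eq
  have hpow : ∀ n : ℕ, (τ' * τ) ^ n * ξ * ((τ' * τ) ^ n)⁻¹ = u0 ^ n * ξ := by
    intro n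
    induction n with
    | zero => simp
    | succ n ih =>
      have h1 : (τ' * τ) * u0 ^ n = u0 ^ n * (τ' * τ) :=
        (Commute.pow_right (hcomm0 u0 hu0R0 : Commute (τ' * τ) u0) n).eq
      calc (τ' * τ) ^ (n + 1) * ξ * ((τ' * τ) ^ (n + 1))⁻¹
          = (τ' * τ) * ((τ' * τ) ^ n * ξ * ((τ' * τ) ^ n)⁻¹) * (τ' * τ)⁻¹ := by
            rw [pow_succ' (τ' * τ) n, mul_inv_rev]
            simp only [mul_assoc]
        _ = (τ' * τ) * u0 ^ n * ξ * (τ' * τ)⁻¹ := by rw [ih]; simp only [mul_assoc]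
        _ = u0 ^ n * ((τ' * τ) * ξ * (τ' * τ)⁻¹) := by rw [h1]; simp only [mul_assoc]
        _ = u0 ^ (n + 1) * ξ := by rw [ht1, pow_succ]; simp only [mul_assoc]
  have htξ : t * ξ * t⁻¹ = u0 * ξ := by
    rw [ht, hpow m]
    obtain ⟨k, hk⟩ := hm
    rw [hk, pow_succ, pow_mul, pow_two, hu0sq, one_pow, one_mul]
  have htE : t ∈ E := by
    refine ⟨pow_mem htR m, ?_⟩
    rw [htξ, mul_inv_cancel_right]
    exact hu0R0
  -- the flag
  obtain ⟨L, hL, hXL, hRL⟩ := hX.r.line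
  obtain ⟨T, Q, h'⟩ := h.flag hR hL hRL
  have hT0E : (T : Subgroup G) ⊓ centralizer (R : Set G) ≤ E := by
    intro s hs
    refine ⟨hs.2, ?_⟩
    have h1 := h'.pl.act s hs ξ (hXL hξ)
    exact ⟨h.pt_le_ws hR h1, fun Y hY u hu => (mem_centralizer_iff.1 (h.UU_le_cent_adj hY.symm hu) _ h1).symm⟩
  obtain ⟨e, he, heT⟩ := exists_conj_of_max (T.isPGroup'.to_le inf_le_left) hT0E (fun D hD hDE => by
    obtain ⟨m, -, hm⟩ := h'.pl.exists_le_conjB (H := normalizer (R : Set G)) h'.pl.SN le_rfl hD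
      (fun d hd => centralizer_le_normalizer _ (hDE hd).1) (fun d hd => (hDE hd).1)
    exact (Subgroup.card_le_of_le hm).trans (card_cj m _).le) ht2 htE
  -- `w = [e, ξ]`
  set w := e * ξ * e⁻¹ * ξ⁻¹ with hw
  have hwR0 : w ∈ R0 := he.2
  have h1 := h'.pl.act _ heT ξ (hXL hξ)
  have h2 : e * ((e⁻¹ * t * e) * ξ * (e⁻¹ * t * e)⁻¹ * ξ⁻¹) * e⁻¹ ∈ R := by
    rw [← mem_centralizer_iff.1 he.1 _ h1, mul_inv_cancel_right]
    exact h1
  have h3 : e * ((e⁻¹ * t * e) * ξ * (e⁻¹ * t * e)⁻¹ * ξ⁻¹) * e⁻¹ = u0 := by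
    have h4 : e * ξ * e⁻¹ = w * ξ := by rw [hw]; group
    have h5 : w * u0 = u0 * w := h.ws_comm hR (hR0W hwR0) hu0W
    calc e * ((e⁻¹ * t * e) * ξ * (e⁻¹ * t * e)⁻¹ * ξ⁻¹) * e⁻¹
        = t * (e * ξ * e⁻¹) * t⁻¹ * (e * ξ * e⁻¹)⁻¹ := by group
      _ = t * w * ξ * t⁻¹ * (w * ξ)⁻¹ := by rw [h4]; group
      _ = w * (t * ξ * t⁻¹) * ξ⁻¹ * w⁻¹ := by rw [hcomm w hwR0]; group
      _ = w * u0 * w⁻¹ := by rw [htξ]; group
      _ = u0 := by rw [h5, mul_inv_cancel_right]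
  rwa [h3] at h2

end TF

end Cfsg.Agent.Omega.NO3S.MidB

end
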