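import Cfsg.Agent.Mrg.Omega.NO3S.MidQ.Base
import Cfsg.Agent.Mrg.Omega.NO3S.PB.FTwo
import Cfsg.Agent.Mrg.Omega.NO3S.PB.Geom
import Cfsg.Agent.Mrg.Omega.NO3S.FarQ.NoOvOf

section


/-!
# NO-3S, natural lines, critical distance 2, the `(R, B)`-frame (field automorphisms allowed): the basic facts

`MidQ/Base.lean` with `PL S P V Z` replaced by `PB S (S ∩ C(Z)) P V Z`, `OmQ S V` by `OmB (S ∩ C(Z)) V`.  The definitions
`Adj`, `Com`, `Cr`, `UU` are those of `MidQ/Base.lean`.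

* `Mid.t3` : (T3') a 2-element which centralises the point `Y ~ X` and commutes with `1 ≠ x ∈ X`, centralises `X`;
* `Mid.t3n` : a 2-element which centralises the point `Y ~ X` and normalises `X`, centralises `X`.
-/

set_option autoImplicit false
set_option linter.unusedSectionVars false

namespace Cfsg.Agent.Omega.NO3S.MidB

open Subgroup Cfsg.Agent.Omega.NO3S.PT Cfsg.Agent.Omega.NoFF.Basic Cfsg.Agent.ZN
open Cfsg.Agent.Omega.NO3S.MidQ (Adj Com Cr UU ws_of kx_of isCj_iff adj_iff com_iff cr_iff UU_of isCj_symm isCj_trans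
  com_cj UU_cj le_UU normalizer_le_UU isPGroup_sSup)
open Cfsg.Agent.MinSimple.VModule (le_o2)
open scoped Pointwise

variable {G : Type*} [Group G] {V Z X Y R L : Subgroup G}

/-- a 2-element normalising a nontrivial 2-group commutes with a nontrivial element of it -/
theorem exists_fix [Finite G] {D : Subgroup G} (hD : IsPGroup 2 D) (hne : ∃ x ∈ D, x ≠ 1) {b : G} (hb : TwoEl b)
    (hbD : cj b D = D) : ∃ d ∈ D, d ≠ 1 ∧ b * d = d * b := by
  have : Fact (Nat.Prime 2) := ⟨Nat.prime_two⟩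
  have hN : zpowers b ≤ normalizer (D : Set G) := zpowers_le.2 (cj_eq_iff.1 hbD)
  let _ : MulAction (zpowers b) D :=
    { smul := fun s d => ⟨(s : G) * d * (s : G)⁻¹, (mem_normalizer_iff.1 (hN s.2) d).1 d.2⟩
      one_smul := fun d => Subtype.ext (by
        show (1 : G) * d * (1 : G)⁻¹ = d
        group)
      mul_smul := fun s t d => Subtype.ext (by
        show (s : G) * t * d * ((s : G) * t)⁻¹ = (s : G) * ((t : G) * d * (t : G)⁻¹) * (s : G)⁻¹
        group) }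
  have h2 : 2 ∣ Nat.card D := by
    obtain ⟨n, hn⟩ := IsPGroup.iff_card.1 hD
    rw [hn]
    have : n ≠ 0 := by
      rintro rfl
      rw [pow_zero] at hn
      obtain ⟨x, hx, hx1⟩ := hne
      have := Subgroup.card_eq_one.1 hn
      rw [this] at hx
      exact hx1 (mem_bot.1 hx)
    exact dvd_pow_self 2 this
  obtain ⟨d, hd, hd1⟩ := hb.isPGroup.exists_fixed_point_of_prime_dvd_card_of_fixed_point D h2 (a := 1) (by
    intro s
    apply Subtype.ext
    show (s : G) * (1 : G) * (s : G)⁻¹ = 1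
    group)
  refine ⟨d, d.2, fun e => hd1 (Subtype.ext e.symm), ?_⟩
  have h3 : (⟨b, mem_zpowers b⟩ : zpowers b) • d = d := hd _
  have h4 : b * (d : G) * b⁻¹ = d := congrArg Subtype.val h3
  rwa [mul_inv_eq_iff_eq_mul] at h4

/-! ### The hypotheses -/

/-- **The hypotheses**: natural lines, the `(R, B)`-frame, (F1), `Ω₁(Z(C_B(V))) ≤ V`, critical distance at least 2. -/
structure Mid [Finite G] (S : Sylow 2 G) (P V Z : Subgroup G) : Prop where
  pl : PB S ((S : Subgroup G) ⊓ centralizer (Z : Set G)) P V Z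
  hf : ¬ kx V Z ≤ centralizer (V : Set G)
  hO : OmB ((S : Subgroup G) ⊓ centralizer (Z : Set G)) V
  com : ∀ X Y, Adj V Z X Y → Com V X Y

namespace Mid

variable [Finite G] {S : Sylow 2 G} {P : Subgroup G}

theorem BZ_conj (g : G) : cj g ((S : Subgroup G) ⊓ centralizer (Z : Set G)) =
    ((g • S : Sylow 2 G) : Subgroup G) ⊓ centralizer ((cj g Z : Subgroup G) : Set G) := by
  rw [cj_inf, cj_centralizer]
  rfl

theorem conj (h : Mid S P V Z) (g : G) : Mid (g • S) (cj g P) (cj g V) (cj g Z) where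
  pl := by
    have h1 := h.pl.conj g
    rwa [BZ_conj] at h1
  hf := by
    rw [kx_cj_left, kx_cj, ← cj_centralizer, cj_le_cj]
    exact h.hf
  hO := by
    have h1 := PB.Geom.omB_conj h.hO g
    rwa [BZ_conj] at h1
  com X Y hXY := by
    have h1 : Adj V Z X Y := (adj_iff (V := V) (Z := Z) ⟨g, rfl⟩ ⟨g, rfl⟩).1 hXY
    exact (com_iff (V := V) ⟨g, rfl⟩).2 (h.com X Y h1)

variable (h : Mid S P V Z)
include h

/-- **every flag is as good as `(Z, V)`** -/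
theorem exists_conj {X L : Subgroup G} (hX : IsCj Z X) (hL : IsCj V L) (hXL : X ≤ L) :
    ∃ g : G, X = cj g Z ∧ L = cj g V := by
  obtain ⟨g, rfl⟩ := hL
  have h1 : cj g⁻¹ X ≤ V := by rwa [cj_le_iff, inv_inv]
  obtain ⟨p, hp, hpX⟩ := h.pl.exists_pt (hX.cj g⁻¹) h1
  refine ⟨g * p, ?_, ?_⟩
  · rw [← cj_cj, ← hpX, cj_cj, mul_inv_cancel, cj_one]
  · rw [← cj_cj, cj_eq_iff.2 (h.pl.PN hp)]

/-- **every flag is as good as `(Z, V)`** -/
theorem flag {X L : Subgroup G} (hX : IsCj Z X) (hL : IsCj V L) (hXL : X ≤ L) :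
    ∃ (T : Sylow 2 G) (Q : Subgroup G), Mid T Q L X := by
  obtain ⟨g, rfl, rfl⟩ := h.exists_conj hX hL hXL
  exact ⟨g • S, cj g P, h.conj g⟩

/-- two flags are conjugate -/
theorem exists_conj₂ {X L X' L' : Subgroup G} (hX : IsCj Z X) (hL : IsCj V L) (hXL : X ≤ L) (hX' : IsCj Z X')
    (hL' : IsCj V L') (hXL' : X' ≤ L') : ∃ g : G, X' = cj g X ∧ L' = cj g L := by
  obtain ⟨g, rfl, rfl⟩ := h.exists_conj hX hL hXL
  obtain ⟨g', rfl, rfl⟩ := h.exists_conj hX' hL' hXL'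
  exact ⟨g' * g⁻¹, by rw [cj_cj, inv_mul_cancel_right], by rw [cj_cj, inv_mul_cancel_right]⟩

/-- every point is on a line -/
theorem exists_line (hX : IsCj Z X) : ∃ L, IsCj V L ∧ X ≤ L := by
  obtain ⟨g, rfl⟩ := hX
  exact ⟨cj g V, ⟨g, rfl⟩, cj_le_cj.2 h.pl.ZV⟩

theorem card_line (hL : IsCj V L) : Nat.card L = Nat.card V := by
  obtain ⟨g, rfl⟩ := hL
  exact card_cj g V

/-- two points are on at most one line -/
theorem line_unique {M : Subgroup G} (hX : IsCj Z X) (hY : IsCj Z Y) (hne : X ≠ Y) (hL : IsCj V L) (hM : IsCj V M)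
    (h1 : X ≤ L) (h2 : Y ≤ L) (h3 : X ≤ M) (h4 : Y ≤ M) : L = M := by
  obtain ⟨T, Q, h'⟩ := h.flag hX hL h1
  have hle : L ≤ M := by
    intro v hv
    obtain ⟨x, hx, y, hy, rfl⟩ := h'.pl.exists_mul h'.pl.isCj_self h1 ((isCj_iff hX).2 hY) h2 hne hv
    exact mul_mem (h3 hx) (h4 hy)
  exact Subgroup.eq_of_le_of_card_ge hle (by rw [h.card_line hL, h.card_line hM])

/-- a second point on a line -/
theorem exists_second (hX : IsCj Z X) (hL : IsCj V L) (hXL : X ≤ L) : ∃ Y, IsCj Z Y ∧ Y ≤ L ∧ Y ≠ X := by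
  obtain ⟨T, Q, h'⟩ := h.flag hX hL hXL
  obtain ⟨Y, h1, h2, h3⟩ := h'.pl.exists_second h'.pl.isCj_self hXL
  exact ⟨Y, (isCj_iff hX).1 h1, h2, h3⟩

/-- a third point on a line -/
theorem exists_third (hX : IsCj Z X) (hY : IsCj Z Y) (hL : IsCj V L) (hXL : X ≤ L) (hYL : Y ≤ L) (hne : X ≠ Y) :
    ∃ T, IsCj Z T ∧ T ≤ L ∧ T ≠ X ∧ T ≠ Y := by
  obtain ⟨_, Q, h'⟩ := h.flag hX hL hXL
  obtain ⟨T, h1, h2, h3⟩ := h'.pl.exists_third h'.pl.isCj_self hXL ((isCj_iff hX).2 hY) hYL hne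
  exact ⟨T, (isCj_iff hX).1 h1, h2, h3⟩

/-- every nontrivial element of a line is in a point -/
theorem exists_point (hL : IsCj V L) {v : G} (hv : v ∈ L) (hv1 : v ≠ 1) : ∃ X, IsCj Z X ∧ X ≤ L ∧ v ∈ X := by
  obtain ⟨g, rfl⟩ := hL
  obtain ⟨X, h1, h2, h3⟩ := (h.conj g).pl.exists_point hv hv1
  exact ⟨X, isCj_cj.1 h1, h2, h3⟩

theorem line_le (hL : IsCj V L) (hXL : X ≤ L) : L ≤ ws V X := le_ws hL hXL

theorem pt_ne_bot (hX : IsCj Z X) : ∃ x ∈ X, x ≠ 1 := h.pl.pt_ne_bot hX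

theorem pts_eq (hX : IsCj Z X) (hY : IsCj Z Y) {z : G} (hz : z ∈ X) (hz' : z ∈ Y) (hz1 : z ≠ 1) : X = Y :=
  h.pl.pts_eq hX hY hz hz' hz1

theorem com_self (hX : IsCj Z X) : Com V X X := h.pl.ws_comm hX

theorem ws_sq (hX : IsCj Z X) {w : G} (hw : w ∈ ws V X) : w * w = 1 := by
  obtain ⟨g, rfl⟩ := hX
  have h1 := (h.conj g).pl.ws_sq
  rw [ws_cj_left] at h1
  exact h1 w hw

theorem ws_comm (hX : IsCj Z X) {a b : G} (ha : a ∈ ws V X) (hb : b ∈ ws V X) : a * b = b * a :=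
  (mem_centralizer_iff.1 (h.com_self hX ha) b hb).symm

theorem isPGroup_ws (hX : IsCj Z X) : IsPGroup 2 (ws V X) := fun w => ⟨1, by
  rw [pow_one, pow_two]; exact Subtype.ext (h.ws_sq hX w.2)⟩

theorem pt_le_ws (hX : IsCj Z X) : X ≤ ws V X := by
  obtain ⟨L, hL, hXL⟩ := h.exists_line hX
  exact hXL.trans (le_ws hL hXL)

theorem adj_le_ws (hXY : Adj V Z X Y) : Y ≤ ws V X := by
  obtain ⟨h1, h2, h3, M, h4, h5, h6⟩ := hXY
  exact h6.trans (le_ws h4 h5)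

/-- `W_X` commutes with `B` if `X ~ R ~ B` or `B = R` .. -/
theorem ws_le_cent (hXR : Adj V Z X R) (hRY : Adj V Z R Y) : ws V X ≤ centralizer (Y : Set G) :=
  (h.com X R hXR).trans (centralizer_le (h.adj_le_ws hRY))

theorem ws_le_cent' (hXR : Adj V Z X R) : ws V X ≤ centralizer (R : Set G) :=
  (h.com X R hXR).trans (centralizer_le (h.pt_le_ws hXR.right))

theorem ws_norm (hXR : Adj V Z X R) (hRY : Adj V Z R Y) : ws V X ≤ normalizer ((ws V Y : Subgroup G) : Set G) :=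
  (h.ws_le_cent hXR hRY).trans ((centralizer_le_normalizer _).trans (normalizer_le_ws V Y))

/-- **(T3')** a 2-element which centralises the point `Y ~ X` and commutes with `1 ≠ x ∈ X`, centralises `X` -/
theorem t3 (hY : Adj V Z Y X) {b x : G} (hb : TwoEl b) (hbY : ∀ y ∈ Y, b * y = y * b) (hx : x ∈ X) (hx1 : x ≠ 1)
    (hbx : b * x = x * b) : ∀ y ∈ X, b * y = y * b := by
  obtain ⟨h1, h2, h3, L, h4, h5, h6⟩ := hY
  have h7 := h.pl.two_col' h4 h1 h5 h2 h6 h3 hb (mem_centralizer_iff.2 fun y hy => (hbY y hy).symm) hx hx1 hbx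
  exact fun y hy => (mem_centralizer_iff.1 h7 y (h6 hy)).symm

/-- **(T3')**, normaliser form -/
theorem t3n (hY : Adj V Z Y X) {b : G} (hb : TwoEl b) (hbY : ∀ y ∈ Y, b * y = y * b) (hbX : PT.cj b X = X) :
    ∀ y ∈ X, b * y = y * b := by
  obtain ⟨x, hx, hx1, hbx⟩ := exists_fix ((h.isPGroup_ws hY.right).to_le (h.pt_le_ws hY.right))
    (h.pt_ne_bot hY.right) hb hbX
  exact h.t3 hY hb hbY hx hx1 hbx

/-! ### (0.1) -/

/-- the `W_A`, `A ~ R`, normalise each other -/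
theorem ws_norm_ws {A B : Subgroup G} (hA : Adj V Z A R) (hB : Adj V Z B R) :
    ws V A ≤ normalizer ((ws V B : Subgroup G) : Set G) := h.ws_norm hA hB.symm

theorem isPGroup_UU (R : Subgroup G) : IsPGroup 2 (UU V Z R) := by
  refine isPGroup_sSup _ ?_ ?_
  · rintro _ ⟨A, hA, rfl⟩
    exact h.isPGroup_ws hA.left
  · rintro _ ⟨A, hA, rfl⟩ _ ⟨B, hB, rfl⟩
    exact h.ws_norm_ws hA hB

/-- **(0.1)** `U_R` centralises `W_R` -/
theorem UU_le_centralizer (R : Subgroup G) : UU V Z R ≤ centralizer ((ws V R : Subgroup G) : Set G) := by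
  refine sSup_le ?_
  rintro _ ⟨A, hA, rfl⟩
  exact h.com A R hA

theorem UU_le_cent_pt (hR : IsCj Z R) : UU V Z R ≤ centralizer (R : Set G) :=
  (h.UU_le_centralizer R).trans (centralizer_le (h.pt_le_ws hR))

/-- `U_R` normalises every `W_B`, `B ~ R` -/
theorem UU_norm {B : Subgroup G} (hB : Adj V Z B R) : UU V Z R ≤ normalizer ((ws V B : Subgroup G) : Set G) := by
  refine sSup_le ?_
  rintro _ ⟨A, hA, rfl⟩
  exact h.ws_norm_ws hA hB

/-- `U_R` centralises every point `B ~ R` -/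
theorem UU_le_cent_adj {B : Subgroup G} (hB : Adj V Z B R) : UU V Z R ≤ centralizer (B : Set G) :=
  (h.UU_le_centralizer R).trans (centralizer_le (h.adj_le_ws hB.symm))

/-- **(0.1)** `U_R ≤ O₂(N_G(R))` -/
theorem UU_le_o2 (hR : IsCj Z R) : UU V Z R ≤ o2 (normalizer (R : Set G)) :=
  le_o2 ((h.UU_le_cent_pt hR).trans (centralizer_le_normalizer _)) (h.isPGroup_UU R)
    (normalizer_le_UU V Z R)

/-- `W_R ≤ U_R` -/
theorem ws_le_UU (hR : IsCj Z R) : ws V R ≤ UU V Z R := by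
  refine ws_le fun L hL hRL => ?_
  obtain ⟨Y, hY, hYL, hYR⟩ := h.exists_second hR hL hRL
  exact (le_ws hL hYL).trans (le_UU ⟨hY, hR, hYR, L, hL, hYL, hRL⟩)

/-! ### Stabilisers of lines modulo a point -/

/-- `K_X` is transitive on the points `≠ X` of a line on `X` -/
theorem K_trans {A B : Subgroup G} (hX : IsCj Z X) (hL : IsCj V L) (hXL : X ≤ L) (hA : IsCj Z A) (hAL : A ≤ L)
    (hB : IsCj Z B) (hBL : B ≤ L) (hAX : A ≠ X) (hBX : B ≠ X) : ∃ k ∈ kx V X, cj k A = B := by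
  obtain ⟨T, Q, h'⟩ := h.flag hX hL hXL
  obtain ⟨k, hk, -, hkA⟩ := h'.pl.K_trans h'.hf ((isCj_iff hX).2 hA) hAL ((isCj_iff hX).2 hB) hBL hAX hBX
  rw [kx_of hL] at hk
  exact ⟨k, hk, hkA⟩

/-- `K_X` maps `v ∈ L - X` to every element of `X v` -/
theorem K_act (hX : IsCj Z X) (hL : IsCj V L) (hXL : X ≤ L) {v x : G} (hv : v ∈ L) (hvX : v ∉ X) (hx : x ∈ X) :
    ∃ k ∈ kx V X, k * v * k⁻¹ * v⁻¹ = x := by
  obtain ⟨T, Q, h'⟩ := h.flag hX hL hXL
  obtain ⟨k, hk, -, hkv⟩ := h'.pl.K_act h'.hf hv hvX hx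
  rw [kx_of hL] at hk
  exact ⟨k, hk, hkv⟩

/-- an element of `N_G(X)` fixing `v ∈ L - X` modulo `X` fixes the line `L` -/
theorem stab (hX : IsCj Z X) (hL : IsCj V L) (hXL : X ≤ L) {g v : G} (hg : g ∈ normalizer (X : Set G)) (hv : v ∈ L)
    (hvX : v ∉ X) (hgv : g * v * g⁻¹ ∈ L) : cj g L = L := by
  have hv1 : v ≠ 1 := fun e => hvX (e ▸ one_mem _)
  obtain ⟨T, hT, hTL, hvT⟩ := h.exists_point hL hv hv1
  obtain ⟨T', hT', hTL', hvT'⟩ := h.exists_point hL hgv (by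
    intro e
    exact hv1 (conj_eq_one_iff.1 e))
  have h1 : cj g T = T' := h.pts_eq (hT.cj g) hT' (conj_mem_cj hvT) hvT' (fun e => hv1 (conj_eq_one_iff.1 e))
  have h2 : cj g X = X := cj_eq_iff.2 hg
  have hne : X ≠ T' := by
    intro e
    rw [← h1, ← h2] at e
    exact hvX ((cj_inj.1 e) ▸ hvT)
  exact h.line_unique hX hT' hne (hL.cj g) hL (by rw [← h2]; exact cj_le_cj.2 hXL) (by rw [← h1]; exact cj_le_cj.2 hTL)
    hXL hTL'

/-- **(0.1), (F4)** an element of `N_G(X)` fixing `v ∈ L - X` modulo `X` is a product of an element of `K_X` and an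
element of `N_G(X)` which fixes the line `L` and the point `Y` of `L`. -/
theorem stab_pt (hX : IsCj Z X) (hL : IsCj V L) (hXL : X ≤ L) (hY : IsCj Z Y) (hYL : Y ≤ L) (hYX : Y ≠ X) {g v : G}
    (hg : g ∈ normalizer (X : Set G)) (hv : v ∈ L) (hvX : v ∉ X) (hgv : g * v * g⁻¹ ∈ L) :
    ∃ k ∈ kx V X, cj (k * g) L = L ∧ cj (k * g) Y = Y := by
  have h1 := h.stab hX hL hXL hg hv hvX hgv
  have h2 : cj g Y ≤ L := by rw [← h1]; exact cj_le_cj.2 hYL
  obtain ⟨k, hk, hkY⟩ := h.K_trans hX hL hXL (hY.cj g) h2 hY hYL (by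
    intro e
    rw [← cj_eq_iff.2 hg] at e
    exact hYX (cj_inj.1 e)) hYX
  refine ⟨k, hk, ?_, ?_⟩
  · rw [← cj_cj, h1, cj_eq_iff]
    exact kx_normalizes hXL (le_ws hL hXL) hk
  · rw [← cj_cj, hkY]

/-! ### Critical pairs -/

theorem cr_ne (hc : Cr V Z X R Y) : X ≠ Y := by
  rintro rfl
  exact hc.ne (h.com_self hc.l.left)

theorem cr_not_adj (hc : Cr V Z X R Y) : ¬ Adj V Z X Y := fun e => hc.ne (h.com X Y e)

/-- the line `RY` does not contain `X` -/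
theorem cr_not_le (hc : Cr V Z X R Y) (hL : IsCj V L) (hYL : Y ≤ L) : ¬ X ≤ L := fun e =>
  h.cr_not_adj hc ⟨hc.l.left, hc.r.right, h.cr_ne hc, L, hL, e, hYL⟩

theorem cr_norm (hc : Cr V Z X R Y) : ws V X ≤ normalizer ((ws V Y : Subgroup G) : Set G) := h.ws_norm hc.l hc.r

/-- `I_L` for the line `L` on the points `A ≠ B` -/
theorem inf_ws {A B A' B' : Subgroup G} (hL : IsCj V L) (hA : IsCj Z A) (hB : IsCj Z B) (hA' : IsCj Z A')
    (hB' : IsCj Z B') (hAL : A ≤ L) (hBL : B ≤ L) (hAL' : A' ≤ L) (hBL' : B' ≤ L) (hne : A ≠ B) (hne' : A' ≠ B') :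
    ws V A ⊓ ws V B = ws V A' ⊓ ws V B' := by
  obtain ⟨T, Q, h'⟩ := h.flag hA hL hAL
  have h1 := h'.pl.IV_eq h'.hf h'.pl.isCj_self hAL ((isCj_iff hA).2 hB) hBL hne
  have h2 := h'.pl.IV_eq h'.hf ((isCj_iff hA).2 hA') hAL' ((isCj_iff hA).2 hB') hBL' hne'
  rw [ws_of hL, ws_of hL] at h1 h2
  rw [h1, h2]

/-- `W_A ∩ W_B ≤ W_C` for three points of a line, `A ≠ B` -/
theorem inf_le {A B C : Subgroup G} (hL : IsCj V L) (hA : IsCj Z A) (hB : IsCj Z B) (hC : IsCj Z C)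
    (hAL : A ≤ L) (hBL : B ≤ L) (hCL : C ≤ L) (hne : A ≠ B) : ws V A ⊓ ws V B ≤ ws V C := by
  by_cases h1 : A = C
  · rw [← h1]; exact inf_le_left
  · rw [h.inf_ws hL hA hB hA hC hAL hBL hAL hCL hne h1]
    exact inf_le_right

/-- **(F2)**: `u ∈ I_L - L`; any two points of `L` are interchanged by a 2-element centralising `u` which fixes `L`
and lies in `⟨K_X : X ≤ L⟩`. -/
theorem F2_swap {A B C D : Subgroup G} (hL : IsCj V L) (hA : IsCj Z A) (hB : IsCj Z B) (hAL : A ≤ L) (hBL : B ≤ L)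
    (hne : A ≠ B) (hC : IsCj Z C) (hD : IsCj Z D) (hCL : C ≤ L) (hDL : D ≤ L) {u : G} (hu : u ∈ ws V A)
    (hu' : u ∈ ws V B) (huL : u ∉ L) :
    ∃ x : G, TwoEl x ∧ x * u = u * x ∧ cj x C = D ∧ cj x D = C ∧ cj x L = L ∧
      ∀ w ∈ ws V A ⊓ ws V B, x * w * x⁻¹ * w⁻¹ ∈ L := by
  obtain ⟨T, Q, h'⟩ := h.flag hA hL hAL
  have h1 := h'.pl.IV_eq h'.hf h'.pl.isCj_self hAL ((isCj_iff hA).2 hB) hBL hne
  rw [ws_of hL, ws_of hL] at h1
  obtain ⟨x, hx, hx2, hxu, hxC, hxD⟩ := h'.pl.F2_swap h'.hf h'.hO (by rw [← h1]; exact ⟨hu, hu'⟩) huL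
    ((isCj_iff hA).2 hC) hCL ((isCj_iff hA).2 hD) hDL
  refine ⟨x, hx2, hxu, hxC, hxD, cj_eq_iff.2 (h'.pl.XV_le_N hx), fun w hw => ?_⟩
  rw [h1] at hw
  exact h'.pl.XV_act hx hw

/-- **(STAR)**, (0.2): `X ∩ W_Y = 1` for a critical pair. -/
theorem star (hc : Cr V Z X R Y) {u : G} (hu : u ∈ X) (hu' : u ∈ ws V Y) : u = 1 := by
  by_contra hu1
  obtain ⟨M, hM, hRM, hYM⟩ := hc.r.line
  have hXM : ¬ X ≤ M := h.cr_not_le hc hM hYM
  obtain ⟨T, Q, h'⟩ := h.flag hc.r.left hM hRM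
  have hR := hc.r.left
  have h1 := h'.pl.IV_eq h'.hf h'.pl.isCj_self hRM ((isCj_iff hR).2 hc.r.right) hYM hc.r.ne
  rw [ws_of hM, ws_of hM] at h1
  have h2 := h'.pl.star h'.hf h'.hO ((isCj_iff hR).2 hc.l.left) hXM ((isCj_iff hR).2 hR) hRM
    ((isCj_iff hR).2 hc.r.right) hYM hu hu1 (by
      rw [← h1]
      exact ⟨h.adj_le_ws hc.l.symm hu, hu'⟩) (by
      rw [ws_of hM, ws_of hM]
      exact h.com X R hc.l)
  rw [ws_of hM, ws_of hM] at h2
  exact hc.ne h2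

theorem star' (hc : Cr V Z X R Y) {u : G} (hu : u ∈ Y) (hu' : u ∈ ws V X) : u = 1 := h.star hc.symm hu hu'

/-- `[a, b] ∈ W_X ∩ W_Y` for `a ∈ W_X`, `b ∈ W_Y` -/
theorem comm_mem (hc : Cr V Z X R Y) {a b : G} (ha : a ∈ ws V X) (hb : b ∈ ws V Y) :
    a * b * a⁻¹ * b⁻¹ ∈ ws V X ⊓ ws V Y := by
  have h1 := (mem_normalizer_iff.1 (h.cr_norm hc ha) b).1 hb
  have h2 := (mem_normalizer_iff.1 (h.cr_norm hc.symm hb) a⁻¹).1 (inv_mem ha)
  refine ⟨?_, (ws V Y).mul_mem h1 ((ws V Y).inv_mem hb)⟩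
  have e : a * b * a⁻¹ * b⁻¹ = a * (b * a⁻¹ * b⁻¹) := by group
  rw [e]
  exact (ws V X).mul_mem ha h2

/-- **(0.3)** an element of `W_Y` which centralises `W_X` modulo `X` centralises `W_X` -/
theorem cent_of_mod (hc : Cr V Z X R Y) {w : G} (hw : w ∈ ws V Y)
    (hwX : ∀ x ∈ ws V X, w * x * w⁻¹ * x⁻¹ ∈ X) : ∀ x ∈ ws V X, w * x = x * w := by
  intro x hx
  have h1 := (h.comm_mem hc.symm hw hx).1
  have h2 := h.star hc (hwX x hx) h1
  rwa [mul_inv_eq_one, mul_inv_eq_iff_eq_mul] at h2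

/-- **(0.3)** an element of `W_X` which is centralised modulo `X` by `W_Y` is centralised by `W_Y` -/
theorem cent_of_mod' (hc : Cr V Z X R Y) {x : G} (hx : x ∈ ws V X)
    (hxX : ∀ w ∈ ws V Y, w * x * w⁻¹ * x⁻¹ ∈ X) : ∀ w ∈ ws V Y, w * x = x * w := by
  intro w hw
  have h1 := (h.comm_mem hc.symm hw hx).1
  have h2 := h.star hc (hxX w hw) h1
  rwa [mul_inv_eq_one, mul_inv_eq_iff_eq_mul] at h2

/-- `W_Y ∩ K_X = C_{W_Y}(W_X)` -/
theorem inf_kx (hc : Cr V Z X R Y) :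
    ws V Y ⊓ kx V X = ws V Y ⊓ centralizer ((ws V X : Subgroup G) : Set G) := by
  apply le_antisymm
  · rintro w ⟨hw, hwK⟩
    refine ⟨hw, mem_centralizer_iff.2 fun x hx => ?_⟩
    exact (h.cent_of_mod hc hw (mem_kx.1 hwK).2 x hx).symm
  · rintro w ⟨hw, hwC⟩
    refine ⟨hw, mem_kx.2 ⟨fun x hx => ?_, fun x hx => ?_⟩⟩
    · exact (mem_centralizer_iff.1 hwC x (h.pt_le_ws hc.l.left hx)).symm
    · have h1 := mem_centralizer_iff.1 hwC x hx
      have e : w * x * w⁻¹ * x⁻¹ = 1 := by rw [← h1]; group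
      rw [e]
      exact one_mem _

/-- the commutator group `R(X, Y) = [W_X, W_Y]` -/
theorem comm_le (hc : Cr V Z X R Y) : ⁅ws V X, ws V Y⁆ ≤ ws V X ⊓ ws V Y := by
  rw [commutator_le]
  intro a ha b hb
  exact h.comm_mem hc ha hb

theorem comm_inf_left (hc : Cr V Z X R Y) : ⁅ws V X, ws V Y⁆ ⊓ X = ⊥ := by
  rw [eq_bot_iff]
  rintro u ⟨hu, hu'⟩
  exact mem_bot.2 (h.star hc hu' (h.comm_le hc hu).2)

theorem comm_inf_right (hc : Cr V Z X R Y) : ⁅ws V X, ws V Y⁆ ⊓ Y = ⊥ := by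
  rw [eq_bot_iff]
  rintro u ⟨hu, hu'⟩
  exact mem_bot.2 (h.star' hc hu' (h.comm_le hc hu).1)

end Mid

end Cfsg.Agent.Omega.NO3S.MidB

end

section


/-!
# NO-3S, natural lines, critical distance 2, the `(R, B)`-frame: LEMMA F

Copy of `MidQ/LemF.lean` over `MidB.Mid`; `pb_lin` is (LIN) for `PB`.
-/

set_option autoImplicit false
set_option linter.unusedSectionVars false

namespace Cfsg.Agent.Omega.NO3S.MidB

open Subgroup Cfsg.Agent.Omega.NO3S.PT Cfsg.Agent.Omega.NoFF.Basic Cfsg.Agent.ZN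
open Cfsg.Agent.Omega.NO3S.MidQ (Adj Com Cr UU ws_of kx_of isCj_iff adj_iff com_iff cr_iff UU_of isCj_symm isCj_trans
  com_cj UU_cj le_UU normalizer_le_UU isPGroup_sSup FlagCan PtCan ff mem_ff ff_cj)
open scoped Pointwise

variable {G : Type*} [Group G]

section Lin

variable [Finite G] {S : Sylow 2 G} {B P V Z : Subgroup G} (h : PB S B P V Z)
include h

/-- an element centralising `Z` and one element of `V - Z` centralises `V` -/
theorem pb_fix {k v : G} (hk : ∀ z ∈ Z, k * z = z * k) (hv : v ∈ V) (hvZ : v ∉ Z)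
    (hkv : k * v = v * k) : k ∈ centralizer (V : Set G) := by
  -- `k` normalises every point `X ≠ Z` of `V`
  have hpt : ∀ X, IsCj Z X → X ≤ V → X ≠ Z → k ∈ normalizer (X : Set G) := by
    intro X hX hXV hXZ
    obtain ⟨z, hz, x, hx, hzx⟩ := h.exists_mul h.isCj_self h.ZV hX hXV hXZ.symm hv
    have hx1 : x ≠ 1 := by
      rintro rfl
      exact hvZ (by rw [hzx, mul_one]; exact hz)
    obtain ⟨g, rfl⟩ := hX
    refine (h.conj g).ti x hx hx1 k ?_
    have e : x = z⁻¹ * v := by rw [hzx]; group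
    rw [e, ← mul_assoc, hk _ (Z.inv_mem hz), mul_assoc, hkv, mul_assoc]
  have key : ∀ u ∈ V, u ∉ Z → k * u = u * k := by
    intro u hu huZ
    have hu1 : u ≠ 1 := fun e => huZ (by rw [e]; exact one_mem _)
    obtain ⟨X, hX, hXV, huX⟩ := h.exists_point hu hu1
    have hXZ : X ≠ Z := fun e => huZ (e ▸ huX)
    obtain ⟨z, hz, hz1⟩ := h.pt_ne_bot h.isCj_self
    have hzu : z * u ∉ Z := fun e => huZ ((Z.mul_mem_cancel_left hz).1 e)
    have hzu1 : z * u ≠ 1 := fun e => hzu (by rw [e]; exact one_mem _)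
    obtain ⟨Y, hY, hYV, huY⟩ := h.exists_point (V.mul_mem (h.ZV hz) hu) hzu1
    have hYZ : Y ≠ Z := fun e => hzu (e ▸ huY)
    have hYX : Y ≠ X := by
      rintro rfl
      have hzY : z ∈ Y := (Y.mul_mem_cancel_right huX).1 huY
      exact hYZ (h.pts_eq hY h.isCj_self hzY hz hz1)
    have h1 : k * u * k⁻¹ * u⁻¹ ∈ X :=
      X.mul_mem ((mem_normalizer_iff.1 (hpt X hX hXV hXZ) u).1 huX) (X.inv_mem huX)
    have h2 : k * (z * u) * k⁻¹ * (z * u)⁻¹ ∈ Y :=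
      Y.mul_mem ((mem_normalizer_iff.1 (hpt Y hY hYV hYZ) _).1 huY) (Y.inv_mem huY)
    have h3 : k * (z * u) * k⁻¹ * (z * u)⁻¹ = k * u * k⁻¹ * u⁻¹ := by
      have hkuV : k * u * k⁻¹ * u⁻¹ ∈ V := hXV h1
      calc k * (z * u) * k⁻¹ * (z * u)⁻¹ = (k * z) * u * k⁻¹ * (u⁻¹ * z⁻¹) := by group
        _ = z * (k * u * k⁻¹ * u⁻¹) * z⁻¹ := by rw [hk z hz]; group
        _ = k * u * k⁻¹ * u⁻¹ := by rw [h.Vcomm (h.ZV hz) hkuV, mul_inv_cancel_right]
    rw [h3] at h2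
    have h4 : k * u * k⁻¹ * u⁻¹ ∈ Y ⊓ X := ⟨h2, h1⟩
    rw [h.pts_inf hY hX hYX, mem_bot, mul_inv_eq_one, mul_inv_eq_iff_eq_mul] at h4
    exact h4
  rw [mem_centralizer_iff]
  intro u hu
  by_cases huZ : u ∈ Z
  · exact (hk u huZ).symm
  · exact (key u hu huZ).symm

/-- **(LIN)** -/
theorem pb_lin' {g v : G} (hg : ∀ z ∈ Z, g * z = z * g) (hv : v ∈ V) (hvZ : v ∉ Z)
    (hgv : g * v * g⁻¹ * v⁻¹ ∈ Z) : ∃ s ∈ B, s * g ∈ centralizer (V : Set G) := by
  set z := g * v * g⁻¹ * v⁻¹ with hz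
  obtain ⟨s, hs, hsv⟩ := h.full v hv hvZ z⁻¹ (Z.inv_mem hgv)
  refine ⟨s, hs, pb_fix h (v := v) ?_ hv hvZ ?_⟩
  · intro w hw
    rw [mul_assoc, hg w hw, ← mul_assoc, h.cen w hw s hs, mul_assoc]
  · have e1 : g * v * g⁻¹ = z * v := by rw [hz]; group
    have e2 : s * v * s⁻¹ = z⁻¹ * v := by rw [← hsv]; group
    have e3 : s * g * v * (s * g)⁻¹ = v := by
      calc s * g * v * (s * g)⁻¹ = s * (g * v * g⁻¹) * s⁻¹ := by group
        _ = (s * z) * v * s⁻¹ := by rw [e1]; group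
        _ = z * (s * v * s⁻¹) := by rw [h.cen z hgv s hs]; group
        _ = v := by rw [e2]; group
    rwa [mul_inv_eq_iff_eq_mul] at e3

/-- **(LIN)** -/
theorem pb_lin {g v : G} (hg : ∀ z ∈ Z, g * z = z * g) (hv : v ∈ V) (hvZ : v ∉ Z)
    (hgv : g * v * g⁻¹ * v⁻¹ ∈ Z) : ∀ u ∈ V, g * u * g⁻¹ * u⁻¹ ∈ Z := by
  obtain ⟨s, hs, hc⟩ := pb_lin' h hg hv hvZ hgv
  intro u hu
  have h1 : s * g * u * (s * g)⁻¹ = u := by
    rw [mul_inv_eq_iff_eq_mul]; exact (mem_centralizer_iff.1 hc u hu).symm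
  have h2 : g * u * g⁻¹ = s⁻¹ * u * s := by
    calc g * u * g⁻¹ = s⁻¹ * (s * g * u * (s * g)⁻¹) * s := by group
      _ = s⁻¹ * u * s := by rw [h1]
  rw [h2]
  have h3 := h.act s⁻¹ (inv_mem hs) u hu
  rwa [inv_inv] at h3

end Lin

variable [Finite G] {S : Sylow 2 G} {P V Z X Y L : Subgroup G}

namespace Mid

variable (h : Mid S P V Z)
include h

/-- **LEMMA F** -/
theorem lemF {E : Subgroup G → Subgroup G → Subgroup G} (hE : FlagCan V Z E)
    (h1 : ∀ X L, IsCj Z X → IsCj V L → X ≤ L → X ≤ E X L ∧ ∀ Y, IsCj Z Y → Y ≤ L → E X L ≤ ws V Y)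
    (h2 : ∀ X L, IsCj Z X → IsCj V L → X ≤ L → ∀ Y, IsCj Z Y → Y ≤ L → Y ≠ X → E X L ⊓ Y = ⊥)
    (hX : IsCj Z X) (hL : IsCj V L) (hXL : X ≤ L) : E X L = X := by
  refine le_antisymm ?_ (h1 X L hX hL hXL).1
  intro u hu
  by_contra huX
  have huL : ∀ v ∈ E X L, v ∉ X → v ∉ L := by
    intro v hv hvX hvL
    have hv1 : v ≠ 1 := fun e => hvX (e ▸ one_mem _)
    obtain ⟨Y, hY, hYL, hvY⟩ := h.exists_point hL hvL hv1
    have hYX : Y ≠ X := fun e => hvX (e ▸ hvY)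
    have h3 : v ∈ E X L ⊓ Y := ⟨hv, hvY⟩
    rw [h2 X L hX hL hXL Y hY hYL hYX, mem_bot] at h3
    exact hv1 h3
  obtain ⟨Y, hY, hYL, hYX⟩ := h.exists_second hX hL hXL
  -- `u` is in `E Y L`
  have key : ∀ v ∈ E X L, v ∉ X → v ∈ E Y L := by
    intro v hv hvX
    have hvW := (h1 X L hX hL hXL).2
    obtain ⟨g, -, hgv, hgX, -, hgL, -⟩ := h.F2_swap hL hX hY hXL hYL hYX.symm hX hY hXL hYL
      (hvW X hX hXL hv) (hvW Y hY hYL hv) (huL v hv hvX)
    rw [← hgX, ← hgL, hE g X L hX hL hXL, mem_cj, mul_assoc, ← hgv, inv_mul_cancel_left]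
    exact hv
  obtain ⟨c, hc, hc1⟩ := h.pt_ne_bot hX
  have h3 : u * c ∈ E X L := (E X L).mul_mem hu ((h1 X L hX hL hXL).1 hc)
  have h4 : u * c ∉ X := fun e => huX ((X.mul_mem_cancel_right hc).1 e)
  have h5 : c ∈ E Y L := ((E Y L).mul_mem_cancel_left (key u hu huX)).1 (key _ h3 h4)
  have h6 : c ∈ E Y L ⊓ X := ⟨h5, hc⟩
  rw [h2 Y L hY hL hYL X hX hXL hYX.symm, mem_bot] at h6
  exact hc1 h6

/-- (LIN) for an arbitrary flag -/
theorem lin (hX : IsCj Z X) (hL : IsCj V L) (hXL : X ≤ L) {g v : G} (hg : g ∈ centralizer (X : Set G))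
    (hv : v ∈ L) (hvX : v ∉ X) (hgv : g * v * g⁻¹ * v⁻¹ ∈ X) : ∀ u ∈ L, g * u * g⁻¹ * u⁻¹ ∈ X := by
  obtain ⟨T, Q, h'⟩ := h.flag hX hL hXL
  exact pb_lin h'.pl (fun z hz => (mem_centralizer_iff.1 hg z hz).symm) hv hvX hgv

/-- **LEMMA F**, the form for centralisers: `u ∈ I_L` centralised by `N X L` modulo `X` is in `X`. -/
theorem lemF_flag {N : Subgroup G → Subgroup G → Subgroup G} (hN : FlagCan V Z N)
    (hc : ∀ X L, IsCj Z X → IsCj V L → X ≤ L → N X L ≤ centralizer (X : Set G))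
    (hn : ∀ X L, IsCj Z X → IsCj V L → X ≤ L → ∃ n ∈ N X L, ∃ v ∈ L, n * v * n⁻¹ * v⁻¹ ∉ X)
    (hX : IsCj Z X) (hL : IsCj V L) (hXL : X ≤ L) (hY : IsCj Z Y) (hYL : Y ≤ L) (hYX : Y ≠ X) {u : G}
    (hu : u ∈ ws V X) (hu' : u ∈ ws V Y) (huN : ∀ n ∈ N X L, n * u * n⁻¹ * u⁻¹ ∈ X) : u ∈ X := by
  have hE : FlagCan V Z fun X L => ff V Z X L (N X L) := by
    intro g X L hX hL hXL
    show ff V Z (cj g X) (cj g L) (N (cj g X) (cj g L)) = cj g (ff V Z X L (N X L))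
    rw [hN g X L hX hL hXL]
    exact ff_cj V Z X L (N X L) g
  have key := h.lemF hE (X := X) (L := L) ?_ ?_ hX hL hXL
  · rw [← key]
    refine ⟨?_, fun T hT hTL => ?_, huN⟩
    · rw [mem_centralizer_iff]
      exact fun x hx => (h.ws_comm hX hu (h.pt_le_ws hX hx)).symm
    · exact h.inf_le hL hX hY hT hXL hYL hTL hYX.symm ⟨hu, hu'⟩
  · intro X L hX hL hXL
    refine ⟨fun x hx => ⟨?_, fun Y hY hYL => ?_, fun n hn => ?_⟩, fun Y hY hYL u hu => hu.2.1 Y hY hYL⟩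
    · rw [mem_centralizer_iff]
      exact fun y hy => h.ws_comm hX (h.pt_le_ws hX hy) (h.pt_le_ws hX hx)
    · exact (hXL.trans (le_ws hL hYL)) hx
    · have h1 := mem_centralizer_iff.1 (hc X L hX hL hXL hn) x hx
      rw [← h1, mul_inv_cancel_right, mul_inv_cancel]
      exact one_mem _
  · intro X L hX hL hXL Y hY hYL hYX
    rw [eq_bot_iff]
    intro y hy
    by_contra hy1
    rw [mem_bot] at hy1
    obtain ⟨n, hnN, v, hvL, hnv⟩ := hn X L hX hL hXL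
    exact hnv (h.lin hX hL hXL (hc X L hX hL hXL hnN) (hYL hy.2)
      (fun e => hYX (h.pts_eq hY hX hy.2 e hy1)) (hy.1.2.2 n hnN) v hvL)

/-- a canonical subgroup `N X ≤ C_G(X)` centralising `L / X` for one line `L` is in `K_X` -/
theorem le_kx_of_line {N : Subgroup G → Subgroup G} (hN : PtCan Z N) (hX : IsCj Z X) (hL : IsCj V L) (hXL : X ≤ L)
    (hc : N X ≤ centralizer (X : Set G)) (hn : ∀ n ∈ N X, ∀ v ∈ L, n * v * n⁻¹ * v⁻¹ ∈ X) : N X ≤ kx V X := by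
  intro n hnN
  have hnX := mem_centralizer_iff.1 (hc hnN)
  refine mem_kx.2 ⟨fun x hx => (hnX x hx).symm, ?_⟩
  -- the subgroup of `ws V X` centralised modulo `X`
  have key : ∀ M, IsCj V M → X ≤ M → ∀ v ∈ M, n * v * n⁻¹ * v⁻¹ ∈ X := by
    intro M hM hXM v hv
    obtain ⟨g, hg1, rfl⟩ := h.exists_conj₂ hX hL hXL hX hM hXM
    have h1 : g⁻¹ * n * g ∈ N X := by
      rw [← mem_cj, ← hN g X hX, ← hg1]
      exact hnN
    have h2 := hn _ h1 _ (mem_cj.1 hv)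
    rw [hg1, mem_cj]
    have e : g⁻¹ * (n * v * n⁻¹ * v⁻¹) * g =
      g⁻¹ * n * g * (g⁻¹ * v * g) * (g⁻¹ * n * g)⁻¹ * (g⁻¹ * v * g)⁻¹ := by group
    rwa [e]
  let E : Subgroup G :=
    { carrier := {w | w ∈ centralizer (X : Set G) ∧ n * w * n⁻¹ * w⁻¹ ∈ X}
      one_mem' := ⟨one_mem _, by simp⟩
      mul_mem' := by
        rintro a b ⟨ha1, ha3⟩ ⟨hb1, hb3⟩
        refine ⟨mul_mem ha1 hb1, ?_⟩
        have e : n * (a * b) * n⁻¹ * (a * b)⁻¹ = n * a * n⁻¹ * a⁻¹ * (a * (n * b * n⁻¹ * b⁻¹) * a⁻¹) := by group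
        have e2 : a * (n * b * n⁻¹ * b⁻¹) * a⁻¹ = n * b * n⁻¹ * b⁻¹ := by
          rw [← mem_centralizer_iff.1 ha1 _ hb3, mul_inv_cancel_right]
        rw [e, e2]
        exact X.mul_mem ha3 hb3
      inv_mem' := by
        rintro a ⟨ha1, ha3⟩
        refine ⟨inv_mem ha1, ?_⟩
        have e : n * a⁻¹ * n⁻¹ * a⁻¹⁻¹ = a⁻¹ * (n * a * n⁻¹ * a⁻¹)⁻¹ * a := by group
        have h1 := X.inv_mem ha3
        rw [e, mul_assoc, mem_centralizer_iff.1 ha1 _ h1, inv_mul_cancel_left]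
        exact h1 }
  have hE : ws V X ≤ E := by
    refine ws_le fun M hM hXM v hv => ⟨?_, key M hM hXM v hv⟩
    rw [mem_centralizer_iff]
    exact fun x hx => h.ws_comm hX (h.pt_le_ws hX hx) (h.line_le hM hXM hv)
  exact fun w hw => (hE hw).2

/-- **COROLLARY of LEMMA F**: `u ∈ I_L` centralised by `N X` modulo `X` is in `X`, if `N X ≤ C_G(X)` is canonical and
not contained in `K_X`. -/
theorem lemF_pt {N : Subgroup G → Subgroup G} (hN : PtCan Z N)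
    (hc : ∀ X, IsCj Z X → N X ≤ centralizer (X : Set G)) (hn : ∀ X, IsCj Z X → ¬ N X ≤ kx V X)
    (hX : IsCj Z X) (hL : IsCj V L) (hXL : X ≤ L) (hY : IsCj Z Y) (hYL : Y ≤ L) (hYX : Y ≠ X) {u : G}
    (hu : u ∈ ws V X) (hu' : u ∈ ws V Y) (huN : ∀ n ∈ N X, n * u * n⁻¹ * u⁻¹ ∈ X) : u ∈ X := by
  refine h.lemF_flag (hN.flag V) (fun X L hX _ _ => hc X hX) (fun X L hX hL hXL => ?_) hX hL hXL hY hYL hYX hu hu' huN
  by_contra hcon
  push Not at hcon
  exact hn X hX (h.le_kx_of_line hN hX hL hXL (hc X hX) hcon)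

end Mid

end Cfsg.Agent.Omega.NO3S.MidB

end

section


/-!
# NO-3S, natural lines, critical distance 2, the `(R, B)`-frame: TYPE N, the basic facts

Copy of `MidQ/TypeN.lean` and `MidQ/TNBasic.lean` over `MidB.Mid`; the definitions `TypN`, `cw`, `Jo`, `zu` are those of
`MidQ`.

* `Mid.mid_mem` : `[W_X, W_Y] ≤ R` for `X ~ R ~ Y`;
* `Mid.UU_comm`, `Mid.UU_sq` : (0.a) `[U_R, U_R] ≤ R`, `g² ∈ R` for `g ∈ U_R`;
* `Mid.UU_ws` : (0.b) `[U_A, W_R] ≤ A` for `A ~ R`;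
* `Mid.mid_unique` : (0.c) the middle of a critical pair is unique;
* `Mid.cw_line`, `Mid.jo_iff`, `Mid.jo_line_left`, `Mid.jo_line_right`, `Mid.inf_cw`.
-/

set_option autoImplicit false
set_option linter.unusedSectionVars false

namespace Cfsg.Agent.Omega.NO3S.MidB

open Subgroup Cfsg.Agent.Omega.NO3S.PT Cfsg.Agent.Omega.NoFF.Basic Cfsg.Agent.ZN
open Cfsg.Agent.Omega.NO3S.MidQ (Adj Com Cr UU ws_of kx_of isCj_iff adj_iff com_iff cr_iff UU_of isCj_symm isCj_trans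
  com_cj UU_cj le_UU normalizer_le_UU isPGroup_sSup FlagCan PtCan ff mem_ff ff_cj TypN cw mem_cw cw_le cw_cj Jo jo_cj zu)
open scoped Pointwise

variable {G : Type*} [Group G]

variable [Finite G] {S : Sylow 2 G} {P V Z X Y R A B L : Subgroup G}

namespace Mid

theorem comm_one {a b : G} (h : a * b = b * a) : a * b * a⁻¹ * b⁻¹ = 1 := by rw [h]; group

theorem comm_eq {a b : G} (h : a * b * a⁻¹ * b⁻¹ = 1) : a * b = b * a := by
  rwa [mul_inv_eq_one, mul_inv_eq_iff_eq_mul] at h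

variable (h : Mid S P V Z)
include h

theorem adj_le_ws' (hXY : Adj V Z X Y) : X ≤ ws V Y := h.adj_le_ws hXY.symm

/-- elements of `U_R` are 2-elements -/
theorem two_UU {g : G} (hg : g ∈ UU V Z R) : TwoEl g := by
  obtain ⟨n, hn⟩ := h.isPGroup_UU R ⟨g, hg⟩
  exact ⟨n, by simpa using congrArg Subtype.val hn⟩

theorem two_ws (hX : IsCj Z X) {g : G} (hg : g ∈ ws V X) : TwoEl g := ⟨1, by
  rw [pow_one, pow_two]; exact h.ws_sq hX hg⟩

/-- an element commuting with an element of `X#` normalises `X` -/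
theorem fix_of_comm (hX : IsCj Z X) {g z : G} (hz : z ∈ X) (hz1 : z ≠ 1) (hgz : g * z = z * g) : cj g X = X := by
  refine h.pts_eq (hX.cj g) hX (z := z) ?_ hz hz1
  rw [mem_cj, mul_assoc, ← hgz, inv_mul_cancel_left]
  exact hz

theorem pt_sq (hX : IsCj Z X) {x : G} (hx : x ∈ X) : x * x = 1 := h.ws_sq hX (h.pt_le_ws hX hx)

theorem ws_inv (hX : IsCj Z X) {w : G} (hw : w ∈ ws V X) : w⁻¹ = w :=
  inv_eq_of_mul_eq_one_left (h.ws_sq hX hw)

theorem pt_inf (hX : IsCj Z X) (hY : IsCj Z Y) (hne : X ≠ Y) {u : G} (hu : u ∈ X) (hu' : u ∈ Y) : u = 1 := by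
  by_contra hu1
  exact hne (h.pts_eq hX hY hu hu' hu1)

/-- the line through two points is their product -/
theorem line_eq (hX : IsCj Z X) (hY : IsCj Z Y) (hne : X ≠ Y) (hL : IsCj V L) (h1 : X ≤ L) (h2 : Y ≤ L) {v : G}
    (hv : v ∈ L) : ∃ x ∈ X, ∃ y ∈ Y, v = x * y := by
  obtain ⟨T, Q, h'⟩ := h.flag hX hL h1
  obtain ⟨x, hx, y, hy, e⟩ := h'.pl.exists_mul h'.pl.isCj_self h1 ((isCj_iff hX).2 hY) h2 hne hv
  exact ⟨x, hx, y, hy, e⟩

theorem line_le_of (hX : IsCj Z X) (hY : IsCj Z Y) (hne : X ≠ Y) (hL : IsCj V L) (h1 : X ≤ L) (h2 : Y ≤ L)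
    {H : Subgroup G} (hXH : X ≤ H) (hYH : Y ≤ H) : L ≤ H := by
  intro v hv
  obtain ⟨x, hx, y, hy, rfl⟩ := h.line_eq hX hY hne hL h1 h2 hv
  exact mul_mem (hXH hx) (hYH hy)

/-- `U_A` fixes `R` if `A ~ R` -/
theorem UU_norm_UU (hA : Adj V Z A R) : UU V Z A ≤ normalizer ((UU V Z R : Subgroup G) : Set G) :=
  (h.UU_le_cent_adj hA.symm).trans ((centralizer_le_normalizer _).trans (normalizer_le_UU V Z R))

theorem UU_norm_ws (hA : Adj V Z A R) : UU V Z A ≤ normalizer ((ws V R : Subgroup G) : Set G) :=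
  (h.UU_le_cent_adj hA.symm).trans ((centralizer_le_normalizer _).trans (normalizer_le_ws V R))

/-- `W_Y` normalises `W_X` and `U_X`.. if `X ~ R ~ Y` -/
theorem ws_norm_UU (hXR : Adj V Z X R) (hRY : Adj V Z R Y) : ws V X ≤ normalizer ((UU V Z Y : Subgroup G) : Set G) :=
  (h.ws_le_cent hXR hRY).trans ((centralizer_le_normalizer _).trans (normalizer_le_UU V Z Y))

variable (hN : TypN V Z)
include hN

/-- `[W_X, W_Y] ≤ R` for `X ~ R ~ Y` -/
theorem mid_mem (hX : Adj V Z X R) (hY : Adj V Z R Y) {a b : G} (ha : a ∈ ws V X) (hb : b ∈ ws V Y) :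
    a * b * a⁻¹ * b⁻¹ ∈ R := by
  by_cases hc : Com V X Y
  · rw [comm_one (mem_centralizer_iff.1 (hc ha) b hb).symm]
    exact one_mem _
  · exact hN X R Y ⟨hX, hY, hc⟩ a ha b hb

/-- **(0.c)** the middle is unique -/
theorem mid_unique {R' : Subgroup G} (hc : Cr V Z X R Y) (h1 : Adj V Z X R') (h2 : Adj V Z R' Y) : R' = R := by
  by_contra hne
  refine hc.ne fun a ha => mem_centralizer_iff.2 fun b hb => ?_
  have h3 := h.mid_mem hN hc.l hc.r ha hb
  have h4 := h.mid_mem hN h1 h2 ha hb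
  exact (comm_eq (h.pt_inf h1.right hc.l.right hne h4 h3)).symm

/-- **(0.a)** `[U_R, U_R] ≤ R` -/
theorem UU_comm (hR : IsCj Z R) {g k : G} (hg : g ∈ UU V Z R) (hk : k ∈ UU V Z R) : g * k * g⁻¹ * k⁻¹ ∈ R := by
  have hcen : ∀ x ∈ R, ∀ u ∈ UU V Z R, u * x = x * u := fun x hx u hu =>
    (mem_centralizer_iff.1 (h.UU_le_cent_pt hR hu) x hx).symm
  -- first: one element in some `W_B`
  have step : ∀ B, Adj V Z B R → ∀ k ∈ ws V B, ∀ g ∈ UU V Z R, g * k * g⁻¹ * k⁻¹ ∈ R := by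
    intro B hB k hk
    have hkU := le_UU hB hk
    let E : Subgroup G :=
      { carrier := {g | g ∈ centralizer (R : Set G) ∧ g * k * g⁻¹ * k⁻¹ ∈ R}
        one_mem' := ⟨one_mem _, by simp⟩
        mul_mem' := by
          rintro a b ⟨ha, ha'⟩ ⟨hb, hb'⟩
          refine ⟨mul_mem ha hb, ?_⟩
          have e : a * b * k * (a * b)⁻¹ * k⁻¹ = a * (b * k * b⁻¹ * k⁻¹) * a⁻¹ * (a * k * a⁻¹ * k⁻¹) := by group
          rw [e, ← mem_centralizer_iff.1 ha _ hb', mul_inv_cancel_right]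
          exact R.mul_mem hb' ha'
        inv_mem' := by
          rintro a ⟨ha, ha'⟩
          refine ⟨inv_mem ha, ?_⟩
          have e : a⁻¹ * k * a⁻¹⁻¹ * k⁻¹ = a⁻¹ * (a * k * a⁻¹ * k⁻¹)⁻¹ * a := by group
          rw [e, mul_assoc, mem_centralizer_iff.1 ha _ (R.inv_mem ha'), inv_mul_cancel_left]
          exact R.inv_mem ha' }
    have hE : UU V Z R ≤ E := by
      refine sSup_le ?_
      rintro _ ⟨C, hC, rfl⟩ c hc
      exact ⟨h.UU_le_cent_pt hR (le_UU hC hc), h.mid_mem hN hC hB.symm hc hk⟩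
    exact fun g hg => (hE hg).2
  let E : Subgroup G :=
    { carrier := {k | k ∈ centralizer (R : Set G) ∧ g * k * g⁻¹ * k⁻¹ ∈ R}
      one_mem' := ⟨one_mem _, by simp⟩
      mul_mem' := by
        rintro a b ⟨ha, ha'⟩ ⟨hb, hb'⟩
        refine ⟨mul_mem ha hb, ?_⟩
        have e : g * (a * b) * g⁻¹ * (a * b)⁻¹ = g * a * g⁻¹ * a⁻¹ * (a * (g * b * g⁻¹ * b⁻¹) * a⁻¹) := by group
        rw [e, ← mem_centralizer_iff.1 ha _ hb', mul_inv_cancel_right]
        exact R.mul_mem ha' hb'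
      inv_mem' := by
        rintro a ⟨ha, ha'⟩
        refine ⟨inv_mem ha, ?_⟩
        have e : g * a⁻¹ * g⁻¹ * a⁻¹⁻¹ = a⁻¹ * (g * a * g⁻¹ * a⁻¹)⁻¹ * a := by group
        rw [e, mul_assoc, mem_centralizer_iff.1 ha _ (R.inv_mem ha'), inv_mul_cancel_left]
        exact R.inv_mem ha' }
  have hE : UU V Z R ≤ E := by
    refine sSup_le ?_
    rintro _ ⟨C, hC, rfl⟩ c hc
    exact ⟨h.UU_le_cent_pt hR (le_UU hC hc), step C hC c hc g hg⟩
  exact (hE hk).2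

/-- **(0.a)** `g² ∈ R` for `g ∈ U_R` -/
theorem UU_sq (hR : IsCj Z R) {g : G} (hg : g ∈ UU V Z R) : g * g ∈ R := by
  let E : Subgroup G :=
    { carrier := {g | g ∈ UU V Z R ∧ g * g ∈ R}
      one_mem' := ⟨one_mem _, by simp⟩
      mul_mem' := by
        rintro a b ⟨ha, ha'⟩ ⟨hb, hb'⟩
        refine ⟨mul_mem ha hb, ?_⟩
        have e : a * b * (a * b) = a * a * (a⁻¹ * b * a⁻¹⁻¹ * b⁻¹) * (b * b) := by group
        rw [e]
        exact R.mul_mem (R.mul_mem ha' (h.UU_comm hN hR (inv_mem ha) hb)) hb'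
      inv_mem' := by
        rintro a ⟨ha, ha'⟩
        refine ⟨inv_mem ha, ?_⟩
        have e : a⁻¹ * a⁻¹ = (a * a)⁻¹ := by group
        rw [e]
        exact R.inv_mem ha' }
  have hE : UU V Z R ≤ E := by
    refine sSup_le ?_
    rintro _ ⟨C, hC, rfl⟩ c hc
    exact ⟨le_UU hC hc, by rw [h.ws_sq hC.left hc]; exact one_mem _⟩
  exact (hE hg).2

/-- **(0.b)** `[U_A, W_R] ≤ A` for `A ~ R` -/
theorem UU_ws (hA : Adj V Z A R) {g w : G} (hg : g ∈ UU V Z A) (hw : w ∈ ws V R) : g * w * g⁻¹ * w⁻¹ ∈ A := by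
  have hcen : ∀ x ∈ A, ∀ u ∈ UU V Z A, u * x = x * u := fun x hx u hu =>
    (mem_centralizer_iff.1 (h.UU_le_cent_pt hA.left hu) x hx).symm
  let E : Subgroup G :=
    { carrier := {g | g ∈ centralizer (A : Set G) ∧ g * w * g⁻¹ * w⁻¹ ∈ A}
      one_mem' := ⟨one_mem _, by simp⟩
      mul_mem' := by
        rintro a b ⟨ha, ha'⟩ ⟨hb, hb'⟩
        refine ⟨mul_mem ha hb, ?_⟩
        have e : a * b * w * (a * b)⁻¹ * w⁻¹ = a * (b * w * b⁻¹ * w⁻¹) * a⁻¹ * (a * w * a⁻¹ * w⁻¹) := by group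
        rw [e, ← mem_centralizer_iff.1 ha _ hb', mul_inv_cancel_right]
        exact A.mul_mem hb' ha'
      inv_mem' := by
        rintro a ⟨ha, ha'⟩
        refine ⟨inv_mem ha, ?_⟩
        have e : a⁻¹ * w * a⁻¹⁻¹ * w⁻¹ = a⁻¹ * (a * w * a⁻¹ * w⁻¹)⁻¹ * a := by group
        rw [e, mul_assoc, mem_centralizer_iff.1 ha _ (A.inv_mem ha'), inv_mul_cancel_left]
        exact A.inv_mem ha' }
  have hE : UU V Z A ≤ E := by
    refine sSup_le ?_
    rintro _ ⟨C, hC, rfl⟩ c hc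
    exact ⟨h.UU_le_cent_pt hA.left (le_UU hC hc), h.mid_mem hN hC hA hc hw⟩
  exact (hE hg).2

end Mid

/-! ### `cw`, `Jo` (`MidQ/TNBasic.lean`) -/

namespace Mid

variable {A' B' : Subgroup G} (h : Mid S P V Z)
include h

theorem twoEl_UU {u : G} (hu : u ∈ UU V Z R) : TwoEl u := twoEl_of_isPGroup (h.isPGroup_UU R) hu

theorem twoEl_ws (hX : IsCj Z X) {u : G} (hu : u ∈ ws V X) : TwoEl u := twoEl_of_isPGroup (h.isPGroup_ws hX) hu

theorem R_le_cw (hA : Adj V Z A R) : R ≤ cw V Z R A := by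
  intro x hx
  rw [mem_cw]
  refine ⟨h.pt_le_ws hA.right hx, fun u hu => ?_⟩
  exact (mem_centralizer_iff.1 (h.UU_le_cent_adj hA.symm hu) x hx).symm

/-- `C_{W_R}(U_A)` depends only on the line `RA` -/
theorem cw_line (hA : Adj V Z A R) (hA' : Adj V Z A' R) (hL : IsCj V L) (hRL : R ≤ L) (hAL : A ≤ L)
    (hAL' : A' ≤ L) : cw V Z R A = cw V Z R A' := by
  obtain ⟨k, hk, rfl⟩ := h.K_trans hA.right hL hRL hA.left hAL hA'.left hAL' hA.ne hA'.ne
  have hkR : PT.cj k R = R := cj_eq_iff.2 (kx_normalizes le_rfl (h.pt_le_ws hA.right) hk)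
  have h1 := cw_cj V Z R A k
  rw [hkR] at h1
  rw [h1]
  exact (cj_eq_iff.2 (kx_normalizes (h.R_le_cw hA) cw_le hk)).symm

/-- `V_{RA} ≤ C_{W_R}(U_A)` -/
theorem line_le_cw (hL : IsCj V L) (hRL : R ≤ L) (hAL : A ≤ L) : L ≤ cw V Z R A := by
  intro x hx
  rw [mem_cw]
  refine ⟨le_ws hL hRL hx, fun u hu => ?_⟩
  exact (mem_centralizer_iff.1 (h.UU_le_centralizer A hu) x (le_ws hL hAL hx)).symm

theorem jo_iff (hA : Adj V Z A R) (hB : Adj V Z B R) : Jo V Z R A B ↔ ¬ B ≤ cw V Z R A := by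
  constructor
  · rintro ⟨-, -, h3⟩ h4
    exact h3 (h4.trans inf_le_right)
  · intro h3
    exact ⟨hA, hB, fun h4 => h3 (le_inf (h.adj_le_ws hB.symm) h4)⟩

/-- `Jo` depends only on the lines -/
theorem jo_line_left (hj : Jo V Z R A B) (hA' : Adj V Z A' R) (hL : IsCj V L) (hRL : R ≤ L) (hAL : A ≤ L)
    (hAL' : A' ≤ L) : Jo V Z R A' B := by
  rw [h.jo_iff hA' hj.r, ← h.cw_line hj.l hA' hL hRL hAL hAL', ← h.jo_iff hj.l hj.r]
  exact hj

/-- a line through `R` is in `U_A`-centralised part as soon as one of its points `≠ R` is -/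
theorem line_le_of_pt (hA : Adj V Z A R) (hB : Adj V Z B R) (hL : IsCj V L) (hRL : R ≤ L) (hBL : B ≤ L)
    (hBC : B ≤ cw V Z R A) : L ≤ cw V Z R A := by
  obtain ⟨T, Q, h'⟩ := h.flag hB.right hL hRL
  intro v hv
  have h1 : v ∈ L := hv
  obtain ⟨x, hx, y, hy, rfl⟩ := h'.pl.exists_mul h'.pl.isCj_self hRL ((isCj_iff hB.right).2 hB.left) hBL
    hB.ne.symm h1
  exact mul_mem (h.R_le_cw hA hx) (hBC hy)

theorem jo_line_right (hj : Jo V Z R A B) (hB' : Adj V Z B' R) (hL : IsCj V L) (hRL : R ≤ L) (hBL : B ≤ L)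
    (hBL' : B' ≤ L) : Jo V Z R A B' := by
  rw [h.jo_iff hj.l hB']
  intro h1
  exact (h.jo_iff hj.l hj.r).1 hj (hBL.trans (h.line_le_of_pt hj.l hB' hL hRL hBL' h1))

/-- `B ∩ C_{W_R}(U_A) = 1` if `A → B` -/
theorem inf_cw (hj : Jo V Z R A B) {x : G} (hx : x ∈ B) (hx' : x ∈ cw V Z R A) : x = 1 := by
  by_contra hx1
  refine hj.mv fun y hy => mem_centralizer_iff.2 fun u hu => ?_
  exact h.t3 hj.r.symm (h.twoEl_UU hu) (fun z hz => ((mem_cw.1 (h.R_le_cw hj.l hz)).2 u hu)) hx hx1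
    ((mem_cw.1 hx').2 u hu) y hy

end Mid

end Cfsg.Agent.Omega.NO3S.MidB

end

section


/-!
# NO-3S, natural lines, critical distance 2: `Mid` + (NO) gives `TypN` (bb OMEGA #19438): the definitions

* `Inn V Z X R Y` : the critical pair `(X, Y)` with middle point `R` is INNER: `[W_X, W_Y] ≤ W_R`;
* `InnN V Z` : THEOREM INN (#19761, #19787, #19900): `[W_X, W_Y] ≤ R` for every inner pair;
* `NFree V Z` : `N = X` for every `C_G(X)`-invariant `N`, `X ≤ N ≤ W_X`, `N ∩ L = X` (#19454, #19931);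
* `NOg V Z` : (NO): `|D̂| |C_{W_X}(D mod X)| ≤ |W_X|` for every `D` inducing an elementary abelian subgroup of
  `O₂(C_{G_X/K_X}(L/X))`;
* `Mv V Z A R B f k` : `f ∈ W_B` moves `W_A`, `f` inverts `k ∈ C_G(A)` of odd order, `k ^ i ≠ 1` moves the line `AR`.
-/

set_option autoImplicit false

namespace Cfsg.Agent.Omega.NO3S.MidB.No

open Subgroup Cfsg.Agent.Omega.NO3S.PT Cfsg.Agent.Omega.NoFF.Basic Cfsg.Agent.ZN
open Cfsg.Agent.Omega.NO3S.MidQ (Adj Com Cr UU)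
open scoped Pointwise

variable {G : Type*} [Group G]

/-- the critical pair `(X, Y)` with middle point `R` is inner -/
structure Inn (V Z X R Y : Subgroup G) : Prop where
  cr : Cr V Z X R Y
  le : ∀ a ∈ ws V X, ∀ b ∈ ws V Y, a * b * a⁻¹ * b⁻¹ ∈ ws V R

/-- **THEOREM INN** -/
def InnN (V Z : Subgroup G) : Prop :=
  ∀ X R Y, Inn V Z X R Y → ∀ a ∈ ws V X, ∀ b ∈ ws V Y, a * b * a⁻¹ * b⁻¹ ∈ R

/-- a `C_G(X)`-invariant subgroup of `W_X` which meets the lines on `X` in `X` is `X` -/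
def NFree (V Z : Subgroup G) : Prop :=
  ∀ X L N : Subgroup G, IsCj Z X → IsCj V L → X ≤ L → X ≤ N → N ≤ ws V X →
    centralizer (X : Set G) ≤ normalizer (N : Set G) → N ⊓ L = X → N = X

/-- **(NO)** -/
def NOg (V Z : Subgroup G) : Prop :=
  ∀ X L N D C : Subgroup G, IsCj Z X → IsCj V L → X ≤ L → N ≤ centralizer (L : Set G) →
    centralizer (L : Set G) ≤ normalizer (N : Set G) → (∀ g ∈ N, ∃ k : ℕ, g ^ 2 ^ k ∈ kx V X) → D ≤ N →
    (∀ d ∈ D, d * d ∈ kx V X) → (∀ u, u ∈ C ↔ u ∈ ws V X ∧ ∀ d ∈ D, d * u * d⁻¹ * u⁻¹ ∈ X) →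
    (kx V X).relIndex D * Nat.card C ≤ Nat.card (ws V X)

/-- a mover -/
structure Mv (V Z A R B : Subgroup G) (f k : G) : Prop where
  cr : Cr V Z A R B
  mem : f ∈ ws V B
  ncent : ¬ ∀ x ∈ ws V A, f * x = x * f
  cent : ∀ x ∈ A, k * x = x * k
  odd : Odd (orderOf k)
  ne : k ≠ 1
  inv : f * k * f⁻¹ = k⁻¹
  mv : ∀ i : ℕ, k ^ i ≠ 1 → ∀ L, IsCj V L → A ≤ L → R ≤ L → cj (k ^ i) L ≠ L

/-- the point `R ^ (k ^ i)` -/
abbrev pw (R : Subgroup G) (k : G) (i : ℕ) : Subgroup G := cj (k ^ i) R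

/-- **(D)** for the pair `R ^ (k ^ i)`, `R ^ (k ^ -i)` -/
def DD (V A R : Subgroup G) (k : G) (i : ℕ) : Prop := ws V (pw R k i) ⊓ ws V (pw R k⁻¹ i) ≤ ws V A

end Cfsg.Agent.Omega.NO3S.MidB.No

end

section


/-!
# NO-3S, critical distance 2, the `(R, B)`-frame: no (D)-pair (helper491 #19438 step 1, helper502 #17909)

* `Mid.bad_core` : `(A, B)` critical with middle `R`, `|W_A : C(W_B)| ≤ |W_B : C(W_A)|`; every `f ∈ W_B` which does not
  centralise `W_A` moves a point `Y ~ A` with `[Y, W_B] ≤ R`.  Then `[W_A, W_B] ≤ R`.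
* `Mid.bad_line` : the same with `[Y, C_G(W_R)] ≤ V_{AR}`;
* `Mid.exact_le` : `|W_A : C(W_B)| ≤ |W_B : C(W_A)|` from (NO);
* `Mid.bad` : (NO), movers for all `f ∈ W_B` moving `W_A`, LEMMA D, and no (D)-pair `(R ^ k, R ^ k⁻¹)`:
  `[W_A, W_B] ≤ R`.
-/

set_option autoImplicit false
set_option linter.unusedSectionVars false

namespace Cfsg.Agent.Omega.NO3S.MidB.No

open Subgroup Cfsg.Agent.Omega.NO3S.PT Cfsg.Agent.Omega.NoFF.Basic Cfsg.Agent.ZN
open Cfsg.Agent.Omega.NO3S.MidQ (Adj Com Cr UU le_UU normalizer_le_UU)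
open Cfsg.Agent.Omega.NO3S.MidB.Mid (comm_one comm_eq)

variable {G : Type*} [Group G] [Finite G] {S : Sylow 2 G} {P V Z A R B Y L : Subgroup G}

/-- `{w ∈ W_A : [w, W_B] ≤ R}` -/
def NB (V A R B : Subgroup G) (hAR : ws V A ≤ centralizer (R : Set G)) : Subgroup G where
  carrier := {w | w ∈ ws V A ∧ ∀ b ∈ ws V B, w * b * w⁻¹ * b⁻¹ ∈ R}
  one_mem' := ⟨one_mem _, fun b _ => by simp⟩
  mul_mem' := by
    rintro v w ⟨hv, hv'⟩ ⟨hw, hw'⟩
    refine ⟨mul_mem hv hw, fun b hb => ?_⟩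
    have e : v * w * b * (v * w)⁻¹ * b⁻¹ = v * (w * b * w⁻¹ * b⁻¹) * v⁻¹ * (v * b * v⁻¹ * b⁻¹) := by group
    rw [e, ← mem_centralizer_iff.1 (hAR hv) _ (hw' b hb), mul_inv_cancel_right]
    exact R.mul_mem (hw' b hb) (hv' b hb)
  inv_mem' := by
    rintro v ⟨hv, hv'⟩
    refine ⟨inv_mem hv, fun b hb => ?_⟩
    have e : v⁻¹ * b * v⁻¹⁻¹ * b⁻¹ = v⁻¹ * (v * b * v⁻¹ * b⁻¹)⁻¹ * v := by group
    rw [e, mul_assoc, mem_centralizer_iff.1 (hAR hv) _ (R.inv_mem (hv' b hb)), inv_mul_cancel_left]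
    exact R.inv_mem (hv' b hb)

theorem mem_NB {hAR : ws V A ≤ centralizer (R : Set G)} {w : G} :
    w ∈ NB V A R B hAR ↔ w ∈ ws V A ∧ ∀ b ∈ ws V B, w * b * w⁻¹ * b⁻¹ ∈ R := Iff.rfl

/-- an abelian 2-group `D` centralising `R`, with `[y, D] ≤ R`: `|D : C_D(y)| ≤ |R|` -/
theorem relIndex_le_of_comm {D R : Subgroup G} {y : G} (hDR : D ≤ centralizer (R : Set G))
    (hy : ∀ d ∈ D, y * d * y⁻¹ * d⁻¹ ∈ R) : (centralizer {y}).relIndex D ≤ Nat.card R := by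
  let φ : D →* R :=
    { toFun := fun d => ⟨y * d * y⁻¹ * (d : G)⁻¹, hy d d.2⟩
      map_one' := Subtype.ext (by simp)
      map_mul' := fun a b => Subtype.ext (by
        show y * ((a : G) * b) * y⁻¹ * ((a : G) * b)⁻¹ = (y * a * y⁻¹ * (a : G)⁻¹) * (y * b * y⁻¹ * (b : G)⁻¹)
        have h1 := mem_centralizer_iff.1 (hDR a.2) _ (hy b b.2)
        have e : y * ((a : G) * b) * y⁻¹ * ((a : G) * b)⁻¹ =
            (y * a * y⁻¹ * (a : G)⁻¹) * ((a : G) * (y * b * y⁻¹ * (b : G)⁻¹) * (a : G)⁻¹) := by group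
        rw [e, ← h1, mul_inv_cancel_right]) }
  have hk : φ.ker = (centralizer {y}).subgroupOf D := by
    ext d
    rw [MonoidHom.mem_ker, mem_subgroupOf, mem_centralizer_singleton_iff]
    constructor
    · intro e
      have e' : y * (d : G) * y⁻¹ * (d : G)⁻¹ = 1 := congrArg Subtype.val e
      rw [mul_inv_eq_one, mul_inv_eq_iff_eq_mul] at e'
      exact e'.symm
    · intro e
      apply Subtype.ext
      show y * (d : G) * y⁻¹ * (d : G)⁻¹ = 1
      rw [← e]; group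
  rw [relIndex, ← hk, index_ker]
  exact Nat.card_le_card_of_injective _ Subtype.val_injective

/-- **counting core** -/
theorem _root_.Cfsg.Agent.Omega.NO3S.MidB.Mid.bad_core (h : Mid S P V Z) (hc : Cr V Z A R B)
    (hex : (centralizer ((ws V B : Subgroup G) : Set G)).relIndex (ws V A) ≤
      (centralizer ((ws V A : Subgroup G) : Set G)).relIndex (ws V B))
    (hY : ∀ f ∈ ws V B, (∃ w ∈ ws V A, f * w ≠ w * f) → ∃ Y, Adj V Z Y A ∧ (∃ y ∈ Y, f * y ≠ y * f) ∧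
      ∀ y ∈ Y, ∀ b ∈ ws V B, y * b * y⁻¹ * b⁻¹ ∈ R) :
    ∀ a ∈ ws V A, ∀ b ∈ ws V B, a * b * a⁻¹ * b⁻¹ ∈ R := by
  have hAR : ws V A ≤ centralizer (R : Set G) := h.ws_le_cent' hc.l
  have hBR : ws V B ≤ centralizer (R : Set G) := h.ws_le_cent' hc.r.symm
  have hBA : ws V B ≤ centralizer (A : Set G) := h.ws_le_cent hc.r.symm hc.l.symm
  set N := NB V A R B hAR with hN
  set C0 := centralizer ((ws V A : Subgroup G) : Set G) with hC0
  have hfin : ∀ H K : Subgroup G, H.relIndex K ≠ 0 := fun H K => by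
    rw [relIndex]; exact Subgroup.index_ne_zero_of_finite
  have key : ∀ n : ℕ, ∀ D : Subgroup G, Nat.card D ≤ n → D ≤ ws V B →
      C0.relIndex D ≤ (centralizer (D : Set G)).relIndex N := by
    intro n
    induction n with
    | zero =>
      intro D hD
      exact absurd hD (by have := Nat.card_pos (α := D); omega)
    | succ n ih =>
      intro D hDn hD
      by_cases hDC : D ≤ C0
      · rw [relIndex_eq_one.2 hDC]
        exact Nat.one_le_iff_ne_zero.2 (hfin _ _)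
      obtain ⟨f, hf, hfC⟩ := SetLike.not_le_iff_exists.1 hDC
      have hfC' : ∃ w ∈ ws V A, f * w ≠ w * f := by
        by_contra hcon
        push Not at hcon
        exact hfC (mem_centralizer_iff.2 fun w hw => (hcon w hw).symm)
      obtain ⟨Y, hYA, ⟨y, hy, hfy⟩, hYB⟩ := hY f (hD hf) hfC'
      have hYw : Y ≤ ws V A := h.adj_le_ws hYA.symm
      have hYN : Y ≤ N := fun v hv => ⟨hYw hv, hYB v hv⟩
      have hy1 : y ≠ 1 := by rintro rfl; exact hfy (by simp)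
      -- (T3)
      have t3 : ∀ d ∈ D, ∀ v ∈ Y, v ≠ 1 → d * v = v * d → ∀ u ∈ Y, d * u = u * d := by
        intro d hd v hv hv1 hdv
        exact h.t3 hYA.symm (h.two_ws hc.r.right (hD hd))
          (fun a ha => (mem_centralizer_iff.1 (hBA (hD hd)) a ha).symm) hv hv1 hdv
      set D' := D ⊓ centralizer (Y : Set G) with hD'
      have hD'D : D' ≤ D := inf_le_left
      have hlt : Nat.card D' ≤ n := by
        have h1 : D' < D := lt_of_le_of_ne hD'D fun e => hfy (by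
          have h2 : f ∈ D' := e ▸ hf
          exact (mem_centralizer_iff.1 h2.2 y hy).symm)
        have h2 : Nat.card D' < Nat.card D := by
          refine lt_of_le_of_ne (Subgroup.card_le_of_le hD'D) fun e => h1.ne ?_
          exact Subgroup.eq_of_le_of_card_ge hD'D e.ge
        omega
      have ih' := ih D' hlt (hD'D.trans hD)
      -- |D : D'| ≤ |R| = |Y|
      have h3 : D'.relIndex D ≤ Nat.card Y := by
        have h4 : D'.relIndex D = (centralizer {y}).relIndex D := by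
          have h5 : (centralizer {y} : Subgroup G) ⊓ D = D' := by
            apply le_antisymm
            · rintro d ⟨hd, hd'⟩
              refine ⟨hd', mem_centralizer_iff.2 fun u hu => ?_⟩
              exact (t3 d hd' y hy hy1 (mem_centralizer_singleton_iff.1 hd) u hu).symm
            · rintro d ⟨hd, hd'⟩
              exact ⟨mem_centralizer_singleton_iff.2 (mem_centralizer_iff.1 hd' y hy).symm, hd⟩
          rw [← inf_relIndex_right (centralizer {y}) D, h5]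
        have h6 : Nat.card Y = Nat.card R := by
          obtain ⟨g, rfl⟩ := hYA.left
          obtain ⟨g', rfl⟩ := hc.l.right
          rw [card_cj, card_cj]
        rw [h4, h6]
        exact relIndex_le_of_comm (hD.trans hBR) fun d hd => hYB y hy d (hD hd)
      -- |C_N(D') : C_N(D)| ≥ |Y|
      have h7 : Nat.card Y ≤ (centralizer (D : Set G) ⊓ N).relIndex (centralizer (D' : Set G) ⊓ N) := by
        have h8 : Y ≤ centralizer (D' : Set G) ⊓ N := by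
          refine le_inf (fun u hu => mem_centralizer_iff.2 fun d hd => ?_) hYN
          exact (mem_centralizer_iff.1 (hd : d ∈ D').2 u hu).symm
        have h9 : (centralizer (D : Set G) ⊓ N).relIndex Y = Nat.card Y := by
          have h10 : (centralizer (D : Set G) ⊓ N) ⊓ Y = ⊥ := by
            rw [eq_bot_iff]
            rintro u ⟨⟨hu, -⟩, huY⟩
            by_contra hu1
            exact hfy (t3 f hf u huY hu1 (mem_centralizer_iff.1 hu f hf) y hy)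
          rw [← inf_relIndex_right, h10, relIndex_bot_left]
        rw [← h9]
        exact relIndex_le_of_le_right h8 (hfin _ _)
      have h11 : (centralizer (D : Set G) ⊓ N).relIndex (centralizer (D' : Set G) ⊓ N) *
          (centralizer (D' : Set G) ⊓ N).relIndex N = (centralizer (D : Set G) ⊓ N).relIndex N :=
        relIndex_mul_relIndex _ _ _ (inf_le_inf_right _ (centralizer_le hD'D)) inf_le_right
      rw [inf_relIndex_right, inf_relIndex_right] at h11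
      have hC0Y : (C0 ⊓ D) ≤ D' := by
        rintro d ⟨hd, hd'⟩
        exact ⟨hd', mem_centralizer_iff.2 fun u hu => mem_centralizer_iff.1 hd u (hYw hu)⟩
      have h12 : (C0 ⊓ D).relIndex D' * D'.relIndex D = (C0 ⊓ D).relIndex D :=
        relIndex_mul_relIndex _ _ _ hC0Y hD'D
      have h13 : (C0 ⊓ D).relIndex D' = C0.relIndex D' := by
        rw [← inf_relIndex_right (C0 ⊓ D) D', inf_assoc, inf_eq_right.2 hD'D, inf_relIndex_right]
      rw [h13, inf_relIndex_right] at h12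
      calc C0.relIndex D = C0.relIndex D' * D'.relIndex D := h12.symm
        _ ≤ (centralizer (D' : Set G)).relIndex N *
            (centralizer (D : Set G) ⊓ N).relIndex (centralizer (D' : Set G) ⊓ N) :=
          Nat.mul_le_mul ih' (h3.trans h7)
        _ = (centralizer (D : Set G)).relIndex N := by rw [mul_comm, h11]
  have h1 := key _ (ws V B) le_rfl le_rfl
  -- `N = W_A`
  have hNA : N ≤ ws V A := fun w hw => hw.1
  have hCN : centralizer ((ws V B : Subgroup G) : Set G) ⊓ ws V A ≤ N := by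
    rintro w ⟨hw, hwA⟩
    refine ⟨hwA, fun b hb => ?_⟩
    rw [comm_one (mem_centralizer_iff.1 hw b hb).symm]
    exact one_mem _
  have h2 : (centralizer ((ws V B : Subgroup G) : Set G) ⊓ ws V A).relIndex N * N.relIndex (ws V A) =
      (centralizer ((ws V B : Subgroup G) : Set G) ⊓ ws V A).relIndex (ws V A) :=
    relIndex_mul_relIndex _ _ _ hCN hNA
  have h3 : (centralizer ((ws V B : Subgroup G) : Set G) ⊓ ws V A).relIndex N =
      (centralizer ((ws V B : Subgroup G) : Set G)).relIndex N := by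
    rw [← inf_relIndex_right (centralizer ((ws V B : Subgroup G) : Set G) ⊓ ws V A) N, inf_assoc,
      inf_eq_right.2 hNA, inf_relIndex_right]
  rw [h3, inf_relIndex_right] at h2
  have h4 : N.relIndex (ws V A) = 1 := by
    have h5 := hfin N (ws V A)
    have h6 := hfin (centralizer ((ws V B : Subgroup G) : Set G)) N
    have h7 : (centralizer ((ws V B : Subgroup G) : Set G)).relIndex N * N.relIndex (ws V A) ≤
        (centralizer ((ws V B : Subgroup G) : Set G)).relIndex N := by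
      rw [h2]; exact hex.trans h1
    by_contra h8
    have h9 : 2 ≤ N.relIndex (ws V A) := by omega
    have h10 := Nat.mul_le_mul_left ((centralizer ((ws V B : Subgroup G) : Set G)).relIndex N) h9
    have h11 : 0 < (centralizer ((ws V B : Subgroup G) : Set G)).relIndex N := Nat.pos_of_ne_zero h6
    omega
  intro a ha b hb
  exact ((relIndex_eq_one.1 h4) ha).2 b hb

/-- `V_{AR} ∩ W_B = R` -/
theorem _root_.Cfsg.Agent.Omega.NO3S.MidB.Mid.line_inf (h : Mid S P V Z) (hc : Cr V Z A R B) (hL : IsCj V L) (hAL : A ≤ L) (hRL : R ≤ L) {u : G} (hu : u ∈ L)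
    (hu' : u ∈ ws V B) : u ∈ R := by
  obtain ⟨x, hx, y, hy, rfl⟩ := h.line_eq hc.l.left hc.l.right hc.l.ne hL hAL hRL hu
  have h1 : y ∈ ws V B := h.adj_le_ws hc.r.symm hy
  have h2 : x ∈ ws V B := by
    have := (ws V B).mul_mem hu' ((ws V B).inv_mem h1)
    rwa [mul_inv_cancel_right] at this
  rw [h.star hc hx h2, one_mul]
  exact hy

/-- **no (D)-pair**: line form -/
theorem _root_.Cfsg.Agent.Omega.NO3S.MidB.Mid.bad_line (h : Mid S P V Z) (hc : Cr V Z A R B)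
    (hex : (centralizer ((ws V B : Subgroup G) : Set G)).relIndex (ws V A) ≤
      (centralizer ((ws V A : Subgroup G) : Set G)).relIndex (ws V B))
    (hL : IsCj V L) (hAL : A ≤ L) (hRL : R ≤ L)
    (hY : ∀ f ∈ ws V B, (∃ w ∈ ws V A, f * w ≠ w * f) → ∃ Y, Adj V Z Y A ∧ (∃ y ∈ Y, f * y ≠ y * f) ∧
      ∀ y ∈ Y, ∀ g ∈ centralizer ((ws V R : Subgroup G) : Set G), y * g * y⁻¹ * g⁻¹ ∈ L) :
    ∀ a ∈ ws V A, ∀ b ∈ ws V B, a * b * a⁻¹ * b⁻¹ ∈ R := by
  refine h.bad_core hc hex fun f hf hfw => ?_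
  obtain ⟨Y, hYA, hfy, hYg⟩ := hY f hf hfw
  refine ⟨Y, hYA, hfy, fun y hy b hb => ?_⟩
  have hyA : y ∈ ws V A := h.adj_le_ws hYA.symm hy
  refine h.line_inf hc hL hAL hRL (hYg y hy b ?_) (h.comm_mem hc hyA hb).2
  exact h.com B R hc.r.symm hb

/-- **one half of exactness**, from (NO) for the flag `(B, V_{RB})` -/
theorem _root_.Cfsg.Agent.Omega.NO3S.MidB.Mid.exact_le (h : Mid S P V Z) (hNO : NOg V Z) (hc : Cr V Z A R B) :
    (centralizer ((ws V B : Subgroup G) : Set G)).relIndex (ws V A) ≤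
      (centralizer ((ws V A : Subgroup G) : Set G)).relIndex (ws V B) := by
  obtain ⟨M, hM, hRM, hBM⟩ := hc.r.line
  have h1 := hNO B M (UU V Z R) (ws V A) (centralizer ((ws V A : Subgroup G) : Set G) ⊓ ws V B) hc.r.right hM hBM
    ((h.UU_le_centralizer R).trans (centralizer_le (le_ws hM hRM)))
    ((centralizer_le hRM).trans ((centralizer_le_normalizer _).trans (normalizer_le_UU V Z R)))
    (fun g hg => by
      obtain ⟨n, hn⟩ := h.two_UU hg
      exact ⟨n, by rw [hn]; exact one_mem _⟩)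
    (le_UU hc.l) (fun d hd => by rw [h.ws_sq hc.l.left hd]; exact one_mem _) (fun u => by
      constructor
      · rintro ⟨hu, hu'⟩
        refine ⟨hu', fun d hd => ?_⟩
        rw [comm_one (mem_centralizer_iff.1 hu d hd)]
        exact one_mem _
      · rintro ⟨hu, hu'⟩
        exact ⟨mem_centralizer_iff.2 (h.cent_of_mod' hc.symm hu hu'), hu⟩)
  have h2 : (kx V B).relIndex (ws V A) = (centralizer ((ws V B : Subgroup G) : Set G)).relIndex (ws V A) := by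
    rw [← inf_relIndex_left, h.inf_kx hc.symm, inf_relIndex_left]
  have h3 : Nat.card (centralizer ((ws V A : Subgroup G) : Set G) ⊓ ws V B : Subgroup G) *
      (centralizer ((ws V A : Subgroup G) : Set G)).relIndex (ws V B) = Nat.card (ws V B) := by
    rw [← inf_relIndex_right (centralizer ((ws V A : Subgroup G) : Set G)) (ws V B), ← relIndex_bot_left,
      ← relIndex_bot_left]
    exact relIndex_mul_relIndex _ _ _ bot_le inf_le_right
  rw [h2, ← h3, mul_comm] at h1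
  exact Nat.le_of_mul_le_mul_left h1 Nat.card_pos

/-- **no (D)-pair** (piece (C) of #20170) -/
theorem _root_.Cfsg.Agent.Omega.NO3S.MidB.Mid.bad (h : Mid S P V Z) (hNO : NOg V Z) (hc : Cr V Z A R B)
    (hmov : ∀ f ∈ ws V B, (∃ w ∈ ws V A, f * w ≠ w * f) → ∃ k, Mv V Z A R B f k ∧ ¬ DD V A R k 1)
    (hlemD : ∀ X Y L, Adj V Z X A → Adj V Z Y A → IsCj V L → A ≤ L → X ≤ L → ¬ ws V X ⊓ ws V Y ≤ ws V A →
      ∀ g ∈ centralizer ((ws V X : Subgroup G) : Set G), ∀ y ∈ Y, g * y * g⁻¹ * y⁻¹ ∈ L) :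
    ∀ a ∈ ws V A, ∀ b ∈ ws V B, a * b * a⁻¹ * b⁻¹ ∈ R := by
  obtain ⟨L, hL, hAL, hRL⟩ := hc.l.line
  refine h.bad_line hc (h.exact_le hNO hc) hL hAL hRL fun f hf hfw => ?_
  obtain ⟨k, hk, hkD⟩ := hmov f hf hfw
  have hkA : PT.cj k A = A := cj_eq_iff.2 (centralizer_le_normalizer _ (mem_centralizer_iff.2 fun x hx =>
    (hk.cent x hx).symm))
  have hkA' : PT.cj k⁻¹ A = A := by
    conv_lhs => rw [← hkA]
    rw [cj_cj, inv_mul_cancel, cj_one]
  have adj_cj : ∀ {g : G} {X : Subgroup G}, PT.cj g A = A → Adj V Z X A → Adj V Z (PT.cj g X) A := by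
    rintro g X hg ⟨h1, h2, h3, M, h4, h5, h6⟩
    refine ⟨h1.cj g, h2, ?_, PT.cj g M, h4.cj g, cj_le_cj.2 h5, ?_⟩
    · intro e
      rw [← hg] at e
      exact h3 (cj_inj.1 e)
    · have h7 := cj_le_cj (g := g).2 h6
      rwa [hg] at h7
  have hX : Adj V Z (PT.cj k R) A := adj_cj hkA hc.l.symm
  have hY : Adj V Z (PT.cj k⁻¹ R) A := adj_cj hkA' hc.l.symm
  have hn : ¬ ws V (PT.cj k R) ⊓ ws V (PT.cj k⁻¹ R) ≤ ws V A := by
    have h1 := hkD
    unfold DD pw at h1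
    rwa [pow_one, pow_one] at h1
  have hAkL : A ≤ PT.cj k L := by
    have h7 := cj_le_cj (g := k).2 hAL
    rwa [hkA] at h7
  have h8 := hlemD _ _ _ hX hY (hL.cj k) hAkL (cj_le_cj.2 hRL) hn
  refine ⟨PT.cj k⁻¹ (PT.cj k⁻¹ R), adj_cj hkA' hY, ?_, ?_⟩
  · -- `f` moves the point
    by_contra hcon
    push Not at hcon
    set Y := PT.cj k⁻¹ (PT.cj k⁻¹ R) with hYdef
    have hfY : PT.cj f Y = Y := cj_eq_iff.2 (centralizer_le_normalizer _ (mem_centralizer_iff.2 fun x hx =>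
      (hcon x hx).symm))
    have hfR : PT.cj f R = R := cj_eq_iff.2 (centralizer_le_normalizer _ (h.ws_le_cent' hc.r.symm hf))
    have e1 : f * (k⁻¹ * k⁻¹) = k * k * f := by
      have e2 : f * k⁻¹ * f⁻¹ = k := by
        have h9 := congrArg (fun x => x⁻¹) hk.inv
        simpa [mul_assoc] using h9
      have e3 : f * k⁻¹ = k * f := by
        have h9 := congrArg (· * f) e2
        simpa [mul_assoc] using h9
      rw [← mul_assoc, e3, mul_assoc, e3, ← mul_assoc]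
    have h10 : PT.cj (k * k) R = Y := by
      rw [← hfY, hYdef, cj_cj, cj_cj, mul_assoc, e1, ← cj_cj (k * k) f, hfR]
    have h11 : PT.cj (k ^ 4) R = R := by
      have e4 : k ^ 4 = k * k * (k * k) := by
        rw [show (4 : ℕ) = 2 * 2 by norm_num, pow_mul, pow_two, pow_two]
      have h12 := congrArg (PT.cj (k * k)) h10
      rw [e4, ← cj_cj, h12, hYdef, cj_cj, cj_cj,
        show k * k * k⁻¹ * k⁻¹ = 1 by group, cj_one]
    have hkA4 : PT.cj (k ^ 4) A = A := cj_eq_iff.2 ((normalizer (A : Set G)).pow_mem (cj_eq_iff.1 hkA) 4)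
    have hk4 : k ^ 4 ≠ 1 := by
      intro e
      have h12 : orderOf k ∣ 2 ^ 2 := by
        rw [show (2 : ℕ) ^ 2 = 4 by norm_num]
        exact orderOf_dvd_of_pow_eq_one e
      have h13 : Nat.Coprime (orderOf k) (2 ^ 2) := Nat.Coprime.pow_right _ (Nat.coprime_two_right.2 hk.odd)
      exact hk.ne (orderOf_eq_one_iff.1 (Nat.eq_one_of_dvd_coprimes h13 dvd_rfl h12))
    refine hk.mv 4 hk4 L hL hAL hRL ?_
    refine h.line_unique hc.l.left hc.l.right hc.l.ne (hL.cj _) hL ?_ ?_ hAL hRL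
    · have h7 := cj_le_cj (g := k ^ 4).2 hAL
      rwa [hkA4] at h7
    · have h7 := cj_le_cj (g := k ^ 4).2 hRL
      rwa [h11] at h7
  · intro y hy g hg
    have hy' : k * y * k⁻¹ ∈ PT.cj k⁻¹ R := by
      have h9 := conj_mem_cj (g := k) hy
      rwa [cj_cj, mul_inv_cancel, cj_one] at h9
    have hg' : k * g * k⁻¹ ∈ centralizer ((ws V (PT.cj k R) : Subgroup G) : Set G) := by
      have h9 := conj_mem_cj (g := k) hg
      rw [cj_centralizer, ← ws_cj] at h9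
      exact h9
    have h9 := h8 _ hg' _ hy'
    rw [mem_cj] at h9
    have e : k⁻¹ * (k * g * k⁻¹ * (k * y * k⁻¹) * (k * g * k⁻¹)⁻¹ * (k * y * k⁻¹)⁻¹) * k =
        (y * g * y⁻¹ * g⁻¹)⁻¹ := by group
    rw [e] at h9
    exact (inv_mem_iff).1 h9

end Cfsg.Agent.Omega.NO3S.MidB.No

end

section


/-!
# NO-3S, natural lines, critical distance 2: LEMMA D (bb OMEGA #20170 (B); helper317 #19757 (2.1))

`X, Y ~ B`, `L` the line `BX`.  Either `W_X ∩ W_Y ≤ W_B`, or `K_B ∩ C(L)` centralises `[η, g]` for all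
`g ∈ C_G(W_X)` and `η ∈ Y` (`lemD_raw`), so that `[η, g] ∈ L` if `C_{W_B}(K_B ∩ C(L)) ≤ L` (`lemD`).
`X` and `Y` need not be on different lines.
-/

set_option autoImplicit false

namespace Cfsg.Agent.Omega.NO3S.MidB.No

open Subgroup Cfsg.Agent.Omega.NO3S.PT
open Cfsg.Agent.Omega.NO3S.MidQ (Adj Com Cr UU)
open scoped Pointwise

variable {G : Type*} [Group G] [Finite G] {S : Sylow 2 G} {P V Z X Y B L : Subgroup G}

/-- an element of `C_G(W_X)` centralises the points collinear with `X` -/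
theorem cent_adj (h : Mid S P V Z) (hX : Adj V Z X B) {g : G}
    (hg : g ∈ centralizer ((ws V X : Subgroup G) : Set G)) : ∀ b ∈ B, g * b = b * g := fun b hb =>
  (mem_centralizer_iff.1 hg b (h.adj_le_ws hX hb)).symm

omit [Finite G] in
/-- `W_X ∩ W_Y ≤ W_{Y^g}` for `g ∈ C_G(W_X)` -/
theorem inf_le_cj (V X Y : Subgroup G) {g : G} (hg : g ∈ centralizer ((ws V X : Subgroup G) : Set G)) :
    ws V X ⊓ ws V Y ≤ ws V (cj g Y) := by
  rintro u ⟨hu, hu'⟩
  rw [ws_cj, mem_cj]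
  have h1 : g⁻¹ * u * g = u := by
    have := mem_centralizer_iff.1 hg u hu
    rw [mul_assoc, this, inv_mul_cancel_left]
  rwa [h1]

/-- two points `≠ B` of a line on `B` whose `W` contain a common subgroup which is not in `W_B` are equal -/
theorem pt_unique (h : Mid S P V Z) {A A' N D : Subgroup G} (hB : IsCj Z B) (hA : IsCj Z A) (hA' : IsCj Z A')
    (hN : IsCj V N) (hBN : B ≤ N) (hAN : A ≤ N) (hAN' : A' ≤ N) (hD : D ≤ ws V A) (hD' : D ≤ ws V A')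
    (hn : ¬ D ≤ ws V B) : A = A' := by
  by_contra hne
  exact hn ((le_inf hD hD').trans (h.inf_le hN hA hA' hB hAN hAN' hBN hne))

/-- **LEMMA D**, raw form -/
theorem lemD_raw (h : Mid S P V Z) (hX : Adj V Z X B) (hY : Adj V Z Y B) (hXL : X ≤ L)
    (hn : ¬ ws V X ⊓ ws V Y ≤ ws V B) {g y : G} (hg : g ∈ centralizer ((ws V X : Subgroup G) : Set G)) (hy : y ∈ Y)
    {k : G} (hk : k ∈ kx V B) (hkL : ∀ x ∈ L, k * x = x * k) :
    k * (g * y * g⁻¹ * y⁻¹) = g * y * g⁻¹ * y⁻¹ * k := by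
  obtain ⟨M, hM, hYM, hBM⟩ := hY.line
  have hgB := cent_adj h hX hg
  have hcB : cj g B = B := cj_eq_iff.2 (centralizer_le_normalizer _
    (mem_centralizer_iff.2 fun b hb => (hgB b hb).symm))
  have hBgM : B ≤ cj g M := by
    rw [← hcB]; exact cj_le_cj.2 hBM
  -- `g' = k g k⁻¹ ∈ C_G(W_X)`
  have hkX : k ∈ normalizer ((ws V X : Subgroup G) : Set G) := normalizer_le_ws V X
    (centralizer_le_normalizer _ (mem_centralizer_iff.2 fun x hx => (hkL x (hXL hx)).symm))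
  have hg' : k * g * k⁻¹ ∈ centralizer ((ws V X : Subgroup G) : Set G) := by
    rw [mem_centralizer_iff]
    intro w hw
    have h1 : k⁻¹ * w * k ∈ ws V X := by
      have h2 := (mem_normalizer_iff.1 (inv_mem hkX) w).1 hw
      rwa [inv_inv] at h2
    have h2 := mem_centralizer_iff.1 hg _ h1
    calc w * (k * g * k⁻¹) = k * (k⁻¹ * w * k * g) * k⁻¹ := by group
      _ = k * (g * (k⁻¹ * w * k)) * k⁻¹ := by rw [h2]
      _ = k * g * k⁻¹ * w := by group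
  have hkB : ∀ b ∈ B, k * b = b * k := (mem_kx.1 hk).1
  have hYW : Y ≤ ws V B := h.adj_le_ws hY.symm
  have hgY : cj g Y ≤ ws V B := (cj_le_cj.2 hYM).trans (le_ws (hM.cj g) hBgM)
  -- `g' η g'⁻¹ ∈ B (η^g)`
  have key : ∀ η ∈ Y, ∃ c ∈ B, k⁻¹ * η * k = c * η ∧
      k * g * k⁻¹ * η * (k * g * k⁻¹)⁻¹ = c * (k * (g * η * g⁻¹) * k⁻¹ * (g * η * g⁻¹)⁻¹) * (g * η * g⁻¹) ∧
      k * (g * η * g⁻¹) * k⁻¹ * (g * η * g⁻¹)⁻¹ ∈ B := by
    intro η hη
    have hc : k⁻¹ * η * k * η⁻¹ ∈ B := by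
      have h1 := (mem_kx.1 (inv_mem hk)).2 η (hYW hη)
      rwa [inv_inv] at h1
    refine ⟨k⁻¹ * η * k * η⁻¹, hc, by group, ?_, (mem_kx.1 hk).2 _ (hgY (conj_mem_cj hη))⟩
    have h1 := hgB _ hc
    have h2 := hkB _ hc
    generalize hcc : k⁻¹ * η * k * η⁻¹ = c at h1 h2 hc ⊢
    have h3 : k⁻¹ * η * k = c * η := by rw [← hcc]; group
    calc k * g * k⁻¹ * η * (k * g * k⁻¹)⁻¹ = k * (g * (k⁻¹ * η * k) * g⁻¹) * k⁻¹ := by group
      _ = k * (g * c * η * g⁻¹) * k⁻¹ := by rw [h3, ← mul_assoc g c η]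
      _ = k * c * (g * η * g⁻¹) * k⁻¹ := by rw [h1]; group
      _ = c * k * (g * η * g⁻¹) * k⁻¹ := by rw [h2]
      _ = _ := by group
  have hle : cj (k * g * k⁻¹) Y ≤ cj g M := by
    intro u hu
    rw [mem_cj] at hu
    obtain ⟨c, hc, -, h1, h2⟩ := key _ hu
    have h3 : u = k * g * k⁻¹ * ((k * g * k⁻¹)⁻¹ * u * (k * g * k⁻¹)) * (k * g * k⁻¹)⁻¹ := by group
    rw [h3, h1]
    exact mul_mem (hBgM (mul_mem hc h2)) (cj_le_cj.2 hYM (conj_mem_cj hu))
  have heq : cj (k * g * k⁻¹) Y = cj g Y :=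
    pt_unique h hY.right (hY.left.cj _) (hY.left.cj _) (hM.cj g) hBgM hle (cj_le_cj.2 hYM)
      (inf_le_cj V X Y hg') (inf_le_cj V X Y hg) hn
  obtain ⟨c, hc, h0, h1, h2⟩ := key y hy
  have h3 : k * g * k⁻¹ * y * (k * g * k⁻¹)⁻¹ ∈ cj g Y := heq ▸ conj_mem_cj hy
  rw [h1] at h3
  have h4 : c * (k * (g * y * g⁻¹) * k⁻¹ * (g * y * g⁻¹)⁻¹) ∈ cj g Y := by
    have h5 := mul_mem h3 (inv_mem (conj_mem_cj (g := g) hy))
    rwa [mul_inv_cancel_right] at h5
  have h5 : c * (k * (g * y * g⁻¹) * k⁻¹ * (g * y * g⁻¹)⁻¹) = 1 := by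
    by_contra h6
    have h7 := h.pts_eq (hY.left.cj g) hY.right h4 (mul_mem hc h2) h6
    rw [← hcB] at h7
    exact hY.ne (cj_inj.1 h7)
  have h6 : k * (g * y * g⁻¹) * k⁻¹ = c⁻¹ * (g * y * g⁻¹) := by
    rw [mul_eq_one_iff_eq_inv] at h5
    rw [h5]; group
  have h7 : k * y * k⁻¹ = c⁻¹ * y := by
    have h8 : y = k * (c * y) * k⁻¹ := by rw [← h0]; group
    have h9 : y = c * (k * y * k⁻¹) := by
      calc y = k * (c * y) * k⁻¹ := h8
        _ = k * c * y * k⁻¹ := by group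
        _ = c * k * y * k⁻¹ := by rw [hkB c hc]
        _ = _ := by group
    calc k * y * k⁻¹ = c⁻¹ * (c * (k * y * k⁻¹)) := by group
      _ = c⁻¹ * y := by rw [← h9]
  have h8 : c * (g * y * g⁻¹ * y⁻¹) = g * y * g⁻¹ * y⁻¹ * c :=
    h.ws_comm hY.right (h.pt_le_ws hY.right hc) (mul_mem (hgY (conj_mem_cj hy)) (inv_mem (hYW hy)))
  rw [← mul_inv_eq_iff_eq_mul]
  calc k * (g * y * g⁻¹ * y⁻¹) * k⁻¹ = k * (g * y * g⁻¹) * k⁻¹ * (k * y * k⁻¹)⁻¹ := by group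
    _ = c⁻¹ * (g * y * g⁻¹) * (c⁻¹ * y)⁻¹ := by rw [h6, h7]
    _ = c⁻¹ * (g * y * g⁻¹ * y⁻¹ * c) := by group
    _ = c⁻¹ * (c * (g * y * g⁻¹ * y⁻¹)) := by rw [h8]
    _ = g * y * g⁻¹ * y⁻¹ := by group

/-- **LEMMA D**: `X, Y ~ B`, `L` the line `BX`, `C_{W_B}(K_B ∩ C(L)) ≤ L`, `W_X ∩ W_Y` not in `W_B`:
`[Y, C_G(W_X)] ≤ L`. -/
theorem lemD (h : Mid S P V Z) (hX : Adj V Z X B) (hY : Adj V Z Y B) (hXL : X ≤ L)
    (hLam : ∀ u ∈ ws V B, (∀ k ∈ kx V B, (∀ x ∈ L, k * x = x * k) → k * u = u * k) → u ∈ L)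
    (hn : ¬ ws V X ⊓ ws V Y ≤ ws V B) {g y : G} (hg : g ∈ centralizer ((ws V X : Subgroup G) : Set G)) (hy : y ∈ Y) :
    g * y * g⁻¹ * y⁻¹ ∈ L := by
  refine hLam _ ?_ fun k hk hkL => lemD_raw h hX hY hXL hn hg hy hk hkL
  have hgB := cent_adj h hX hg
  have hcB : cj g B = B := cj_eq_iff.2 (centralizer_le_normalizer _
    (mem_centralizer_iff.2 fun b hb => (hgB b hb).symm))
  have h1 : cj g (ws V B) = ws V B := by rw [← ws_cj, hcB]
  exact mul_mem (h1 ▸ conj_mem_cj (h.adj_le_ws hY.symm hy)) (inv_mem (h.adj_le_ws hY.symm hy))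

/-- **LEMMA D** for `[Y, C_G(W_X)]`, multiplicative form: `η^g ∈ L η`. -/
theorem lemD' (h : Mid S P V Z) (hX : Adj V Z X B) (hY : Adj V Z Y B) (hXL : X ≤ L)
    (hLam : ∀ u ∈ ws V B, (∀ k ∈ kx V B, (∀ x ∈ L, k * x = x * k) → k * u = u * k) → u ∈ L)
    (hn : ¬ ws V X ⊓ ws V Y ≤ ws V B) :
    ∀ g ∈ centralizer ((ws V X : Subgroup G) : Set G), cj g Y ≤ L ⊔ Y := by
  intro g hg u hu
  rw [mem_cj] at hu
  have h1 := lemD h hX hY hXL hLam hn hg hu
  have h2 : u = g * (g⁻¹ * u * g) * g⁻¹ * (g⁻¹ * u * g)⁻¹ * (g⁻¹ * u * g) := by group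
  rw [h2]
  exact mul_mem (mem_sup_left h1) (mem_sup_right hu)

end Cfsg.Agent.Omega.NO3S.MidB.No

end

section


/-!
# NO-3S, natural lines, critical distance 2: `Mid` + (NO) gives `TypN` (bb OMEGA #19438, #20170): (E) ALPHA, (F) END

`Mv V Z A R B f k`, `x := R ^ k`, (D) for `x`, `x' := R ^ k⁻¹`, `[W_x, W_R] ≠ 1`.

* `Mv.pwm`, `dd_pow` : from `k ^ i` to `k`;
* `Mv.inn_alpha` : `(x, R)` is inner with middle point `A`;
* `Mv.flat` : with THEOREM INN there are commuting `w ∈ W_x`, `m ∈ W_R`, `w` moves `W_R`, `m` moves `W_x`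
  (`f₁ = k f` is an involution which interchanges `R` and `x`, `w = m ^ f₁`, `[w, m] = 1` by (STAR)).
-/

set_option autoImplicit false
set_option linter.unusedSectionVars false

namespace Cfsg.Agent.Omega.NO3S.MidB.No

open Subgroup Cfsg.Agent.Omega.NO3S.PT Cfsg.Agent.Omega.NoFF.Basic Cfsg.Agent.ZN
open Cfsg.Agent.Omega.NO3S.MidQ (Adj Com Cr UU isCj_iff com_cj)
open scoped Pointwise

variable {G : Type*} [Group G] {V Z A R B : Subgroup G} {f k : G}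

theorem dd_pow {i : ℕ} : DD V A R (k ^ i) 1 ↔ DD V A R k i := by
  unfold DD pw
  rw [pow_one, pow_one, inv_pow]

namespace Mv

theorem pwm (m : Mv V Z A R B f k) {i : ℕ} (hi : k ^ i ≠ 1) : Mv V Z A R B f (k ^ i) where
  cr := m.cr
  mem := m.mem
  ncent := m.ncent
  cent x hx := Commute.pow_left (m.cent x hx) i
  odd := Odd.of_dvd_nat m.odd (orderOf_pow_dvd i)
  ne := hi
  inv := by rw [← conj_pow, m.inv, inv_pow]
  mv j hj L hL h1 h2 := by
    rw [← pow_mul] at hj ⊢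
    exact m.mv _ hj L hL h1 h2

/-- a square root of `k` -/
theorem exists_half (m : Mv V Z A R B f k) : ∃ j : ℕ, k ^ j * k ^ j = k := by
  obtain ⟨t, ht⟩ := m.odd
  refine ⟨t + 1, ?_⟩
  rw [← pow_add]
  have : t + 1 + (t + 1) = orderOf k + 1 := by omega
  rw [this, pow_succ, pow_orderOf_eq_one, one_mul]

theorem pow_fix (m : Mv V Z A R B f k) (j : ℕ) : cj (k ^ j) A = A := by
  rw [cj_eq_iff]
  refine centralizer_le_normalizer _ (mem_centralizer_iff.2 fun x hx => ?_)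
  exact (Commute.pow_left (m.cent x hx) j).eq.symm

theorem fix (m : Mv V Z A R B f k) : cj k A = A := by
  have := m.pow_fix 1
  rwa [pow_one] at this

theorem fix_inv (m : Mv V Z A R B f k) : cj k⁻¹ A = A := by
  have := m.fix
  rw [cj_eq_iff] at this ⊢
  exact inv_mem this

theorem adjx (m : Mv V Z A R B f k) : Adj V Z (cj k R) A := by
  have := (m.cr.l.symm).cj k
  rwa [m.fix] at this

theorem adj' (m : Mv V Z A R B f k) : Adj V Z (cj k⁻¹ R) A := by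
  have := (m.cr.l.symm).cj k⁻¹
  rwa [m.fix_inv] at this

theorem pow_adj (m : Mv V Z A R B f k) (j : ℕ) : Adj V Z A (cj (k ^ j) R) := by
  have := m.cr.l.cj (k ^ j)
  rwa [m.pow_fix] at this

theorem sq_ne_one (m : Mv V Z A R B f k) : k ^ 2 ≠ 1 := by
  intro h
  apply m.ne
  have h1 : orderOf k ∣ 2 := orderOf_dvd_of_pow_eq_one h
  have h2 := m.odd
  rcases (Nat.dvd_prime Nat.prime_two).1 h1 with h3 | h3
  · exact orderOf_eq_one_iff.1 h3
  · rw [h3] at h2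
    exact absurd h2 (by decide)

variable [Finite G] {S : Sylow 2 G} {P : Subgroup G} (h : Mid S P V Z) (m : Mv V Z A R B f k)
include h m

theorem ff : f * f = 1 := h.ws_sq m.cr.r.right m.mem

theorem f_inv : f⁻¹ = f := inv_eq_of_mul_eq_one_left (m.ff h)

theorem fk : f * k = k⁻¹ * f := by
  have := m.inv
  rw [mul_inv_eq_iff_eq_mul] at this
  exact this

/-- `f` commutes with `W_R` -/
theorem f_ws {w : G} (hw : w ∈ ws V R) : f * w = w * f :=
  (mem_centralizer_iff.1 (h.com B R m.cr.r.symm m.mem) w hw).symm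

theorem fR : cj f R = R := by
  rw [cj_eq_iff]
  exact centralizer_le_normalizer _ (h.ws_le_cent' m.cr.r.symm m.mem)

/-- `x ^ f = x'` -/
theorem f_x : cj f (cj k R) = cj k⁻¹ R := by
  rw [cj_cj, m.fk h, ← cj_cj, m.fR h]

theorem ne_x : cj k R ≠ cj k⁻¹ R := by
  intro hc
  obtain ⟨L, hL, hAL, hRL⟩ := m.cr.l.line
  have h1 : cj (k ^ 2) R = R := by
    have h2 := congrArg (cj k) hc
    rw [cj_cj, cj_cj, mul_inv_cancel, cj_one, ← pow_two] at h2
    exact h2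
  refine m.mv 2 m.sq_ne_one L hL hAL hRL ?_
  refine h.line_unique m.cr.l.left m.cr.l.right m.cr.l.ne (hL.cj _) hL ?_ ?_ hAL hRL
  · have h2 := m.pow_fix 2
    rw [← h2]
    exact cj_le_cj.2 hAL
  · nth_rw 1 [← h1]
    exact cj_le_cj.2 hRL

/-- an element of `W_x` which commutes with `f` is in `W_A` -/
theorem mem_of_comm (hd : DD V A R k 1) {w : G} (hw : w ∈ ws V (cj k R)) (hfw : f * w = w * f) : w ∈ ws V A := by
  apply hd
  unfold pw
  rw [pow_one, pow_one]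
  refine ⟨hw, ?_⟩
  rw [← m.f_x h, ws_cj]
  show w ∈ cj f (ws V (cj k R))
  rw [mem_cj, mul_assoc, ← hfw, inv_mul_cancel_left]
  exact hw

/-- **ALPHA** -/
theorem inn_alpha (hd : DD V A R k 1) (hx : ¬ Com V (cj k R) R) : Inn V Z (cj k R) A R where
  cr := ⟨m.adjx, m.cr.l, hx⟩
  le a ha b hb := by
    have h1 := h.comm_mem (⟨m.adjx, m.cr.l, hx⟩ : Cr V Z (cj k R) A R) ha hb
    exact m.mem_of_comm h hd h1.1 (m.f_ws h h1.2)

/-- `f₁ = k f` interchanges `x` and `R` -/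
theorem kf_x : cj (k * f) (cj k R) = R := by
  rw [← cj_cj, m.f_x h, cj_cj, mul_inv_cancel, cj_one]

theorem kf_sq : (k * f) * (k * f) = 1 := by
  have : (k * f) * (k * f) = k * (f * k) * f := by group
  rw [this, m.fk h]
  have : k * (k⁻¹ * f) * f = f * f := by group
  rw [this, m.ff h]

theorem kf_inv : (k * f)⁻¹ = k * f := inv_eq_of_mul_eq_one_left (m.kf_sq h)

/-- `m ^ f₁ = m ^ k` for `m ∈ W_R` -/
theorem kf_conj {w : G} (hw : w ∈ ws V R) : (k * f) * w * (k * f)⁻¹ = k * w * k⁻¹ := by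
  have h1 := m.f_ws h hw
  calc (k * f) * w * (k * f)⁻¹ = k * (f * w) * f⁻¹ * k⁻¹ := by group
    _ = k * w * k⁻¹ := by rw [h1]; group

/-- `f₁ ∈ W_{B ^ (k ^ j)}` -/
theorem kf_mem {j : ℕ} (hj : k ^ j * k ^ j = k) : k * f ∈ ws V (cj (k ^ j) B) := by
  rw [ws_cj, mem_cj]
  have h1 : f * k ^ j = (k ^ j)⁻¹ * f := by
    have h2 : f * k ^ j * f⁻¹ = (k ^ j)⁻¹ := by rw [← conj_pow, m.inv, inv_pow]
    rwa [mul_inv_eq_iff_eq_mul] at h2
  have h2 : (k ^ j)⁻¹ * (k * f) * k ^ j = f := by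
    nth_rw 2 [← hj]
    calc (k ^ j)⁻¹ * (k ^ j * k ^ j * f) * k ^ j = k ^ j * (f * k ^ j) := by group
      _ = f := by rw [h1]; group
  rw [h2]
  exact m.mem

/-- `m` and `m ^ f₁` commute -/
theorem comm_kf (hd : DD V A R k 1) (hx : ¬ Com V (cj k R) R) (hI : InnN V Z) {w : G} (hw : w ∈ ws V R) :
    (k * w * k⁻¹) * w = w * (k * w * k⁻¹) := by
  obtain ⟨j, hj⟩ := m.exists_half
  set f₁ := k * f with hf₁
  have hww : w * w = 1 := h.ws_sq m.cr.l.right hw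
  have hwi : w⁻¹ = w := inv_eq_of_mul_eq_one_left hww
  have hfi : f₁⁻¹ = f₁ := m.kf_inv h
  rw [← m.kf_conj h hw, ← hf₁]
  have hu : f₁ * w * f₁⁻¹ ∈ ws V (cj k R) := by
    rw [hf₁, m.kf_conj h hw, ws_cj]
    exact conj_mem_cj hw
  have h1 := hI _ _ _ (m.inn_alpha h hd hx) _ hu w hw
  have hRj : Adj V Z R A := m.cr.l.symm
  have hAj := m.pow_adj j
  have hBj : Adj V Z (cj (k ^ j) B) (cj (k ^ j) R) := (m.cr.r.symm).cj (k ^ j)
  have hwR : cj w (cj (k ^ j) R) = cj (k ^ j) R := by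
    rw [cj_eq_iff]
    exact centralizer_le_normalizer _ (h.ws_le_cent hRj hAj hw)
  have hBj' : Adj V Z (cj w (cj (k ^ j) B)) (cj (k ^ j) R) := by
    have := hBj.cj w
    rwa [hwR] at this
  have h2 : f₁ ∈ ws V (cj (k ^ j) B) := m.kf_mem h hj
  have h3 : w * f₁ * w⁻¹ ∈ ws V (cj w (cj (k ^ j) B)) := by
    rw [ws_cj]
    exact conj_mem_cj h2
  have h4 := (mem_normalizer_iff.1 (h.ws_norm_ws hBj' hBj h3) f₁).1 h2
  have h5 : f₁ * w * f₁⁻¹ * w * (f₁ * w * f₁⁻¹)⁻¹ * w⁻¹ ∈ ws V (cj (k ^ j) B) := by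
    have h6 := inv_mem (mul_mem h4 h2)
    have h7 : (w * f₁ * w⁻¹ * f₁ * (w * f₁ * w⁻¹)⁻¹ * f₁)⁻¹ =
        f₁⁻¹ * w * f₁ * w⁻¹ * f₁⁻¹ * w * f₁⁻¹ * w⁻¹ := by group
    rw [h7] at h6
    have h8 : f₁⁻¹ * w * f₁ * w⁻¹ * f₁⁻¹ * w * f₁⁻¹ * w⁻¹ = f₁ * w * f₁⁻¹ * w * (f₁ * w * f₁⁻¹)⁻¹ * w⁻¹ := by
      simp only [mul_inv_rev, hfi, hwi, mul_assoc]
    rwa [h8] at h6
  have hst : Cr V Z A (cj (k ^ j) R) (cj (k ^ j) B) := by
    have := m.cr.cj (k ^ j)
    rwa [m.pow_fix] at this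
  exact Mid.comm_eq (h.star hst h1 h5)

/-- **END** -/
theorem flat (hd : DD V A R k 1) (hx : ¬ Com V (cj k R) R) (hI : InnN V Z) :
    ∃ w ∈ ws V (cj k R), ∃ u ∈ ws V R, w * u = u * w ∧ (∃ b ∈ ws V R, w * b ≠ b * w) ∧
      ∃ a ∈ ws V (cj k R), a * u ≠ u * a := by
  obtain ⟨a, ha, u, hu, hau⟩ : ∃ a ∈ ws V (cj k R), ∃ u ∈ ws V R, a * u ≠ u * a := by
    by_contra hcon
    push Not at hcon
    exact hx fun a ha => mem_centralizer_iff.2 fun u hu => (hcon a ha u hu).symm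
  refine ⟨k * u * k⁻¹, by rw [ws_cj]; exact conj_mem_cj hu, u, hu, m.comm_kf h hd hx hI hu, ?_, a, ha, hau⟩
  refine ⟨(k * f) * a * (k * f)⁻¹, ?_, fun hc => hau ?_⟩
  · have h1 : (k * f) * a * (k * f)⁻¹ ∈ ws V (cj (k * f) (cj k R)) := by
      rw [ws_cj]
      exact conj_mem_cj ha
    rwa [m.kf_x h] at h1
  · rw [← m.kf_conj h hu] at hc
    have h1 : (k * f) * (u * a) * (k * f)⁻¹ = (k * f) * (a * u) * (k * f)⁻¹ := by
      calc (k * f) * (u * a) * (k * f)⁻¹ = (k * f) * u * (k * f)⁻¹ * ((k * f) * a * (k * f)⁻¹) := by group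
        _ = (k * f) * a * (k * f)⁻¹ * ((k * f) * u * (k * f)⁻¹) := hc
        _ = _ := by group
    exact (mul_left_cancel (mul_right_cancel h1)).symm

end Mv

end Cfsg.Agent.Omega.NO3S.MidB.No

end

section


/-!
# NO-3S, natural lines, critical distance 2, the `(R, B)`-frame: (NO) in `G`

* `NoOvS lam` : (NO) for `(H, M)` without the quadratic condition; `KNOS` the K-input, `knos_of_mlk` : from (ML);
* `nog_wide` : (NO) in `G` at the base flag `(Z, V)`: `D ≤ C_G(Z)` is a 2-group modulo `K_Z`, normalised by `C_G(V)`,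
  centralises `V` modulo `Z`; `A ≤ D` is elementary abelian modulo `K_Z`; then `|A : A ∩ K_Z| ≤ |W_Z : C|`,
  `C = {u ∈ W_Z : [u, A] ≤ Z}`;
* `nog_of` : `Mid S P V Z`, `|Z| ≥ 4` and the K-input give `NOg V Z`; `nog_of_mlk` : from (ML) and `IsKProper G`.
-/

set_option autoImplicit false
set_option linter.unusedSectionVars false

namespace Cfsg.Agent.Omega.NO3S.MidB.No

open Subgroup Cfsg Cfsg.Agent.ZN Cfsg.Agent.MinSimple.VModule
open Cfsg.Agent.Omega.NO3S.FarQ (FlagK Img Real fixer zm)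
open Cfsg.Agent.Omega.NO3S.PT
open Cfsg.Agent.Omega.ML.Final (MLK)
open Cfsg.Agent.Omega.NOThree.Pts (conj_mem_of_le_normalizer)
open Cfsg.Agent.ClassTwoFusion.Quad (cv mem_cv cv_anti)
open scoped Pointwise

universe u

section defs

open Cfsg.Agent.Omega.NOThree.NoOver Cfsg.Agent.Omega.ML.MinFrame Cfsg.Agent.Omega.ML.Final

variable {H M : Type*} [Group H] [CommGroup M] [MulDistribMulAction H M]

/-- **(NO)**, full strength: no over-offender in `O₂(C_H(lam))`. -/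
def NoOvS (lam : Subgroup M) : Prop :=
  ∀ A : Subgroup H, A ≤ o2 (fixer lam) → (∀ a ∈ A, ∀ b ∈ A, a * b = b * a) → (∀ a ∈ A, a * a = 1) →
    Nat.card A ≤ (zm M A).index

theorem noOvS_of_mls {T : Subgroup H} {lam : Subgroup M} (F : FlagK T lam) (hML : MLS False H M) :
    NoOvS (H := H) lam := by
  have := F.finH
  have := F.finM
  intro A hA hcomm hsq
  by_contra hcon
  push Not at hcon
  have hov : Nat.card M < fo M A := by
    have h1 := Subgroup.card_mul_index (cv M (A : Set H))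
    have h2 : 0 < Nat.card (cv M (A : Set H)) := Nat.card_pos
    unfold fo
    rw [← h1, mul_comm]
    exact Nat.mul_lt_mul_of_pos_right hcon h2
  obtain ⟨B, hB⟩ := exists_min hcomm le_rfl hov
  have hBQ : B ≤ o2 (fixer lam) := hB.le.trans hA
  -- `B` centralises the orbit of every `a ∈ lam`
  have key : ∀ a ∈ lam, B ≤ fxr H (orb (⊤ : Subgroup H) a) := by
    intro a ha
    by_cases ha1 : a = 1
    · intro b _
      rw [mem_fxr_orb]
      intro g _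
      rw [ha1, smul_one, smul_one]
    have h1 := hML T (o2 (fixer lam)) B a (mem_top _) F.two le_top (by rw [relIndex_top_right]; exact F.ndvd)
      (fun t ht => F.fix t ht a ha) (o2_isPGroup _) le_top (fun q hq => MinSimple.VModule.o2_le _ hq a ha)
      (fun g _ hg q hq => conj_mem_of_le_normalizer (MinSimple.VModule.le_normalizer_o2 _) (F.lin a ha ha1 g hg) hq) hBQ
      (fun b hb => hsq b (hB.le hb)) False.elim
    by_contra hne
    set D : Subgroup H := B ⊓ fxr H (orb (⊤ : Subgroup H) a) with hD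
    have hDB : D < B := by
      refine lt_of_le_of_ne inf_le_left fun e => hne ?_
      rw [← e]
      exact inf_le_right
    have h2 := hB.lt hDB
    have h3 : orb (⊤ : Subgroup H) a ≤ cv M (D : Set H) := by
      intro m hm d hd
      exact hd.2 m hm
    have h4 : (cv M (B : Set H)).relIndex (orb (⊤ : Subgroup H) a) ≤
        (cv M (B : Set H)).relIndex (cv M (D : Set H)) :=
      relIndex_le_of_le_right h3 (index_ne_zero_of_finite)
    have h5 : D.relIndex B = (fxr H (orb (⊤ : Subgroup H) a)).relIndex B := by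
      rw [hD, inf_relIndex_left]
    rw [h5] at h2
    exact absurd (h1.trans h4) (not_le.2 h2)
  apply hB.ne_bot
  rw [eq_bot_iff]
  intro b hb
  rw [mem_bot]
  apply F.faith
  have h1 : cv M ({b} : Set H) = ⊤ := F.gen _ fun h a ha => by
    intro x hx
    rw [Set.mem_singleton_iff.1 hx]
    exact (mem_fxr_orb.1 (key a ha hb)) h (mem_top h)
  intro m
  have h2 : m ∈ cv M ({b} : Set H) := by rw [h1]; exact mem_top m
  exact h2 b rfl

end defs

/-- **The K-input (NO), full strength**, for the groups `H` with `Kg H`. -/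
def KNOS (Kg : ∀ (H : Type u) [Group H], Prop) : Prop :=
  ∀ (H M : Type u) [Group H] [CommGroup M] [MulDistribMulAction H M] (T : Subgroup H) (lam : Subgroup M),
    Kg H → FlagK T lam → NoOvS (H := H) lam

/-- **`KNOS` for K-groups from (ML).** -/
theorem knos_of_mlk (h : MLK.{u, u}) : KNOS.{u} (fun H _ => IsKGroup H) := by
  intro H M _ _ _ T lam hK F
  have := F.finH
  have := F.finM
  exact noOvS_of_mls F (h H M hK F.sq)

theorem KNOS.mono {K₁ K₂ : ∀ (H : Type u) [Group H], Prop} (h : KNOS.{u} K₂)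
    (hle : ∀ (H : Type u) [Group H], K₁ H → K₂ H) : KNOS.{u} K₁ :=
  fun H M _ _ _ T lam hK F => h H M T lam (hle H hK) F

section

variable {G : Type u} [Group G] [Finite G] {S : Sylow 2 G} {B P V Z : Subgroup G}

/-- **(NO) in `G`, wide form, at the base flag.** -/
theorem nog_wide (h : PB S B P V Z) (hf : ¬ kx V Z ≤ centralizer (V : Set G)) (hq : 4 ≤ Nat.card Z)
    (hNO : KNOS.{u} (fun H _ => Img (centralizer (Z : Set G)) H)) {D A C : Subgroup G}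
    (hDZ : D ≤ centralizer (Z : Set G)) (hDn : centralizer (V : Set G) ≤ normalizer (D : Set G))
    (hDV : ∀ d ∈ D, ∀ v ∈ V, d * v * d⁻¹ * v⁻¹ ∈ Z) (hD2 : ∀ d ∈ D, ∃ k : ℕ, d ^ 2 ^ k ∈ kx V Z)
    (hAD : A ≤ D) (hAc : ∀ a ∈ A, ∀ b ∈ A, a * b * a⁻¹ * b⁻¹ ∈ kx V Z) (hA2 : ∀ a ∈ A, a * a ∈ kx V Z)
    (hC : ∀ u, u ∈ C ↔ u ∈ ws V Z ∧ ∀ a ∈ A, a * u * a⁻¹ * u⁻¹ ∈ Z) :
    (kx V Z).relIndex A ≤ C.relIndex (ws V Z) := by
  obtain ⟨H, M, iH, iM, iA, ρ, π, r⟩ := FarB.exists_real h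
  have hVW : V ≤ ws V Z := h.V_le_ws h.ZV
  have hBZ : B ≤ centralizer (Z : Set G) := h.B_le
  have hcm : ∀ {g w : G}, g ∈ centralizer (Z : Set G) → w ∈ ws V Z →
      (g * w * g⁻¹ * w⁻¹ ∈ Z ↔ ρ g • π w = π w) := fun hg hw => FarB.real_comm h r hg hw
  -- the homomorphisms
  let f : centralizer (Z : Set G) →* H := MonoidHom.mk' (fun a => ρ a) (fun a b => r.mulρ a a.2 b b.2)
  have hfs : Function.Surjective f := fun x => by
    obtain ⟨g, hg, rfl⟩ := r.surjρ x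
    exact ⟨⟨g, hg⟩, rfl⟩
  have hfk : f.ker = (kx V Z).subgroupOf (centralizer (Z : Set G)) := by
    ext x
    rw [MonoidHom.mem_ker, mem_subgroupOf]
    exact r.kerρ x x.2
  let p : ws V Z →* M := MonoidHom.mk' (fun a => π a) (fun a b => r.mulπ a a.2 b b.2)
  have hps : Function.Surjective p := fun x => by
    obtain ⟨g, hg, rfl⟩ := r.surjπ x
    exact ⟨⟨g, hg⟩, rfl⟩
  let T : Subgroup H := (B.subgroupOf (centralizer (Z : Set G))).map f
  have hT : ∀ x, x ∈ T ↔ ∃ s ∈ B, ρ s = x := by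
    intro x
    constructor
    · rintro ⟨s, hs, rfl⟩
      exact ⟨s, mem_subgroupOf.1 hs, rfl⟩
    · rintro ⟨s, hs, rfl⟩
      exact ⟨⟨s, hBZ hs⟩, mem_subgroupOf.2 hs, rfl⟩
  let lam : Subgroup M := (V.subgroupOf (ws V Z)).map p
  have hlam : ∀ m, m ∈ lam ↔ ∃ v ∈ V, π v = m := by
    intro x
    constructor
    · rintro ⟨s, hs, rfl⟩
      exact ⟨s, mem_subgroupOf.1 hs, rfl⟩
    · rintro ⟨s, hs, rfl⟩
      exact ⟨⟨s, hVW hs⟩, mem_subgroupOf.2 hs, rfl⟩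
  have F := FarB.flagK_of h r hq hT hlam
  have hfinH := F.finH
  have hfinM := F.finM
  have hNO' : NoOvS (H := H) lam := hNO H M T lam (FarQ.img_of_real r) F
  -- the image of `C_G(V)` is the centraliser of `lam`
  have hcov : ∀ c ∈ fixer (H := H) lam, ∃ g ∈ centralizer (V : Set G), ρ g = c := by
    intro c hc
    obtain ⟨g, hg, rfl⟩ := r.surjρ c
    obtain ⟨v, hv, hvZ⟩ := h.exists_out
    have h1 : g * v * g⁻¹ * v⁻¹ ∈ Z := (hcm hg (hVW hv)).2 (hc _ ((hlam _).2 ⟨v, hv, rfl⟩))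
    obtain ⟨k, hk, -, hkv⟩ := h.K_act hf hv hvZ (Z.inv_mem h1)
    have hkC := kx_le_cent hk
    have hcen : ∀ {k}, k ∈ centralizer (Z : Set G) → ∀ z ∈ Z, k * z = z * k := fun hk z hz =>
      (mem_centralizer_iff.1 hk z hz).symm
    have h2 : k * g * v = v * (k * g) := by
      have e1 : g * v * g⁻¹ = (g * v * g⁻¹ * v⁻¹) * v := by group
      have e2 : k * v * k⁻¹ = (g * v * g⁻¹ * v⁻¹)⁻¹ * v := by rw [← hkv]; group
      have e3 := hcen hkC _ h1
      rw [← mul_inv_eq_iff_eq_mul]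
      calc k * g * v * (k * g)⁻¹ = k * (g * v * g⁻¹) * k⁻¹ := by group
        _ = k * (g * v * g⁻¹ * v⁻¹) * v * k⁻¹ := by rw [e1]; group
        _ = (g * v * g⁻¹ * v⁻¹) * (k * v * k⁻¹) := by rw [e3]; group
        _ = v := by rw [e2]; group
    refine ⟨k * g, h.mem_centralizer_of_fix (hcen (mul_mem hkC hg)) hv hvZ h2, ?_⟩
    rw [r.mulρ k hkC g hg, (r.kerρ k hkC).2 hk, one_mul]
  -- `D` maps into `O₂(C_H(lam))`
  let DH : Subgroup H := (D.subgroupOf (centralizer (Z : Set G))).map f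
  have hDH : ∀ x, x ∈ DH ↔ ∃ s ∈ D, ρ s = x := by
    intro x
    constructor
    · rintro ⟨s, hs, rfl⟩
      exact ⟨s, mem_subgroupOf.1 hs, rfl⟩
    · rintro ⟨s, hs, rfl⟩
      exact ⟨⟨s, hDZ hs⟩, mem_subgroupOf.2 hs, rfl⟩
  have hρpow : ∀ {s : G}, s ∈ centralizer (Z : Set G) → ∀ j : ℕ, ρ (s ^ j) = ρ s ^ j := fun {s} hs j =>
    map_pow f ⟨s, hs⟩ j
  have hD1 : DH ≤ fixer (H := H) lam := by
    intro x hx m hm
    obtain ⟨d, hd, rfl⟩ := (hDH x).1 hx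
    obtain ⟨v, hv, rfl⟩ := (hlam m).1 hm
    exact (hcm (hDZ hd) (hVW hv)).1 (hDV d hd v hv)
  have hDp : IsPGroup 2 DH := by
    rintro ⟨x, hx⟩
    obtain ⟨d, hd, rfl⟩ := (hDH x).1 hx
    obtain ⟨k, hk⟩ := hD2 d hd
    refine ⟨k, Subtype.ext ?_⟩
    show ρ d ^ 2 ^ k = 1
    rw [← hρpow (hDZ hd)]
    exact (r.kerρ _ (pow_mem (hDZ hd) _)).2 hk
  have hDm : fixer (H := H) lam ≤ normalizer (DH : Set H) := by
    intro c hc
    obtain ⟨g, hg, rfl⟩ := hcov c hc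
    have hgZ : g ∈ centralizer (Z : Set G) := centralizer_le h.ZV hg
    rw [mem_normalizer_iff]
    have key : ∀ {g : G}, g ∈ centralizer (V : Set G) → ∀ x ∈ DH, ρ g * x * (ρ g)⁻¹ ∈ DH := by
      intro g hg x hx
      have hgZ : g ∈ centralizer (Z : Set G) := centralizer_le h.ZV hg
      obtain ⟨d, hd, rfl⟩ := (hDH x).1 hx
      refine (hDH _).2 ⟨g * d * g⁻¹, (mem_normalizer_iff.1 (hDn hg) d).1 hd, ?_⟩
      rw [r.mulρ _ (mul_mem hgZ (hDZ hd)) _ (inv_mem hgZ), r.mulρ _ hgZ _ (hDZ hd), FarB.real_ρinv h r hgZ]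
    intro x
    refine ⟨fun hx => key hg x hx, fun hx => ?_⟩
    have h1 := key (inv_mem hg) _ hx
    rw [FarB.real_ρinv h r hgZ] at h1
    have e : (ρ g)⁻¹ * (ρ g * x * (ρ g)⁻¹) * (ρ g)⁻¹⁻¹ = x := by group
    rwa [e] at h1
  have hDo : DH ≤ o2 (fixer (H := H) lam) := MinSimple.VModule.le_o2 hD1 hDp hDm
  -- the image of `A`
  let AH : Subgroup H := (A.subgroupOf (centralizer (Z : Set G))).map f
  have hAZ : A ≤ centralizer (Z : Set G) := hAD.trans hDZ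
  have hAH : ∀ x, x ∈ AH ↔ ∃ s ∈ A, ρ s = x := by
    intro x
    constructor
    · rintro ⟨s, hs, rfl⟩
      exact ⟨s, mem_subgroupOf.1 hs, rfl⟩
    · rintro ⟨s, hs, rfl⟩
      exact ⟨⟨s, hAZ hs⟩, mem_subgroupOf.2 hs, rfl⟩
  have hAc' : ∀ x ∈ AH, ∀ y ∈ AH, x * y = y * x := by
    intro x hx y hy
    obtain ⟨a, ha, rfl⟩ := (hAH x).1 hx
    obtain ⟨b, hb, rfl⟩ := (hAH y).1 hy
    have h1 := hAc a ha b hb
    have h2 : ρ (a * b * a⁻¹ * b⁻¹) = 1 := (r.kerρ _ (kx_le_cent h1)).2 h1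
    have h3 : f (⟨a, hAZ ha⟩ * ⟨b, hAZ hb⟩ * ⟨a, hAZ ha⟩⁻¹ * ⟨b, hAZ hb⟩⁻¹) = 1 := h2
    rw [map_mul, map_mul, map_mul, map_inv, map_inv, mul_inv_eq_one, mul_inv_eq_iff_eq_mul] at h3
    exact h3
  have hA2' : ∀ x ∈ AH, x * x = 1 := by
    intro x hx
    obtain ⟨a, ha, rfl⟩ := (hAH x).1 hx
    rw [← r.mulρ a (hAZ ha) a (hAZ ha)]
    exact (r.kerρ _ (mul_mem (hAZ ha) (hAZ ha))).2 (hA2 a ha)
  have hAo : AH ≤ o2 (fixer (H := H) lam) := by
    refine le_trans ?_ hDo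
    exact Subgroup.map_mono (Subgroup.comap_mono hAD)
  have hmain := hNO' AH hAo hAc' hA2'
  -- the two indices
  have e1 : Nat.card AH = (kx V Z).relIndex A := by
    have h1 := Subgroup.relIndex_ker (A.subgroupOf (centralizer (Z : Set G))) f
    rw [hfk, relIndex_subgroupOf hAZ] at h1
    exact h1.symm
  have e2 : (zm M AH).index = C.relIndex (ws V Z) := by
    have h1 : (zm M AH).comap p = C.subgroupOf (ws V Z) := by
      ext u
      rw [mem_comap, mem_subgroupOf, hC]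
      constructor
      · intro hu
        refine ⟨u.2, fun a ha => ?_⟩
        rw [hcm (hAZ ha) u.2]
        exact hu (ρ a) ((hAH _).2 ⟨a, ha, rfl⟩)
      · rintro ⟨-, hu⟩ x hx
        obtain ⟨a, ha, rfl⟩ := (hAH x).1 hx
        exact (hcm (hAZ ha) u.2).1 (hu a ha)
    rw [relIndex, ← h1, index_comap_of_surjective _ hps]
  rw [← e1, ← e2]
  exact hmain

/-- `Img` for conjugate subgroups -/
theorem img_cj {C : Subgroup G} (g : G) {H : Type u} [Group H] (hI : Img (cj g C) H) : Img C H := by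
  obtain ⟨f, hf⟩ := hI
  refine ⟨f.comp (MonoidHom.mk' (fun c : C => (⟨g * c * g⁻¹, conj_mem_cj c.2⟩ : (cj g C : Subgroup G)))
    (fun a b => Subtype.ext (by
      show g * (a * b : G) * g⁻¹ = (g * a * g⁻¹) * (g * b * g⁻¹)
      group))), fun x => ?_⟩
  obtain ⟨y, rfl⟩ := hf x
  refine ⟨⟨g⁻¹ * y * g, mem_cj.1 y.2⟩, ?_⟩
  show f _ = f y
  congr 1
  apply Subtype.ext
  show g * (g⁻¹ * y * g) * g⁻¹ = y
  group

/-- **`NOg`** -/
theorem nog_of (h : Mid S P V Z) (hq : 4 ≤ Nat.card Z)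
    (hNO : KNOS.{u} (fun H _ => Img (centralizer (Z : Set G)) H)) : NOg V Z := by
  intro X L N D C hX hL hXL hNL hNn hN2 hDN hD2 hC
  obtain ⟨g, rfl, rfl⟩ := h.exists_conj hX hL hXL
  have h' := h.conj g
  have hNO' : KNOS.{u} (fun H _ => Img (centralizer ((cj g Z : Subgroup G) : Set G)) H) :=
    hNO.mono fun H _ hI => by
      rw [← cj_centralizer] at hI
      exact img_cj g hI
  have hq' : 4 ≤ Nat.card (cj g Z : Subgroup G) := by rw [card_cj]; exact hq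
  have hcc : ∀ a ∈ D, ∀ b ∈ D, a * b * a⁻¹ * b⁻¹ ∈ kx V (cj g Z) := by
    intro a ha b hb
    have hDX : ∀ d ∈ D, d ∈ normalizer ((kx V (cj g Z) : Subgroup G) : Set G) := fun d hd =>
      normalizer_le_kx V _ (centralizer_le_normalizer _ (centralizer_le hXL (hNL (hDN hd))))
    have h1 := hD2 _ (mul_mem ha hb)
    have h2 := hD2 a ha
    have h3 := hD2 b hb
    -- `a b a b ∈ K`, `b b ∈ K`, `a a ∈ K`
    have e : a * b * a⁻¹ * b⁻¹ = (a * b * (a * b)) * (b⁻¹ * ((a * a)⁻¹) * b) * (b * b)⁻¹ := by group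
    rw [e]
    refine mul_mem (mul_mem h1 ?_) (inv_mem h3)
    have h4 := (mem_normalizer_iff.1 (inv_mem (hDX b hb)) _).1 (inv_mem h2)
    rwa [inv_inv] at h4
  have hws : ws (cj g V) (cj g Z) = ws V (cj g Z) := ws_cj_left V _ g
  have hkx : kx (cj g V) (cj g Z) = kx V (cj g Z) := kx_cj_left V _ g
  have key := nog_wide (B := ((g • S : Sylow 2 G) : Subgroup G) ⊓ centralizer ((cj g Z : Subgroup G) : Set G))
    h'.pl h'.hf hq' hNO' (D := N) (A := D) (C := C)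
    (hNL.trans (centralizer_le (cj_le_cj.2 h.pl.ZV))) hNn
    (fun d hd v hv => by
      have h1 : v * d = d * v := mem_centralizer_iff.1 (hNL hd) v hv
      have e : d * v * d⁻¹ * v⁻¹ = 1 := by rw [← h1]; group
      rw [e]; exact one_mem _)
    (by rw [hkx]; exact hN2) hDN (by rw [hkx]; exact hcc) (by rw [hkx]; exact hD2) (by rw [hws]; exact hC)
  rw [hws, hkx] at key
  have hCle : C ≤ ws V (cj g Z) := fun u hu => ((hC u).1 hu).1
  have h1 := Subgroup.card_mul_index (C.subgroupOf (ws V (cj g Z)))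
  have h2 : Nat.card (C.subgroupOf (ws V (cj g Z))) = Nat.card C :=
    Nat.card_congr (subgroupOfEquivOfLe hCle).toEquiv
  rw [h2] at h1
  calc (kx V (cj g Z)).relIndex D * Nat.card C ≤ C.relIndex (ws V (cj g Z)) * Nat.card C :=
        Nat.mul_le_mul_right _ key
    _ = Nat.card (ws V (cj g Z)) := by rw [mul_comm]; exact h1

/-- **`NOg` from (ML)** -/
theorem nog_of_mlk (h : Mid S P V Z) (hq : 4 ≤ Nat.card Z) (hG : IsKProper G) (hC : centralizer (Z : Set G) ≠ ⊤)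
    (hML : MLK.{u, u}) : NOg V Z :=
  nog_of h hq ((knos_of_mlk hML).mono fun H _ hI => FarQ.kgroup_of_img hG hC H hI)

end

end Cfsg.Agent.Omega.NO3S.MidB.No

end
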