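import Cfsg.Agent.Mrg.Omega.NO3S.MidB.Main
import Cfsg.Agent.Mrg.Omega.NO3S.MidB.Front
import Cfsg.Agent.Mrg.Omega.NO3S.MidB.No.Main
import Cfsg.Agent.Mrg.Omega.NO3S.MidB.Base
import Cfsg.Agent.Mrg.Omega.NO3S.FarB.Node
import Cfsg.Agent.Mrg.Omega.NO3S.ThmB.Main


/-!
# NO-3S, natural lines, `q ≥ 4`, critical distance 2: the socket `MidBF`, plugged

* `hf_of_fullK` : `FullK` gives (F1);
* `Mid.false_of_full` : `Mid` with a critical triple, (NO) and `FullK` is contradictory;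
* `midBF'` : **the socket `MidBF K`** from (ML).
-/

set_option autoImplicit false

namespace Cfsg.Agent.Omega.NO3S.MidB

open Subgroup Cfsg Cfsg.Agent.ZN Cfsg.Agent.Omega.NO3S.PT
open Cfsg.Agent.Omega.MinPar Cfsg.Agent.Omega.Frame Cfsg.Agent.Omega.FrameNOFF Cfsg.Agent.Omega.NatPair
open Cfsg.Agent.Omega.NoFF.Lines (Crit)
open Cfsg.Agent.Omega.ML.Final (MLK)
open Cfsg.Agent.Omega.NO3S.MidQ (TypN Cr)

universe u

section

variable {G : Type*} [Group G] [Finite G] {S : Sylow 2 G} {B P V Z : Subgroup G}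

/-- (F1) from `FullK` -/
theorem hf_of_fullK (h : PB S B P V Z) (hF : FullK V Z) : ¬ kx V Z ≤ centralizer (V : Set G) := by
  intro hcon
  obtain ⟨w, hw, hwZ⟩ := h.exists_out
  obtain ⟨z, hz, hz1⟩ := Z.bot_or_exists_ne_one.resolve_left h.Zne
  obtain ⟨k, hk, e⟩ := hF w (h.V_le_ws h.ZV hw) hwZ z hz
  apply hz1
  rw [← e, ← mem_centralizer_iff.1 (hcon hk) w hw, mul_inv_cancel_right, mul_inv_cancel]

/-- **`Mid` + `q ≥ 4` + (NO) + `FullK`: no critical triple** -/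
theorem Mid.false_of_full (h : Mid S P V Z) (hq : 4 ≤ Nat.card Z) (hNO : No.NOg V Z) (hF : FullK V Z)
    (hex : ∃ A R C, Cr V Z A R C) : False :=
  h.no_typN (h.typN_of_no hq hNO hF) hex

end

/-- **The socket `MidBF`** from (ML). -/
theorem midBF' {K : Cls.{u}} (hML : MLK.{u, u}) : NO3S.MidBF K := by
  intro G _ _ _ S P h F _ _ _ hF _ B R hB hFull y hc
  have h4 : 4 ≤ Nat.card R := hB.card.symm ▸ hF
  obtain ⟨hM, hex⟩ := front hB (hf_of_fullK hB.pb hFull) hc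
  exact (hM.false_of_full h4 (No.nog_of_mlk hM h4 h.toHyp.ctx.kproper
    (FarB.centralizer_ne_top h.toHyp hB.pb.Zne) hML) hFull hex).elim

end Cfsg.Agent.Omega.NO3S.MidB
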