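import Cfsg.Agent.Mrg.Omega.NO3S.MidB.TGEnd


/-!
# NO-3S, the `(R, B)`-frame, TYPE N, case (A1): (H2) (bb OMEGA #18317, TCARD 5, C1)

Let `h : TF S P V Z`.

* `TF.exists_comm'` : `Cr R A C`, `β ∈ W_R` moved by `W_C`: every `α ∈ A` is `[g, β]`, `g ∈ W_C`;
* `TF.exists_of_cr'` : (under `Sml`) `U_A = W_C C_{U_A}(W_R)`;
* **`TF.h2`** : `Sml V Z → H2 V Z`;
* `TF.false_of_sml`.
-/

set_option autoImplicit false
set_option linter.unusedSectionVars false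

namespace Cfsg.Agent.Omega.NO3S.MidB

open Subgroup Cfsg.Agent.Omega.NO3S.PT Cfsg.Agent.Omega.NoFF.Basic Cfsg.Agent.ZN
open Cfsg.Agent.Omega.NO3S.MidQ (Adj Com Cr UU ws_of kx_of isCj_iff adj_iff com_iff cr_iff UU_of isCj_symm isCj_trans
  com_cj UU_cj le_UU normalizer_le_UU isPGroup_sSup FlagCan PtCan ff mem_ff ff_cj TypN cw mem_cw cw_le cw_cj Jo jo_cj zu
  H2)
open scoped Pointwise

variable {G : Type*} [Group G] {V Z X Y R L A A' B B' C : Subgroup G}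

namespace TF

variable [Finite G] {S : Sylow 2 G} {P : Subgroup G} (h : TF S P V Z)
include h

/-- `w ↦ [w, β] ∈ A` for `w ∈ U_A`, `β ∈ W_R`, `A ~ R` -/
theorem comm_mul (hA : Adj V Z A R) {w w' β : G} (hw : w ∈ UU V Z A) (hw' : w' ∈ UU V Z A) (hβ : β ∈ ws V R) :
    w * w' * β * (w * w')⁻¹ * β⁻¹ = (w * β * w⁻¹ * β⁻¹) * (w' * β * w'⁻¹ * β⁻¹) := by
  have hcen : ∀ w ∈ UU V Z A, ∀ a ∈ A, w * a = a * w := fun w hw a ha =>
    (mem_centralizer_iff.1 (h.UU_le_cent_pt hA.left hw) a ha).symm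
  have hval : ∀ w ∈ UU V Z A, w * β * w⁻¹ * β⁻¹ ∈ A := fun w hw => h.comm_adj hA hw hβ
  have e1 : w * w' * β * (w * w')⁻¹ * β⁻¹ = w * (w' * β * w'⁻¹ * β⁻¹) * (β * w⁻¹ * β⁻¹) := by group
  rw [e1, hcen _ hw _ (hval _ hw'), mul_assoc]
  have e2 : w * (β * w⁻¹ * β⁻¹) = w * β * w⁻¹ * β⁻¹ := by group
  rw [e2]
  exact h.ws_comm hA.left (h.pt_le_ws hA.left (hval _ hw')) (h.pt_le_ws hA.left (hval _ hw))

/-- **(0')** `(R, C)` critical with middle `A`, `β ∈ W_R` not centralised by `W_C`: `[W_C, β] = A` elementwise -/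
theorem exists_comm' (hc : Cr V Z R A C) {β α : G} (hβ : β ∈ ws V R) (hmv : ¬ ∀ w ∈ ws V C, w * β = β * w)
    (hα : α ∈ A) : ∃ g ∈ ws V C, g * β * g⁻¹ * β⁻¹ = α := by
  have hβC : ∀ c ∈ C, β * c = c * β := fun c hcC =>
    (mem_centralizer_iff.1 (h.ws_le_cent hc.l hc.r hβ) c hcC).symm
  obtain ⟨F, hF, hFβ⟩ : ∃ F, Adj V Z F C ∧ ¬ F ≤ centralizer ({β} : Set G) := by
    by_contra hno
    push Not at hno
    refine hmv fun w hw => ?_
    have h1 := h.ws_le_of (U := centralizer ({β} : Set G)) hc.r.right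
      (fun c hcC => mem_centralizer_singleton_iff.2 (hβC c hcC).symm) hno hw
    exact mem_centralizer_singleton_iff.1 h1
  have hFW : F ≤ ws V C := h.adj_le_ws hF.symm
  have hval : ∀ w ∈ F, w * β * w⁻¹ * β⁻¹ ∈ A := fun w hw =>
    h.comm_adj hc.l.symm (le_UU hc.r.symm (hFW hw)) hβ
  let f : F → A := fun w => ⟨w.1 * β * w.1⁻¹ * β⁻¹, hval w.1 w.2⟩
  have hf : Function.Injective f := by
    intro x y hxy
    have h1 : x.1 * β * x.1⁻¹ * β⁻¹ = y.1 * β * y.1⁻¹ * β⁻¹ := congrArg Subtype.val hxy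
    have h2 : x.1 * β * x.1⁻¹ = y.1 * β * y.1⁻¹ := mul_right_cancel h1
    have h3 : β * (y.1⁻¹ * x.1) = y.1⁻¹ * x.1 * β := by
      calc β * (y.1⁻¹ * x.1) = y.1⁻¹ * (y.1 * β * y.1⁻¹) * x.1 := by group
        _ = y.1⁻¹ * (x.1 * β * x.1⁻¹) * x.1 := by rw [h2]
        _ = y.1⁻¹ * x.1 * β := by group
    by_contra hne
    have h4 : y.1⁻¹ * x.1 ≠ 1 := fun e => hne (Subtype.ext (inv_mul_eq_one.1 e).symm)
    refine hFβ fun w hw => mem_centralizer_singleton_iff.2 ?_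
    exact (h.t3 hF.symm (h.twoEl_ws hc.l.left hβ) hβC (mul_mem (inv_mem y.2) x.2) h4 h3 w hw).symm
  have hcard : Nat.card A ≤ Nat.card F := by
    rw [h.card_pt hF.left, h.card_pt hc.l.right]
  obtain ⟨x, hx⟩ := (hf.bijective_of_nat_card_le hcard).2 ⟨α, hα⟩
  exact ⟨x.1, hFW x.2, congrArg Subtype.val hx⟩

/-- (A1): an element of `U_A` commuting with an element of `B#`, `A → B` at `R`, centralises `W_R` -/
theorem cent_of_sml (hS : Sml V Z) (hj : Jo V Z R A B) {x β : G} (hx : x ∈ UU V Z A) (hβ : β ∈ B) (hβ1 : β ≠ 1)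
    (hxβ : x * β = β * x) : ∀ w ∈ ws V R, x * w = w * x := by
  refine hS R A B hj x hx ?_
  exact h.t3 hj.r.symm (h.twoEl_UU hx)
    (fun y hy => (mem_centralizer_iff.1 (h.UU_le_cent_adj hj.l.symm hx) y hy).symm) hβ hβ1 hxβ

/-- `(R, C)` critical with middle `A`: some `B ~ R` is moved by `W_C` -/
theorem exists_mv (hc : Cr V Z R A C) : ∃ B β, Jo V Z R A B ∧ β ∈ B ∧ β ≠ 1 ∧ ¬ ∀ w ∈ ws V C, w * β = β * w := by
  obtain ⟨B, hB, hBC⟩ : ∃ B, Adj V Z B R ∧ ¬ B ≤ centralizer ((ws V C : Subgroup G) : Set G) := by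
    by_contra hno
    push Not at hno
    refine hc.ne (h.ws_le_of hc.l.left ?_ hno)
    exact le_centralizer_iff.1 (h.ws_le_cent hc.symm.l hc.symm.r)
  obtain ⟨β, hβ, hβC⟩ := SetLike.not_le_iff_exists.1 hBC
  have h1 : ¬ ∀ w ∈ ws V C, w * β = β * w := fun e => hβC (mem_centralizer_iff.2 e)
  refine ⟨B, β, ⟨hc.l.symm, hB, fun e => hBC (e.trans (centralizer_le (le_UU hc.r.symm)))⟩, hβ, ?_, h1⟩
  rintro rfl
  exact h1 fun w _ => by rw [mul_one, one_mul]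

/-- `U_A = W_C C_{U_A}(W_R)` -/
theorem exists_of_cr' (hS : Sml V Z) (hc : Cr V Z R A C) {u : G} (hu : u ∈ UU V Z A) :
    ∃ w ∈ ws V C, ∀ x ∈ ws V R, w⁻¹ * u * x = x * (w⁻¹ * u) := by
  obtain ⟨B, β, hj, hβ, hβ1, hmv⟩ := h.exists_mv hc
  have hβW := h.adj_le_ws hj.r.symm hβ
  obtain ⟨w, hw, hwβ⟩ := h.exists_comm' hc hβW hmv (h.comm_adj hj.l hu hβW)
  refine ⟨w, hw, h.cent_of_sml hS hj (mul_mem (inv_mem (le_UU hc.r.symm hw)) hu) hβ hβ1 ?_⟩
  have h4 : w * β * w⁻¹ = u * β * u⁻¹ := mul_right_cancel hwβ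
  calc w⁻¹ * u * β = w⁻¹ * (u * β * u⁻¹) * u := by group
    _ = w⁻¹ * (w * β * w⁻¹) * u := by rw [h4]
    _ = β * (w⁻¹ * u) := by group

/-- **(H2)** in case (A1) -/
theorem h2 (_hs : JSym V Z) (hS : Sml V Z) : H2 V Z := by
  intro C A hA
  obtain ⟨R, hc'⟩ := h.exists_crit hA.symm
  have hc : Cr V Z R A C := hc'.symm
  obtain ⟨B, β, hj, hβ, hβ1, hmv⟩ := h.exists_mv hc
  have hβW := h.adj_le_ws hj.r.symm hβ
  have hWU : ws V C ≤ UU V Z A := le_UU hc.r.symm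
  let f : ws V C →* A :=
    { toFun := fun w => ⟨w.1 * β * w.1⁻¹ * β⁻¹, h.comm_adj hj.l (hWU w.2) hβW⟩
      map_one' := Subtype.ext (by simp)
      map_mul' := fun w w' => Subtype.ext (h.comm_mul hj.l (hWU w.2) (hWU w'.2) hβW) }
  have hker : f.ker = (centralizer ((UU V Z A : Subgroup G) : Set G)).subgroupOf (ws V C) := by
    ext w
    rw [MonoidHom.mem_ker, mem_subgroupOf]
    constructor
    · intro h3
      have h4 : w.1 * β * w.1⁻¹ * β⁻¹ = 1 := congrArg Subtype.val h3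
      rw [mul_inv_eq_one, mul_inv_eq_iff_eq_mul] at h4
      have h5 := h.cent_of_sml hS hj (hWU w.2) hβ hβ1 h4
      refine mem_centralizer_iff.2 fun u hu => ?_
      obtain ⟨v, hv, hvu⟩ := h.exists_of_cr' hS hc.symm hu
      have h6 := hvu w.1 w.2
      have h7 := h5 v hv
      calc u * w.1 = v * (v⁻¹ * u * w.1) := by group
        _ = v * (w.1 * (v⁻¹ * u)) := by rw [h6]
        _ = v * w.1 * (v⁻¹ * u) := by group
        _ = w.1 * v * (v⁻¹ * u) := by rw [h7]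
        _ = w.1 * u := by group
    · intro h3
      apply Subtype.ext
      show w.1 * β * w.1⁻¹ * β⁻¹ = 1
      rw [mul_inv_eq_one, mul_inv_eq_iff_eq_mul]
      exact (mem_centralizer_iff.1 h3 β (le_UU hc.l hβW)).symm
  have hrange : f.range = ⊤ := by
    rw [eq_top_iff]
    rintro ⟨α, hα⟩ -
    obtain ⟨g, hg, hgα⟩ := h.exists_comm' hc hβW hmv hα
    exact ⟨⟨g, hg⟩, Subtype.ext hgα⟩
  have h6 := index_ker f
  rw [hker, hrange] at h6
  rw [relIndex, h6, card_top, h.card_pt hA.left]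

/-- case (A1) is impossible -/
theorem false_of_sml (hs : JSym V Z) (hd : JDist V Z) (hS : Sml V Z) : False := h.false_of_h2 (h.h2 hs hS) hd

end TF

end Cfsg.Agent.Omega.NO3S.MidB
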